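import Cfsg.Agent.S3820
import Mathlib.GroupTheory.Sylow
import Mathlib.GroupTheory.PGroup

/-!
# Subgroups containing a Sylow subgroup: criteria for pronormality
-/

set_option autoImplicit false

namespace CfsgLib.Pronormal

open Cfsg

variable {G : Type*} [Group G] [Finite G] {p : ℕ} [Fact p.Prime]

/-- A subgroup of index prime to `p` contains a Sylow `p`-subgroup. -/
theorem exists_sylow_le {H : Subgroup G} (hH : ¬ p ∣ H.index) : ∃ S : Sylow p G, (S : Subgroup G) ≤ H := by
  obtain ⟨P⟩ : Nonempty (Sylow p H) := Sylow.nonempty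
  refine ⟨Sylow.ofCard ((P : Subgroup H).map H.subtype) ?_, Subgroup.map_subtype_le _⟩
  rw [Nat.card_congr (Subgroup.equivMapOfInjective _ _ H.subtype_injective).toEquiv.symm, P.card_eq_multiplicity]
  conv_rhs => rw [← H.index_mul_card]
  rw [Nat.factorization_mul H.index_ne_zero_of_finite Nat.card_pos.ne', Finsupp.add_apply,
    Nat.factorization_eq_zero_of_not_dvd hH, zero_add]

/-- A Sylow subgroup is pronormal. -/
theorem sylow_pronormal (S : Sylow p G) : IsPronormal (S : Subgroup G) := by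
  intro g
  set A := (S : Subgroup G).map (MulAut.conj g).toMonoidHom
  have hT : ((g • S : Sylow p G) : Subgroup G) = A := rfl
  set J := (S : Subgroup G) ⊔ A
  have h1 : (S : Subgroup G) ≤ J := le_sup_left
  have h2 : ((g • S : Sylow p G) : Subgroup G) ≤ J := hT ▸ le_sup_right
  obtain ⟨x, hx⟩ := MulAction.exists_smul_eq J (S.subtype h1) ((g • S).subtype h2)
  refine ⟨x.1, x.2, ?_⟩
  have h : ((x • S.subtype h1 : Sylow p J) : Subgroup J).map J.subtype = A := by
    rw [hx, Sylow.coe_subtype, Subgroup.map_subgroupOf_eq_of_le h2, hT]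
  change (((S : Subgroup G).subgroupOf J).map (MulAut.conj x).toMonoidHom).map J.subtype = A at h
  rw [Subgroup.map_map] at h
  show A = _
  rw [← h]
  conv_rhs => rw [← Subgroup.map_subgroupOf_eq_of_le h1, Subgroup.map_map]
  congr 1

/-- The reduction to the normalizer of a Sylow subgroup. -/
theorem of_sylow (S : Sylow p G) {H : Subgroup G} (hSH : (S : Subgroup G) ≤ H)
    (h : ∀ n ∈ Subgroup.normalizer ((S : Subgroup G) : Set G), ∃ w ∈ H ⊔ H.map (MulAut.conj n).toMonoidHom,
      H.map (MulAut.conj n).toMonoidHom = H.map (MulAut.conj w).toMonoidHom) : IsPronormal H :=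
  (Cfsg.Agent.S3820.result (S : Subgroup G) H hSH (sylow_pronormal S)).2 h

/-- An overgroup of a Sylow subgroup normalised by that subgroup's normalizer is pronormal. -/
theorem of_normalizer_le (S : Sylow p G) {H : Subgroup G} (hSH : (S : Subgroup G) ≤ H)
    (h : Subgroup.normalizer ((S : Subgroup G) : Set G) ≤ Subgroup.normalizer (H : Set G)) : IsPronormal H :=
  of_sylow S hSH fun n hn => ⟨1, one_mem _, by
    rw [Cfsg.Agent.S3820.map_conj_eq_self.2 (h hn), Cfsg.Agent.S3820.map_conj_one]⟩

/-- If every overgroup of one Sylow subgroup is normalised by its normalizer then every subgroup of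
index prime to `p` is pronormal. -/
theorem of_all_overgroups (S₀ : Sylow p G)
    (h : ∀ H : Subgroup G, (S₀ : Subgroup G) ≤ H →
      Subgroup.normalizer ((S₀ : Subgroup G) : Set G) ≤ Subgroup.normalizer (H : Set G))
    {H : Subgroup G} (hH : ¬ p ∣ H.index) : IsPronormal H := by
  obtain ⟨S, hS⟩ := exists_sylow_le hH
  obtain ⟨a, ha⟩ := MulAction.exists_smul_eq G S S₀
  refine of_normalizer_le S hS ?_
  have e : (S₀ : Subgroup G) = (S : Subgroup G).map (MulAut.conj a).toMonoidHom := by
    rw [← ha, Sylow.coe_subgroup_smul, Subgroup.pointwise_smul_def]; rfl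
  have hle : (S₀ : Subgroup G) ≤ H.map (MulAut.conj a).toMonoidHom := e ▸ Subgroup.map_mono hS
  intro n hn
  have h1 := h _ hle (show a * n * a⁻¹ ∈ _ by
    rw [e]
    have := Subgroup.mem_map_of_mem (MulAut.conj a).toMonoidHom hn
    rw [Subgroup.map_normalizer_eq_of_bijective _ (MulAut.conj a).bijective] at this
    exact this)
  rw [← Subgroup.map_normalizer_eq_of_bijective _ (MulAut.conj a).bijective] at h1
  obtain ⟨k, hk, hk'⟩ := h1
  exact (MulAut.conj a).injective hk' ▸ hk

/-- All subgroups of index prime to `p` are pronormal if a Sylow subgroup is self-normalising. -/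
theorem of_self_normalizing (S₀ : Sylow p G)
    (h : Subgroup.normalizer ((S₀ : Subgroup G) : Set G) ≤ (S₀ : Subgroup G))
    {H : Subgroup G} (hH : ¬ p ∣ H.index) : IsPronormal H :=
  of_all_overgroups S₀ (fun _ hle => h.trans (hle.trans Subgroup.le_normalizer)) hH

open scoped Pointwise in
/-- If every conjugate of a Sylow subgroup `U` together with `U` generates a subgroup absorbing the conjugates
under `N(U)`, and `N(U)` is abelian modulo `U`, then the overgroups of `U` are normalised by `N(U)`. -/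
theorem normalizer_le_of_absorb (U : Sylow p G)
    (hK : ∀ b ∈ Subgroup.normalizer ((U : Subgroup G) : Set G), ∀ g : G, ∀ x ∈ (U : Subgroup G),
      b * (g * x * g⁻¹) * b⁻¹ ∈ Subgroup.closure (((U : Subgroup G) : Set G) ∪ ((fun y => g * y * g⁻¹) '' (U : Subgroup G))))
    (hcomm : ∀ b ∈ Subgroup.normalizer ((U : Subgroup G) : Set G), ∀ c ∈ Subgroup.normalizer ((U : Subgroup G) : Set G),
      b * c * b⁻¹ * c⁻¹ ∈ (U : Subgroup G))
    {H : Subgroup G} (hUH : (U : Subgroup G) ≤ H) :
    Subgroup.normalizer ((U : Subgroup G) : Set G) ≤ Subgroup.normalizer (H : Set G) := by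
  set B := Subgroup.normalizer ((U : Subgroup G) : Set G)
  set L := Subgroup.closure {z | ∃ h ∈ H, ∃ x ∈ (U : Subgroup G), z = h * x * h⁻¹} with hL
  have hLH : L ≤ H := by
    refine (Subgroup.closure_le _).2 ?_
    rintro z ⟨h, hh, x, hx, rfl⟩
    exact mul_mem (mul_mem hh (hUH hx)) (inv_mem hh)
  have hUL : (U : Subgroup G) ≤ L := fun x hx => Subgroup.subset_closure ⟨1, one_mem _, x, hx, by group⟩
  have hconjL : ∀ h ∈ H, ∀ x ∈ (U : Subgroup G), h * x * h⁻¹ ∈ L := fun h hh x hx =>
    Subgroup.subset_closure ⟨h, hh, x, hx, rfl⟩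
  have hBL : ∀ b ∈ B, ∀ z ∈ L, b * z * b⁻¹ ∈ L := by
    intro b hb z hz
    refine (Subgroup.closure_le (K := L.comap (MulAut.conj b).toMonoidHom)).2 ?_ hz
    rintro z ⟨h, hh, x, hx, rfl⟩
    have hle : Subgroup.closure (((U : Subgroup G) : Set G) ∪ ((fun y => h * y * h⁻¹) '' (U : Subgroup G))) ≤ L := by
      refine (Subgroup.closure_le _).2 ?_
      rintro w (hw | ⟨y, hy, rfl⟩)
      exacts [hUL hw, hconjL h hh y hy]
    exact hle (hK b hb h x hx)
  have key : ∀ b ∈ B, ∀ h ∈ H, b * h * b⁻¹ ∈ H := by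
    intro b hb h hh
    have hle' : ((h • U : Sylow p G) : Subgroup G) ≤ L := by
      rw [Sylow.coe_subgroup_smul, Subgroup.pointwise_smul_def]
      rintro _ ⟨x, hx, rfl⟩
      exact hconjL h hh x hx
    obtain ⟨y, hy⟩ := MulAction.exists_smul_eq L (U.subtype hUL) ((h • U).subtype hle')
    have hy' : (y : G) • U = h • U := by
      have e := (Sylow.smul_subtype hUL y).symm.trans hy
      exact Sylow.subtype_injective e
    have hN : (y : G)⁻¹ * h ∈ B := Sylow.smul_eq_iff_mem_normalizer.1 (by
      rw [mul_smul, ← hy', inv_smul_smul])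
    have e : b * h * b⁻¹ = (b * y * b⁻¹) *
        ((b * ((y : G)⁻¹ * h) * b⁻¹ * ((y : G)⁻¹ * h)⁻¹) * ((y : G)⁻¹ * h)) := by group
    rw [e]
    exact mul_mem (hLH (hBL b hb y y.2)) (mul_mem (hUH (hcomm b hb _ hN))
      (mul_mem (inv_mem (hLH y.2)) hh))
  intro b hb
  refine Subgroup.mem_normalizer_iff.2 fun z => ⟨key b hb z, fun hz => ?_⟩
  simpa [mul_assoc] using key b⁻¹ (inv_mem hb) _ hz

end CfsgLib.Pronormal
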