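import Cfsg.Agent.Lib.Pronormal.Basic
import Cfsg.Agent.Lib.Coprime.Action
import Mathlib.GroupTheory.Transfer
import Mathlib.GroupTheory.Abelianization.Defs

/-!
# Odd index subgroups when a Sylow two-subgroup is a self-centralising four-group
-/

set_option autoImplicit false
set_option linter.unusedSectionVars false
set_option linter.style.haveILetI false

open scoped commutatorElement

namespace CfsgLib.Pronormal.FourGroup

variable {G : Type*} [Group G] [Finite G]

/-- The hypotheses on the ambient group. -/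
structure Hyp (S : Sylow 2 G) (p : ℕ) : Prop where
  card : Nat.card (S : Subgroup G) = 4
  sq : ∀ s ∈ (S : Subgroup G), s * s = 1
  cent : ∀ x, (∀ s ∈ (S : Subgroup G), s * x = x * s) → x ∈ (S : Subgroup G)
  no_invariant : ∀ P : Subgroup G, IsPGroup p P → (S : Subgroup G) ≤ Subgroup.normalizer (P : Set G) → P = ⊥
  comm : ∀ x : G, x ≠ 1 → Odd (orderOf x) → ¬ p ∣ orderOf x → ∀ a b : G, a * x = x * a → b * x = x * b → a * b = b * a
  inv : ∀ x g : G, x ≠ 1 → Odd (orderOf x) → ¬ p ∣ orderOf x → Odd (orderOf g) →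
    g * x * g⁻¹ * x = x * (g * x * g⁻¹) → g * x = x * g

theorem odd_orderOf {K : Subgroup G} (hK : Odd (Nat.card K)) {x : G} (hx : x ∈ K) : Odd (orderOf x) :=
  hK.of_dvd_nat (Subgroup.orderOf_dvd_natCard K hx)

variable {S : Sylow 2 G} {p : ℕ} [Fact p.Prime] (h : Hyp S p)
include h

/-- odd order subgroups normalised by `S` have order prime to `p` -/
theorem not_dvd_card {K : Subgroup G} (hK : Odd (Nat.card K)) (hSK : (S : Subgroup G) ≤ Subgroup.normalizer (K : Set G)) :
    ¬ p ∣ Nat.card K := by
  intro hdvd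
  have hcop : (Nat.card (S : Subgroup G)).Coprime (Nat.card K) := by
    rw [h.card]; exact (Nat.coprime_two_left.2 hK).pow_left 2
  have hsolv : Group.IsSolvable (S : Subgroup G) := by
    haveI := S.2.isNilpotent
    infer_instance
  obtain ⟨P, hP, hSP⟩ := CfsgLib.Coprime.exists_invariant_sylow hSK hcop (Or.inl hsolv) p
  have hb := h.no_invariant P hP.isPGroup hSP
  have hc := hP.2
  rw [hb, Subgroup.card_bot] at hc
  have h1 : 1 ≤ (Nat.card K).factorization p := (Fact.out : p.Prime).factorization_pos_of_dvd Nat.card_pos.ne' hdvd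
  have h2 : 1 < p ^ (Nat.card K).factorization p := Nat.one_lt_pow (by omega) (Fact.out : p.Prime).one_lt
  omega

/-- they are abelian -/
theorem comm_of_invariant {K : Subgroup G} (hK : Odd (Nat.card K))
    (hSK : (S : Subgroup G) ≤ Subgroup.normalizer (K : Set G)) {a b : G} (ha : a ∈ K) (hb : b ∈ K) :
    a * b = b * a := by
  classical
  have hp := not_dvd_card h hK hSK
  have hsm : ∀ x : K, ¬ p ∣ orderOf (x : G) := fun x hd =>
    hp (hd.trans (Subgroup.orderOf_dvd_natCard K x.2))
  suffices hbot : commutator K = ⊥ by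
    have : (⁅(⟨a, ha⟩ : K), ⟨b, hb⟩⁆ : K) ∈ commutator K :=
      Subgroup.commutator_mem_commutator (Subgroup.mem_top _) (Subgroup.mem_top _)
    rw [hbot, Subgroup.mem_bot, commutatorElement_eq_one_iff_mul_comm] at this
    exact congrArg Subtype.val this
  by_contra hne
  obtain ⟨ℓ, hℓ, hℓd⟩ := Nat.exists_prime_and_dvd (fun e => hne (Subgroup.eq_bot_of_card_eq _ e))
  haveI : Fact ℓ.Prime := ⟨hℓ⟩
  obtain ⟨P⟩ : Nonempty (Sylow ℓ K) := Sylow.nonempty
  have hP : Subgroup.normalizer ((P : Subgroup K) : Set K) ≤ Subgroup.centralizer ((P : Subgroup K) : Set K) := by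
    have hPne : (P : Subgroup K) ≠ ⊥ := P.ne_bot_of_dvd_card (hℓd.trans (commutator K).card_subgroup_dvd_card)
    haveI : Nontrivial (P : Subgroup K) := (Subgroup.nontrivial_iff_ne_bot _).2 hPne
    haveI := P.2.center_nontrivial
    obtain ⟨z, hz⟩ := exists_ne (1 : Subgroup.center (P : Subgroup K))
    set x : G := (((z : (P : Subgroup K)) : K) : G) with hx
    have hx1 : x ≠ 1 := fun e => hz (Subtype.ext (Subtype.ext (Subtype.ext e)))
    have hxo := odd_orderOf hK ((z : (P : Subgroup K)) : K).2
    have hxc : ∀ y : (P : Subgroup K), ((y : K) : G) * x = x * ((y : K) : G) := fun y =>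
      congrArg (fun w : (P : Subgroup K) => ((w : K) : G)) (Subgroup.mem_center_iff.1 z.2 y)
    have hcomm := h.comm x hx1 hxo (hsm _)
    intro g hg y hy
    by_cases hy1 : y = 1
    · rw [hy1, mul_one, one_mul]
    have hgy : g * y * g⁻¹ ∈ (P : Subgroup K) := (Subgroup.mem_normalizer_iff.1 hg y).1 hy
    have hc := hcomm _ _ (hxc ⟨_, hgy⟩) (hxc ⟨y, hy⟩)
    exact Subtype.ext (h.inv (y : G) g (fun e => hy1 (Subtype.ext e)) (odd_orderOf hK y.2) (hsm y)
      (odd_orderOf hK g.2) (by simpa using hc)).symm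
  have hker := MonoidHom.ker_transferSylow_isComplement' P hP
  have hle : commutator K ≤ (MonoidHom.transferSylow P hP).ker := by
    letI : CommGroup (P : Subgroup K) :=
      { (inferInstance : Group (P : Subgroup K)) with
        mul_comm := fun a b => Subtype.ext (hP (Subgroup.le_normalizer b.2) a a.2) }
    exact Abelianization.commutator_subset_ker (MonoidHom.transferSylow P hP)
  have := MonoidHom.not_dvd_card_ker_transferSylow P hP
  exact this (hℓd.trans (Subgroup.card_dvd_of_le hle))

/-- they centralise an involution of `S` -/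
theorem exists_cent {K : Subgroup G} (hK : Odd (Nat.card K))
    (hSK : (S : Subgroup G) ≤ Subgroup.normalizer (K : Set G)) :
    ∃ a ∈ (S : Subgroup G), a ≠ 1 ∧ ∀ y ∈ K, a * y = y * a := by
  classical
  obtain ⟨a₀, ha₀, ha₀1⟩ : ∃ a ∈ (S : Subgroup G), a ≠ 1 := by
    by_contra hcon
    push Not at hcon
    have : (S : Subgroup G) = ⊥ := (Subgroup.eq_bot_iff_forall _).2 hcon
    have := h.card
    rw [‹(S : Subgroup G) = ⊥›, Subgroup.card_bot] at this
    omega
  by_cases hall : ∀ y ∈ K, y = 1
  · exact ⟨a₀, ha₀, ha₀1, fun y hy => by rw [hall y hy, mul_one, one_mul]⟩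
  push Not at hall
  obtain ⟨x, hx, hx1⟩ := hall
  have hp := not_dvd_card h hK hSK
  -- the fixed point
  obtain ⟨a, ha, ha1, y, hy, hy1, hay⟩ : ∃ a ∈ (S : Subgroup G), a ≠ 1 ∧ ∃ y ∈ K, y ≠ 1 ∧ a * y = y * a := by
    by_contra hcon
    push Not at hcon
    have hinv : ∀ s ∈ (S : Subgroup G), s ≠ 1 → s * x * s⁻¹ = x⁻¹ := by
      intro s hs hs1
      have hsx := (Subgroup.mem_normalizer_iff.1 (hSK hs) x).1 hx
      have hss : s⁻¹ = s := inv_eq_of_mul_eq_one_right (h.sq s hs)
      have hcm := comm_of_invariant h hK hSK hx hsx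
      by_contra hne
      refine hcon s hs hs1 (x * (s * x * s⁻¹)) (mul_mem hx hsx) (fun e => hne (eq_inv_of_mul_eq_one_right e)) ?_
      calc s * (x * (s * x * s⁻¹)) = (s * x * s⁻¹) * (s * s) * x * s⁻¹ := by group
        _ = (s * x * s⁻¹) * x * s := by rw [h.sq s hs, mul_one, hss]
        _ = _ := by rw [← hcm]
    obtain ⟨b, hb, hb1, hba⟩ : ∃ b ∈ (S : Subgroup G), b ≠ 1 ∧ b ≠ a₀ := by
      by_contra hb
      push Not at hb
      have hsub : ((S : Subgroup G) : Set G) ⊆ {1, a₀} := fun s hs => by
        by_cases e : s = 1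
        · exact Or.inl e
        · exact Or.inr (hb s hs e)
      have := Set.ncard_le_ncard hsub (Set.toFinite _)
      rw [Set.ncard_pair (Ne.symm ha₀1), ← Nat.card_coe_set_eq] at this
      have hc := h.card
      simp only [SetLike.coe_sort_coe] at this
      omega
    have hne : a₀ * b ≠ 1 := fun e => hba (by
      rw [← inv_eq_of_mul_eq_one_right e, inv_eq_of_mul_eq_one_right (h.sq a₀ ha₀)])
    refine hcon _ (mul_mem ha₀ hb) hne x hx hx1 ?_
    have e1 := hinv a₀ ha₀ ha₀1
    have e2 := hinv b hb hb1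
    calc a₀ * b * x = a₀ * (b * x * b⁻¹) * a₀⁻¹ * (a₀ * b) := by group
      _ = a₀ * x⁻¹ * a₀⁻¹ * (a₀ * b) := by rw [e2]
      _ = (a₀ * x * a₀⁻¹)⁻¹ * (a₀ * b) := by group
      _ = _ := by rw [e1, inv_inv]
  refine ⟨a, ha, ha1, fun z hz => ?_⟩
  exact h.comm y hy1 (odd_orderOf hK hy) (fun hd => hp (hd.trans (Subgroup.orderOf_dvd_natCard K hy)))
    a z hay (comm_of_invariant h hK hSK hz hy)

/-- the overgroups of `S` are pronormal -/
theorem pronormal_of_le {H : Subgroup G} (hSH : (S : Subgroup G) ≤ H) : Cfsg.IsPronormal H := by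
  classical
  refine of_sylow S hSH fun n hn => ?_
  set Hn := H.map (MulAut.conj n).toMonoidHom with hHn
  set J := H ⊔ Hn with hJ
  by_cases hnJ : n ∈ J
  · exact ⟨n, hnJ, rfl⟩
  refine ⟨1, one_mem _, ?_⟩
  rw [Cfsg.Agent.S3820.map_conj_one]
  have hSJ : (S : Subgroup G) ≤ J := hSH.trans le_sup_left
  -- the permutation action of the normalizer
  set N := Subgroup.normalizer ((S : Subgroup G) : Set G) with hN
  have hSN : (S : Subgroup G) ≤ N := Subgroup.le_normalizer
  have hrel : (S : Subgroup G).relIndex N = 1 ∨ (S : Subgroup G).relIndex N = 3 := by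
    let φ : N →* MulAut (S : Subgroup G) := Subgroup.normalizerMonoidHom (S : Subgroup G)
    have hker : φ.ker = (S : Subgroup G).subgroupOf N := by
      rw [Subgroup.normalizerMonoidHom_ker]
      refine le_antisymm (fun x hx => h.cent _ fun s hs =>
        Subgroup.mem_centralizer_iff.1 (Subgroup.mem_subgroupOf.1 hx) s hs) ?_
      intro x hx
      show x.1 ∈ Subgroup.centralizer _
      intro s hs
      have ha := h.sq s hs
      have hb : x.1 * x.1 = 1 := h.sq x.1 hx
      have hab : (s * x.1) * (s * x.1) = 1 := h.sq _ (mul_mem hs hx)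
      calc s * x.1 = s * ((s * x.1) * (s * x.1)) * x.1 := by rw [hab, mul_one]
        _ = (s * s) * (x.1 * s) * (x.1 * x.1) := by group
        _ = _ := by rw [ha, hb, one_mul, mul_one]
    have hidx : (S : Subgroup G).relIndex N = Nat.card φ.range := by
      rw [← Subgroup.index_ker, hker]; rfl
    have hodd : ¬ 2 ∣ (S : Subgroup G).relIndex N := fun hd =>
      S.not_dvd_index (hd.trans (Subgroup.relIndex_dvd_index_of_le hSN))
    -- automorphisms permute the three involutions
    let T := {x : (S : Subgroup G) // x ≠ 1}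
    let ψ : MulAut (S : Subgroup G) →* Equiv.Perm T :=
      { toFun := fun e => e.toEquiv.subtypeEquiv fun x => by
          show x ≠ 1 ↔ e x ≠ 1
          rw [ne_eq, ne_eq, map_eq_one_iff e e.injective]
        map_one' := rfl
        map_mul' := fun e f => rfl }
    have hψ : Function.Injective ψ := fun e f hef => MulEquiv.ext fun x => by
      by_cases hx : x = 1
      · rw [hx, map_one, map_one]
      · exact congrArg Subtype.val (Equiv.congr_fun hef ⟨x, hx⟩)
    have hT : Nat.card T = 3 := by
      haveI : Fintype (S : Subgroup G) := Fintype.ofFinite _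
      rw [Nat.card_eq_fintype_card, Fintype.card_subtype_compl, Fintype.card_subtype_eq,
        ← Nat.card_eq_fintype_card, h.card]
    have hdvd : (S : Subgroup G).relIndex N ∣ 6 := by
      rw [hidx, show 6 = Nat.card (Equiv.Perm T) by rw [Nat.card_perm, hT]; rfl]
      exact (φ.range.card_subgroup_dvd_card).trans
        ((Subgroup.card_dvd_of_injective ψ hψ))
    have hle := Nat.le_of_dvd (by norm_num) hdvd
    interval_cases (S : Subgroup G).relIndex N <;> omega
  -- the normalizer inside `J` is `S`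
  have hNJ : N ⊓ J ≤ (S : Subgroup G) := by
    have hmul : (S : Subgroup G).relIndex (N ⊓ J) * (N ⊓ J).relIndex N = (S : Subgroup G).relIndex N :=
      Subgroup.relIndex_mul_relIndex _ _ _ (le_inf hSN hSJ) inf_le_left
    by_contra hcon
    have h1 : (S : Subgroup G).relIndex (N ⊓ J) ≠ 1 := fun e => hcon (Subgroup.relIndex_eq_one.1 e)
    have h2 : (N ⊓ J).relIndex N = 1 := by
      rcases hrel with e | e <;> rw [e] at hmul
      · exact absurd (Nat.eq_one_of_mul_eq_one_right hmul) h1
      · rcases (Nat.dvd_prime Nat.prime_three).1 (Dvd.intro _ hmul) with e' | e'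
        · exact absurd e' h1
        · rw [e'] at hmul; omega
    exact hnJ (Subgroup.relIndex_eq_one.1 h2 hn).2
  -- a normal two-complement
  have hcomm : ∀ s ∈ (S : Subgroup G), ∀ t ∈ (S : Subgroup G), s * t = t * s := by
    intro s hs t ht
    have ha := h.sq s hs
    have hb := h.sq t ht
    have hab := h.sq _ (mul_mem hs ht)
    calc s * t = s * ((s * t) * (s * t)) * t := by rw [hab, mul_one]
      _ = (s * s) * (t * s) * (t * t) := by group
      _ = _ := by rw [ha, hb, one_mul, mul_one]
  set P : Sylow 2 J := S.subtype hSJ with hP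
  have hPN : Subgroup.normalizer ((P : Subgroup J) : Set J) ≤ Subgroup.centralizer ((P : Subgroup J) : Set J) := by
    intro x hx y hy
    have hxS : (x : G) ∈ (S : Subgroup G) := by
      refine hNJ ⟨Subgroup.mem_normalizer_iff.2 fun z => ?_, x.2⟩
      constructor
      · intro hz
        exact (Subgroup.mem_normalizer_iff.1 hx ⟨z, hSJ hz⟩).1 hz
      · intro hz
        have hzJ : z ∈ J := by
          have := mul_mem (mul_mem (inv_mem x.2) (hSJ hz)) x.2
          simpa [mul_assoc] using this
        exact (Subgroup.mem_normalizer_iff.1 hx ⟨z, hzJ⟩).2 hz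
    exact Subtype.ext (hcomm y hy x hxS)
  set φ := MonoidHom.transferSylow P hPN
  have hodd : Odd (Nat.card φ.ker) :=
    Nat.not_even_iff_odd.1 fun he => MonoidHom.not_dvd_card_ker_transferSylow P hPN he.two_dvd
  have hcompl := MonoidHom.ker_transferSylow_isComplement' P hPN
  set K := φ.ker.map J.subtype with hKdef
  have hKo : Odd (Nat.card K) := by rwa [hKdef, Subgroup.card_map_of_injective J.subtype_injective]
  have hKJ : K ≤ J := Subgroup.map_subtype_le _
  have hKn : J ≤ Subgroup.normalizer (K : Set G) :=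
    (Subgroup.normal_subgroupOf_iff_le_normalizer hKJ).1 (by
      rw [hKdef, Subgroup.subgroupOf, Subgroup.comap_map_eq_self_of_injective J.subtype_injective]
      infer_instance)
  -- the odd part of `H`
  set L := H ⊓ K with hL
  have hSL : (S : Subgroup G) ≤ Subgroup.normalizer (L : Set G) :=
    CfsgLib.Coprime.inf_le_normalizer (hSH.trans Subgroup.le_normalizer) (hSJ.trans hKn)
  have hHdec : ∀ x ∈ H, ∃ k ∈ L, ∃ s ∈ (S : Subgroup G), x = k * s := by
    intro x hx
    obtain ⟨⟨k, s⟩, hks⟩ := hcompl.2 ⟨x, (le_sup_left : H ≤ J) hx⟩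
    have hks' : ((k : J) : G) * ((s : J) : G) = x := congrArg Subtype.val hks
    have hs : ((s : J) : G) ∈ (S : Subgroup G) := s.2
    refine ⟨_, ⟨?_, ⟨_, k.2, rfl⟩⟩, _, hs, hks'.symm⟩
    show ((k : J) : G) ∈ H
    rw [show ((k : J) : G) = x * ((s : J) : G)⁻¹ from eq_mul_inv_of_mul_eq hks']
    exact mul_mem hx (inv_mem (hSH hs))
  -- odd order elements of `J` lie in `K`
  have hoddK : ∀ x ∈ J, Odd (orderOf x) → x ∈ K := by
    intro x hx ho
    refine ⟨⟨x, hx⟩, ?_, rfl⟩
    have h1 : orderOf (φ ⟨x, hx⟩) ∣ orderOf x := by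
      rw [← Subgroup.orderOf_mk x hx]; exact orderOf_map_dvd φ _
    have h2 : orderOf (φ ⟨x, hx⟩) ∣ 4 := by
      have := orderOf_dvd_natCard (φ ⟨x, hx⟩)
      refine this.trans (dvd_of_eq ?_)
      show Nat.card ((S : Subgroup G).subgroupOf J) = 4
      rw [Nat.card_congr (Subgroup.subgroupOfEquivOfLe hSJ).toEquiv, h.card]
    exact MonoidHom.mem_ker.2 (orderOf_eq_one_iff.1 (Nat.eq_one_of_dvd_coprimes
      ((Nat.coprime_two_left.2 ho).pow_left 2) h2 h1))
  obtain ⟨a, ha, ha1, hcent⟩ := exists_cent h hKo (hSJ.trans hKn)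
  by_cases hna : n * a * n⁻¹ = a
  · -- then `n` lies in `S`
    exfalso
    apply hnJ
    refine hSJ ?_
    rcases hrel with e | e
    · exact Subgroup.relIndex_eq_one.1 e hn
    -- `n` fixes `a`, so `n ^ 2` centralises `S`
    by_contra hnS
    have hn3 : n ^ 3 ∈ (S : Subgroup G) := by
      haveI : ((S : Subgroup G).subgroupOf N).Normal := Subgroup.normal_in_normalizer
      have := ((S : Subgroup G).subgroupOf N).pow_index_mem ⟨n, hn⟩
      rw [show ((S : Subgroup G).subgroupOf N).index = 3 from e] at this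
      exact this
    have hn2 : n ^ 2 ∈ (S : Subgroup G) := by
      refine h.cent _ fun s hs => ?_
      have hmem : ∀ t ∈ (S : Subgroup G), n * t * n⁻¹ ∈ (S : Subgroup G) := fun t ht =>
        (Subgroup.mem_normalizer_iff.1 hn t).1 ht
      have h2 : n * (n * s * n⁻¹) * n⁻¹ = s := by
        by_cases hs1 : s = 1
        · simp [hs1]
        by_cases hsa : s = a
        · rw [hsa, hna, hna]
        have hnn : ∀ u : G, n * u * n⁻¹ = 1 → u = 1 := fun u hu => conj_eq_one_iff.1 hu
        have hinj : ∀ u v : G, n * u * n⁻¹ = n * v * n⁻¹ → u = v := fun u v huv =>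
          mul_left_cancel (mul_right_cancel huv)
        set t := n * s * n⁻¹ with ht
        have ht1 : t ≠ 1 := fun e => hs1 (hnn s e)
        have hta : t ≠ a := fun e => hsa (hinj _ _ (by rw [hna]; exact e))
        by_cases hts : t = s
        · rw [hts, ← ht, hts]
        set w := n * t * n⁻¹ with hw
        have hw1 : w ≠ 1 := fun e => ht1 (hnn t e)
        have hwa : w ≠ a := fun e => hta (hinj _ _ (by rw [hna]; exact e))
        have hwt : w ≠ t := fun e => hts (hinj _ _ (by rw [← ht]; exact e))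
        -- only four elements
        by_contra hws
        have hsub : ({1, a, s, t, w} : Set G) ⊆ ((S : Subgroup G) : Set G) := by
          rintro u (rfl | rfl | rfl | rfl | rfl)
          exacts [one_mem _, ha, hs, hmem s hs, hmem t (hmem s hs)]
        have hc := Set.ncard_le_ncard hsub (Set.toFinite _)
        rw [← Nat.card_coe_set_eq ((S : Subgroup G) : Set G)] at hc
        simp only [SetLike.coe_sort_coe, h.card] at hc
        have h5 : ({1, a, s, t, w} : Set G).ncard = 5 := by
          rw [Set.ncard_insert_of_notMem, Set.ncard_insert_of_notMem, Set.ncard_insert_of_notMem, Set.ncard_pair]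
          · exact hwt.symm
          · simp [Ne.symm hts, Ne.symm hws]
          · simp [Ne.symm hsa, Ne.symm hta, Ne.symm hwa]
          · simp [Ne.symm ha1, Ne.symm hs1, Ne.symm ht1, Ne.symm hw1]
        omega
      calc s * n ^ 2 = (n * (n * s * n⁻¹) * n⁻¹) * n ^ 2 := by rw [h2]
        _ = _ := by rw [sq]; group
    refine hnS ?_
    have : n = n ^ 3 * (n ^ 2)⁻¹ := by group
    rw [this]
    exact mul_mem hn3 (inv_mem hn2)
  -- the odd part is trivial
  have hLbot : ∀ x ∈ L, x = 1 := by
    intro x hx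
    set y := n * x * n⁻¹ with hy
    have hyo : Odd (orderOf y) := by
      rw [hy, show n * x * n⁻¹ = MulAut.conj n x from rfl, MulEquiv.orderOf_eq]
      exact odd_orderOf hKo hx.2
    have hyJ : y ∈ J := le_sup_right (a := H) ⟨x, hx.1, rfl⟩
    have hyK := hoddK y hyJ hyo
    have h1 : n * a * n⁻¹ * y = y * (n * a * n⁻¹) := by
      calc n * a * n⁻¹ * y = n * (a * x) * n⁻¹ := by rw [hy]; group
        _ = n * (x * a) * n⁻¹ := by rw [hcent x hx.2]
        _ = _ := by rw [hy]; group
    have h2 := hcent y hyK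
    -- `a` and its conjugate generate `S`
    have hyS : y ∈ (S : Subgroup G) := h.cent y (by
      intro s hs
      set b := n * a * n⁻¹ with hb
      have hbS : b ∈ (S : Subgroup G) := (Subgroup.mem_normalizer_iff.1 hn a).1 ha
      have hb1 : b ≠ 1 := fun e => ha1 (conj_eq_one_iff.1 e)
      by_cases hs1 : s = 1
      · rw [hs1, one_mul, mul_one]
      by_cases hsa : s = a
      · rw [hsa]; exact h2
      by_cases hsb : s = b
      · rw [hsb]; exact h1
      have hab1 : a * b ≠ 1 := fun e => hna (by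
        rw [← inv_eq_of_mul_eq_one_right e, inv_eq_of_mul_eq_one_right (h.sq a ha)])
      have hsab : s = a * b := by
        by_contra hne
        have hsub : ({1, a, b, s, a * b} : Set G) ⊆ ((S : Subgroup G) : Set G) := by
          rintro u (rfl | rfl | rfl | rfl | rfl)
          exacts [one_mem _, ha, hbS, hs, mul_mem ha hbS]
        have hc := Set.ncard_le_ncard hsub (Set.toFinite _)
        rw [← Nat.card_coe_set_eq ((S : Subgroup G) : Set G)] at hc
        simp only [SetLike.coe_sort_coe, h.card] at hc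
        have h5 : ({1, a, b, s, a * b} : Set G).ncard = 5 := by
          rw [Set.ncard_insert_of_notMem, Set.ncard_insert_of_notMem, Set.ncard_insert_of_notMem, Set.ncard_pair]
          · exact hne
          · simp [Ne.symm hsb, ha1]
          · simp [Ne.symm hsa, Ne.symm hna, hb1]
          · simp [Ne.symm ha1, Ne.symm hb1, Ne.symm hs1, Ne.symm hab1]
        omega
      rw [hsab, mul_assoc, h1, ← mul_assoc, h2, mul_assoc])
    have hy1 : y = 1 := by
      have h4 : orderOf y ∣ 4 := h.card ▸ Subgroup.orderOf_dvd_natCard _ hyS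
      exact orderOf_eq_one_iff.1 (Nat.eq_one_of_dvd_coprimes
        ((Nat.coprime_two_left.2 hyo).pow_left 2) h4 dvd_rfl)
    exact conj_eq_one_iff.1 hy1
  have hHS : H = (S : Subgroup G) := le_antisymm (fun x hx => by
    obtain ⟨k, hk, s, hs, rfl⟩ := hHdec x hx
    rw [hLbot k hk, one_mul]; exact hs) hSH
  rw [hHn, hHS, Cfsg.Agent.S3820.map_conj_eq_self.2 hn]

/-- odd index subgroups are pronormal -/
theorem pronormal {H : Subgroup G} (hH : ¬ 2 ∣ H.index) : Cfsg.IsPronormal H := by
  obtain ⟨T, hT⟩ := exists_sylow_le hH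
  obtain ⟨c, hc⟩ := MulAction.exists_smul_eq G T S
  have hle : (S : Subgroup G) ≤ H.map (MulAut.conj c).toMonoidHom := by
    rw [← hc, Sylow.coe_subgroup_smul, Subgroup.pointwise_smul_def]; exact Subgroup.map_mono hT
  have hp := pronormal_of_le h hle
  intro g
  obtain ⟨x, hx, he⟩ := hp (c * g * c⁻¹)
  have hm := Cfsg.Agent.S3820.map_conj_mul (G := G)
  rw [← hm, ← hm, mul_assoc, mul_assoc, inv_mul_cancel, mul_one] at he
  rw [← hm, mul_assoc, mul_assoc, inv_mul_cancel, mul_one, hm c g, ← Subgroup.map_sup] at hx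
  obtain ⟨w, hw, hwx⟩ := hx
  refine ⟨w, hw, ?_⟩
  rw [← hwx, show (MulAut.conj c).toMonoidHom w * c = c * w by simp [mul_assoc], hm, hm] at he
  exact Subgroup.map_injective (MulAut.conj c).injective he

end CfsgLib.Pronormal.FourGroup
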