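import Cfsg.Agent.Lib.Pronormal.GLTwoPower
import Cfsg.Agent.Lib.Classical.SL2TwoNormalizer
import Cfsg.Agent.Lib.Classical.SL2Sylow

/-!
# Sylow two-subgroups of `GL_2` in odd characteristic
-/

set_option autoImplicit false
set_option linter.unusedSectionVars false
set_option linter.style.haveILetI false

namespace CfsgLib.Pronormal.TwoPower

open Matrix CfsgLib.Classical

variable {F : Type*} [Field F] [Fintype F]

local notation "S2" => Matrix.SpecialLinearGroup (Fin 2) F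
local notation "G2'" => GL (Fin 2) F

/-- the anti-commuting pair -/
theorem exists_pair (hF : Odd (Fintype.card F)) (Q : Sylow 2 S2) :
    ∃ i ∈ (Q : Subgroup S2), ∃ j ∈ (Q : Subgroup S2), i.1 * i.1 = -1 ∧ j.1 * j.1 = -1 ∧ i.1 * j.1 = -(j.1 * i.1) := by
  obtain ⟨k, hk, ⟨e⟩⟩ := sylow_two_quaternion hF Q
  obtain ⟨m, rfl⟩ : ∃ m, k = m + 1 := ⟨k - 1, by omega⟩
  have h2 := two_ne_zero_of_odd_card hF
  set N := 2 ^ (m + 1) with hN
  haveI : NeZero N := ⟨by positivity⟩
  have hN2 : 2 ∣ N := dvd_pow_self 2 (Nat.succ_ne_zero m)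
  have hc : (((N : ℕ) : ZMod (2 * N))) ≠ 0 := fun h => by
    rw [ZMod.natCast_eq_zero_iff] at h
    have := Nat.le_of_dvd (by positivity) h
    have : 0 < N := by positivity
    omega
  -- the central involution
  have hinv : ∀ x : QuaternionGroup N, x * x = QuaternionGroup.a (N : ZMod (2 * N)) →
      ((e.symm x : (Q : Subgroup S2)) : S2).1 * ((e.symm x : (Q : Subgroup S2)) : S2).1 = -1 := by
    intro x hx
    have h1 : (((e.symm (x * x) : (Q : Subgroup S2)) : S2)).1 = -1 := by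
      rw [hx]
      refine involution_eq_neg_one h2 (fun h => hc ?_) ?_
      · have h' : e.symm (QuaternionGroup.a (N : ZMod (2 * N))) = 1 := Subtype.ext h
        rw [map_eq_one_iff e.symm e.symm.injective, QuaternionGroup.one_def] at h'
        exact QuaternionGroup.a.inj h'
      · have h3 : QuaternionGroup.a (N : ZMod (2 * N)) * QuaternionGroup.a (N : ZMod (2 * N)) = (1 : QuaternionGroup N) := by
          rw [QuaternionGroup.a_mul_a, QuaternionGroup.one_def, ← Nat.cast_add, ← two_mul, ZMod.natCast_self]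
        exact congrArg Subtype.val (by rw [← map_mul, h3, map_one] :
          e.symm (QuaternionGroup.a (N : ZMod (2 * N))) * e.symm (QuaternionGroup.a (N : ZMod (2 * N))) = 1)
    rw [map_mul] at h1
    exact h1
  obtain ⟨d, hd⟩ := hN2
  refine ⟨_, (e.symm (QuaternionGroup.xa 0)).2, _, (e.symm (QuaternionGroup.a (d : ZMod (2 * N)))).2,
    hinv _ ?_, hinv _ ?_, ?_⟩
  · rw [QuaternionGroup.xa_mul_xa]; simp
  · rw [QuaternionGroup.a_mul_a, ← Nat.cast_add, ← two_mul, ← hd]
  · have hcen : e.symm (QuaternionGroup.xa 0) * e.symm (QuaternionGroup.a (d : ZMod (2 * N))) =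
        e.symm (QuaternionGroup.a (N : ZMod (2 * N))) *
          (e.symm (QuaternionGroup.a (d : ZMod (2 * N))) * e.symm (QuaternionGroup.xa 0)) := by
      rw [← map_mul, ← map_mul, ← map_mul, QuaternionGroup.xa_mul_a, QuaternionGroup.a_mul_xa,
        QuaternionGroup.a_mul_xa]
      congr 2
      have e2 : ((N : ℕ) : ZMod (2 * N)) = (d : ZMod (2 * N)) + (d : ZMod (2 * N)) := by
        rw [← Nat.cast_add, ← two_mul, ← hd]
      have e3 : ((N : ℕ) : ZMod (2 * N)) + (N : ZMod (2 * N)) = 0 := by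
        rw [← Nat.cast_add, ← two_mul, ZMod.natCast_self]
      linear_combination (-e2) + e3
    have hz : (((e.symm (QuaternionGroup.a (N : ZMod (2 * N))) : (Q : Subgroup S2)) : S2)).1 = -1 := by
      rw [← hinv (QuaternionGroup.xa 0) (by rw [QuaternionGroup.xa_mul_xa]; simp),
        show (QuaternionGroup.a (N : ZMod (2 * N))) = QuaternionGroup.xa 0 * QuaternionGroup.xa 0 by
          rw [QuaternionGroup.xa_mul_xa]; simp, map_mul]
      rfl
    have := congrArg (fun q : (Q : Subgroup S2) => (q : S2).1) hcen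
    simpa [hz] using this

theorem trace_zero_of_sq {A : Matrix (Fin 2) (Fin 2) F} (hd : A.det = 1) (h : A * A = -1) : A.trace = 0 := by
  have hu : IsUnit A := (Matrix.isUnit_iff_isUnit_det A).2 (by rw [hd]; exact isUnit_one)
  rw [Matrix.det_fin_two] at hd
  rw [Matrix.trace_fin_two]
  by_contra ht
  have e00 := congrFun (congrFun h 0) 0
  have e01 := congrFun (congrFun h 0) 1
  have e11 := congrFun (congrFun h 1) 1
  have e10 := congrFun (congrFun h 1) 0
  simp [Matrix.mul_apply, Fin.sum_univ_two] at e00 e01 e11 e10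
  have hb : A 0 1 = 0 := (mul_eq_zero.1 (show (A 0 0 + A 1 1) * A 0 1 = 0 by linear_combination e01)).resolve_left ht
  have hc : A 1 0 = 0 := (mul_eq_zero.1 (show (A 0 0 + A 1 1) * A 1 0 = 0 by linear_combination e10)).resolve_left ht
  rw [hb] at hd e00
  apply ht
  have : (A 0 0 + A 1 1) * A 0 0 = 0 := by linear_combination e00 + hd
  rcases mul_eq_zero.1 this with h' | h'
  · exact h'
  · rw [h'] at hd; simp at hd

theorem anti_of_orth {A B : Matrix (Fin 2) (Fin 2) F} (hA : A.trace = 0) (hB : B.trace = 0) (hAB : (A * B).trace = 0) :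
    A * B = -(B * A) := by
  rw [Matrix.trace_fin_two] at hA hB hAB
  simp [Matrix.mul_apply, Fin.sum_univ_two] at hAB
  have ha : A 1 1 = -A 0 0 := by linear_combination hA
  have hb : B 1 1 = -B 0 0 := by linear_combination hB
  ext u v
  fin_cases u <;> fin_cases v <;> simp [Matrix.mul_apply, Fin.sum_univ_two, ha, hb] at hAB ⊢ <;>
    first | ring1 | linear_combination hAB | linear_combination -hAB

/-- the pair spans the algebra -/
theorem eq_zero_of_orth (h2 : (2 : F) ≠ 0) {i j : S2} (hi : i.1 * i.1 = -1) (hj : j.1 * j.1 = -1)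
    (hij : i.1 * j.1 = -(j.1 * i.1)) {X : Matrix (Fin 2) (Fin 2) F} (h0 : X.trace = 0) (h1 : (i.1 * X).trace = 0)
    (h2' : (j.1 * X).trace = 0) (h3 : (i.1 * j.1 * X).trace = 0) : X = 0 := by
  have ti := trace_zero_of_sq i.2 hi
  have tj := trace_zero_of_sq j.2 hj
  have tij : (i.1 * j.1).trace = 0 := by
    have h := congrArg Matrix.trace hij
    rw [Matrix.trace_neg, Matrix.trace_mul_comm j.1] at h
    exact (mul_eq_zero.1 (show (2 : F) * (i.1 * j.1).trace = 0 by linear_combination h)).resolve_left h2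
  have a1 := anti_of_orth ti h0 h1
  have a2 := anti_of_orth tj h0 h2'
  have a3 := anti_of_orth tij h0 h3
  have c : i.1 * j.1 * X = X * (i.1 * j.1) := by
    rw [mul_assoc, a2, mul_neg, ← mul_assoc, a1, neg_mul, neg_neg, mul_assoc]
  have : (2 : F) • (i.1 * j.1 * X) = 0 := by
    rw [two_smul]; nth_rw 1 [a3]; rw [← c, neg_add_cancel]
  have hz := (smul_eq_zero.1 this).resolve_left h2
  have hu : IsUnit (i.1 * j.1) := (Matrix.isUnit_iff_isUnit_det _).2 (by
    rw [Matrix.det_mul, i.det_coe, j.det_coe, one_mul]; exact isUnit_one)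
  exact hu.mul_right_eq_zero.1 hz

theorem scalar_of_comm_pair (h2 : (2 : F) ≠ 0) {i j : S2} (hi : i.1 * i.1 = -1) (hj : j.1 * j.1 = -1)
    (hij : i.1 * j.1 = -(j.1 * i.1)) {X : Matrix (Fin 2) (Fin 2) F} (hiX : i.1 * X = X * i.1)
    (hjX : j.1 * X = X * j.1) : ∃ c : F, X = c • 1 := by
  refine ⟨X.trace / 2, ?_⟩
  rw [← sub_eq_zero]
  set Y := X - (X.trace / 2) • (1 : Matrix (Fin 2) (Fin 2) F) with hY
  have hiY : i.1 * Y = Y * i.1 := by rw [hY, mul_sub, sub_mul, hiX, mul_smul_comm, smul_mul_assoc, mul_one, one_mul]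
  have hjY : j.1 * Y = Y * j.1 := by rw [hY, mul_sub, sub_mul, hjX, mul_smul_comm, smul_mul_assoc, mul_one, one_mul]
  -- traces against an anticommuting element vanish
  have key : ∀ A B : Matrix (Fin 2) (Fin 2) F, A * A = -1 → A * Y = Y * A → A * B = -(B * A) → (B * Y).trace = 0 := by
    intro A B hA hAY hAB
    have h4 : (A * (B * Y) * A).trace = -(B * Y).trace := by
      rw [Matrix.trace_mul_comm, ← mul_assoc, hA, neg_one_mul, Matrix.trace_neg]
    have h5 : A * (B * Y) * A = B * Y := by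
      rw [← mul_assoc A B Y, hAB, neg_mul, mul_assoc B A Y, hAY, neg_mul, mul_assoc B (Y * A) A, mul_assoc Y A A,
        hA, mul_neg_one, mul_neg, neg_neg]
    rw [h5] at h4
    exact (mul_eq_zero.1 (show (2 : F) * (B * Y).trace = 0 by linear_combination h4)).resolve_left h2
  have hji : j.1 * i.1 = -(i.1 * j.1) := by rw [hij, neg_neg]
  refine eq_zero_of_orth h2 hi hj hij ?_ (key j.1 i.1 hj hjY hji) (key i.1 j.1 hi hiY hij) (key i.1 _ hi hiY ?_)
  · rw [hY, Matrix.trace_sub, Matrix.trace_smul, Matrix.trace_one, Fintype.card_fin, smul_eq_mul]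
    push_cast
    field_simp
    ring
  · rw [← mul_assoc, hi, mul_assoc, hji, mul_neg, neg_neg, ← mul_assoc, hi]

theorem quaternion_eight_facts : ∀ i j : QuaternionGroup 2, i * i ≠ 1 → j * j ≠ 1 → j ≠ i → j ≠ i⁻¹ →
    i * j * i⁻¹ = j⁻¹ ∧ j * i * j⁻¹ = i⁻¹ ∧
      ∀ u, u * u ≠ 1 → u = i ∨ u = i⁻¹ ∨ u = j ∨ u = j⁻¹ ∨ u = i * j ∨ u = (i * j)⁻¹ := by
  decide

/-- conjugation-by-`g` of a pair up to inverses -/
theorem rel_conj {G : Type*} [Group G] (g : G) {u v : G} (h : v = u ∨ v = u⁻¹) :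
    g * v * g⁻¹ = g * u * g⁻¹ ∨ g * v * g⁻¹ = (g * u * g⁻¹)⁻¹ := by
  rcases h with rfl | rfl
  exacts [Or.inl rfl, Or.inr (by group)]

theorem rel_trans {G : Type*} [Group G] {u v w : G} (h : v = u ∨ v = u⁻¹) (h' : w = v ∨ w = v⁻¹) :
    w = u ∨ w = u⁻¹ := by
  rcases h with rfl | rfl <;> rcases h' with rfl | rfl <;> simp

/-- The data of a Sylow two-subgroup of `GL_2`. -/
theorem exists_good_two (hF : Odd (Fintype.card F)) :
    ∃ P : Subgroup G2', Good P ∧ Nat.card P = 2 ^ padicValNat 2 (Nat.card G2') := by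
  classical
  haveI : Fact (Nat.Prime 2) := ⟨Nat.prime_two⟩
  have h2 := two_ne_zero_of_odd_card hF
  obtain ⟨P'⟩ : Nonempty (Sylow 2 G2') := Sylow.nonempty
  set P := (P' : Subgroup G2')
  have hcard : Nat.card P = 2 ^ padicValNat 2 (Nat.card G2') := by
    rw [P'.card_eq_multiplicity, Nat.factorization_def _ Nat.prime_two]
  obtain ⟨hP2, hmax⟩ := maximal_of_card hcard
  let toG : S2 →* G2' := Matrix.SpecialLinearGroup.toGL
  have htoG : ∀ x : S2, ((toG x : G2') : Matrix (Fin 2) (Fin 2) F) = x.1 := fun _ => rfl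
  have hinj : Function.Injective toG := fun x y h => Subtype.ext (congrArg Units.val h)
  set R := P.comap toG with hR
  -- the determinant
  let δ : P →* Fˣ := Matrix.GeneralLinearGroup.det.comp P.subtype
  have hker : Nat.card δ.ker = Nat.card R := by
    refine (Nat.card_eq_of_bijective (fun x : R => (⟨⟨toG x.1, x.2⟩, Units.ext ?_⟩ : δ.ker)) ⟨?_, ?_⟩).symm
    · show ((toG x.1 : G2') : Matrix (Fin 2) (Fin 2) F).det = 1
      rw [htoG]; exact x.1.det_coe
    · intro x y h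
      exact Subtype.ext (hinj (congrArg (fun z : δ.ker => ((z : P) : G2')) h))
    · rintro ⟨⟨y, hy⟩, hy1⟩
      have hd : (y : Matrix (Fin 2) (Fin 2) F).det = 1 := congrArg Units.val hy1
      refine ⟨⟨⟨_, hd⟩, ?_⟩, ?_⟩
      · show toG _ ∈ P
        rwa [show toG ⟨_, hd⟩ = y from Units.ext rfl]
      · exact Subtype.ext (Subtype.ext (Units.ext rfl))
  have hR2 : IsPGroup 2 R := hP2.comap_of_injective toG hinj
  obtain ⟨a, ha⟩ := IsPGroup.iff_card.1 hR2
  obtain ⟨b, hb⟩ := IsPGroup.iff_card.1 ((hP2.map (Matrix.GeneralLinearGroup.det : G2' →* Fˣ)))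
  have hrange : Nat.card δ.range = 2 ^ b := by
    rw [← hb, MonoidHom.range_comp, Subgroup.range_subtype]
  have hsum : a + b = padicValNat 2 (Nat.card G2') := by
    have h := Subgroup.card_mul_index δ.ker
    rw [Subgroup.index_ker, hker, ha, hrange, hcard, ← pow_add] at h
    exact Nat.pow_right_injective le_rfl h
  have hq := Fintype.one_lt_card (α := F)
  have hbb : b ≤ padicValNat 2 (Fintype.card F - 1) := by
    refine (padicValNat_dvd_iff_le (by omega)).1 ?_
    rw [← hrange, ← Fintype.card_units, ← Nat.card_eq_fintype_card]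
    exact Subgroup.card_subgroup_dvd_card _
  have haa : a ≤ padicValNat 2 (Nat.card S2) := by
    refine (padicValNat_dvd_iff_le Nat.card_pos.ne').1 ?_
    rw [← ha]; exact R.card_subgroup_dvd_card
  have hval : padicValNat 2 (Fintype.card F - 1) + padicValNat 2 (Nat.card S2) = padicValNat 2 (Nat.card G2') :=
    SylowTwoElemAb.val_SL 2 (by omega)
  have haeq : a = padicValNat 2 (Nat.card S2) := by omega
  have hbeq : b = padicValNat 2 (Fintype.card F - 1) := by omega
  let Q : Sylow 2 S2 := Sylow.ofCard R (by rw [ha, haeq, Nat.factorization_def _ Nat.prime_two])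
  obtain ⟨i, hiQ, j, hjQ, hi, hj, hij⟩ := exists_pair hF Q
  have hiP : toG i ∈ P := hiQ
  have hjP : toG j ∈ P := hjQ
  have hneg : ∀ u : S2, u.1 * u.1 = -1 → u⁻¹.1 = -u.1 := fun u hu => by
    have : u.1 * (-u.1) = 1 := by rw [mul_neg, hu, neg_neg]
    have h' : u.1 * u⁻¹.1 = 1 := by rw [← Matrix.SpecialLinearGroup.coe_mul, mul_inv_cancel, Matrix.SpecialLinearGroup.coe_one]
    exact ((Matrix.isUnit_iff_isUnit_det u.1).2 (by rw [u.det_coe]; exact isUnit_one)).mul_left_cancel (h'.trans this.symm)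
  refine ⟨P, ⟨⟨1, by simp⟩, by simpa using h2, hP2, ?_, fun X hX => ?_,
    ⟨toG i, hiP, i.det_coe, hi, trace_zero_of_sq i.2 hi⟩⟩, hcard⟩
  swap
  · have := hX 1 (one_mem _) (by simp)
    refine eq_zero_of_orth h2 hi hj hij (by simpa using this) (hX _ hiP i.det_coe) (hX _ hjP j.det_coe) ?_
    have h3 := hX _ (mul_mem hiP hjP) (by rw [Units.val_mul, Matrix.det_mul]; simp [htoG])
    rwa [Units.val_mul] at h3
  -- normalisers
  intro g hg
  have hgN : g ∈ Subgroup.normalizer (P : Set G2') :=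
    Subgroup.mem_normalizer_iff.2 fun x => ⟨hg x, fun hx => by
      have hbij : Function.Bijective (fun y : P => (⟨g * y.1 * g⁻¹, hg _ y.2⟩ : P)) :=
        Finite.injective_iff_bijective.1 fun y z h =>
          Subtype.ext (mul_left_cancel (mul_right_cancel (congrArg Subtype.val h)))
      obtain ⟨y, hy⟩ := hbij.2 ⟨_, hx⟩
      have : y.1 = x := mul_left_cancel (mul_right_cancel (congrArg Subtype.val hy))
      exact this ▸ y.2⟩
  -- odd and even parts
  obtain ⟨g₂, g', rfl, hg₂, hg'N, ho⟩ : ∃ g₂ g' : G2', g = g₂ * g' ∧ g₂ ∈ P ∧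
      g' ∈ Subgroup.normalizer (P : Set G2') ∧ Odd (orderOf g') := by
    obtain ⟨k, m, hm, hgm⟩ : ∃ k m, Odd m ∧ orderOf g = 2 ^ k * m := by
      obtain ⟨k, m, hm, h⟩ := Nat.exists_eq_pow_mul_and_not_dvd (orderOf_pos g).ne' 2 (by norm_num)
      exact ⟨k, m, Nat.not_even_iff_odd.1 fun he => hm he.two_dvd, h⟩
    obtain ⟨u, v, huv⟩ : ∃ u v : ℤ, u * (2 ^ k : ℕ) + v * m = 1 :=
      Int.isCoprime_iff_nat_coprime.2 ((Nat.coprime_two_left.2 hm).pow_left k)
    refine ⟨g ^ (v * m), g ^ (u * (2 ^ k : ℕ)), by rw [← _root_.zpow_add, add_comm, huv, _root_.zpow_one], ?_,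
      Subgroup.zpow_mem _ hgN _, ?_⟩
    · have hz : IsPGroup 2 (Subgroup.zpowers (g ^ (v * m))) := by
        rintro ⟨y, l, rfl⟩
        refine ⟨k, Subtype.ext ?_⟩
        simp only [SubgroupClass.coe_pow, OneMemClass.coe_one]
        rw [← zpow_natCast, ← _root_.zpow_mul, ← _root_.zpow_mul, ← orderOf_dvd_iff_zpow_eq_one, hgm]
        push_cast
        exact ⟨v * l, by ring⟩
      have hnorm : Subgroup.zpowers (g ^ (v * m)) ≤ Subgroup.normalizer (P : Set G2') :=
        Subgroup.zpowers_le.2 (Subgroup.zpow_mem _ hgN _)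
      exact hmax _ (hP2.to_sup_of_normal_left' hz hnorm) le_sup_left ▸ Subgroup.mem_sup_right (Subgroup.mem_zpowers _)
    · refine hm.of_dvd_nat (orderOf_dvd_of_pow_eq_one ?_)
      rw [← zpow_natCast, ← _root_.zpow_mul, ← orderOf_dvd_iff_zpow_eq_one, hgm]
      push_cast
      exact ⟨u, by ring⟩
  -- divide by a square root of the determinant
  obtain ⟨m, hm⟩ := ho
  set d : Fˣ := Matrix.GeneralLinearGroup.det g' with hd
  have hdm : d ^ orderOf g' = 1 := by rw [hd, ← map_pow, pow_orderOf_eq_one, map_one]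
  set c : Fˣ := d ^ (m + 1) with hc
  have hcc : c * c = d := by
    rw [hc, ← pow_add, show m + 1 + (m + 1) = (2 * m + 1) + 1 by ring, pow_succ, ← hm, hdm, one_mul]
  have hcm : c ^ orderOf g' = 1 := by rw [hc, ← pow_mul, mul_comm, pow_mul, hdm, one_pow]
  let h : S2 := ⟨((c⁻¹ : Fˣ) : F) • (g' : Matrix (Fin 2) (Fin 2) F), by
    have e : (g' : Matrix (Fin 2) (Fin 2) F).det = (c : F) * c := by
      rw [← Units.val_mul, hcc]; rfl
    rw [Matrix.det_smul, Fintype.card_fin, e, sq]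
    have := c.ne_zero
    rw [Units.val_inv_eq_inv_val]
    field_simp⟩
  have hho : h ^ orderOf g' = 1 := Subtype.ext (by
    rw [Matrix.SpecialLinearGroup.coe_pow, smul_pow, ← Units.val_pow_eq_pow_val g', pow_orderOf_eq_one,
      ← Units.val_pow_eq_pow_val, inv_pow, hcm, inv_one, Units.val_one, Units.val_one, one_smul]; rfl)
  have hodd : Odd (orderOf h) := (show Odd (orderOf g') from ⟨m, hm⟩).of_dvd_nat (orderOf_dvd_of_pow_eq_one hho)
  have hg'val : (g' : Matrix (Fin 2) (Fin 2) F) = (c : F) • h.1 := by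
    show _ = (c : F) • (((c⁻¹ : Fˣ) : F) • _)
    rw [smul_smul, ← Units.val_mul, mul_inv_cancel, Units.val_one, one_smul]
  have hconjh : ∀ x : G2', toG h * x * (toG h)⁻¹ = g' * x * g'⁻¹ := fun x => by
    rw [mul_inv_eq_iff_eq_mul]
    apply Units.ext
    have e1 : ((g' * x * g'⁻¹ : G2') : Matrix (Fin 2) (Fin 2) F) * g' = g' * x := by
      rw [← Units.val_mul, inv_mul_cancel_right, Units.val_mul]
    rw [Units.val_mul, Units.val_mul, htoG, show h.1 = ((c⁻¹ : Fˣ) : F) • (g' : Matrix (Fin 2) (Fin 2) F) from rfl,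
      smul_mul_assoc, mul_smul_comm, e1]
  have hhN : h ∈ Subgroup.normalizer ((Q : Subgroup S2) : Set S2) := by
    refine Subgroup.mem_normalizer_iff.2 fun x => ?_
    show toG x ∈ P ↔ toG (h * x * h⁻¹) ∈ P
    rw [map_mul, map_mul, map_inv, hconjh]
    exact Subgroup.mem_normalizer_iff.1 hg'N _
  suffices hhQ : h ∈ (Q : Subgroup S2) by
    refine ⟨g₂ * toG h, mul_mem hg₂ hhQ, c, ?_⟩
    rw [Units.val_mul, Units.val_mul, htoG, hg'val, mul_smul_comm]
  obtain ⟨-, hN1, hN3⟩ := CfsgLib.Classical.SL2TwoNormalizer.main hF Q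
  by_cases h17 : Fintype.card F % 8 = 1 ∨ Fintype.card F % 8 = 7
  · exact (hN1 h17) ▸ hhN
  have h35 : Fintype.card F % 8 = 3 ∨ Fintype.card F % 8 = 5 := by
    have := Nat.odd_iff.1 hF
    omega
  -- the Sylow subgroup is the quaternion group of order eight
  obtain ⟨k, hk, ⟨e⟩⟩ := sylow_two_quaternion hF Q
  have hQ8 : k = 1 := by
    have h1 : Nat.card (Q : Subgroup S2) = 4 * 2 ^ k := by
      haveI : NeZero (2 ^ k) := ⟨by positivity⟩
      rw [Nat.card_congr e.toEquiv, Nat.card_eq_fintype_card, QuaternionGroup.card]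
    have h2' : Nat.card (Q : Subgroup S2) = 2 ^ padicValNat 2 (Nat.card S2) := by rw [← haeq, ← ha]; rfl
    rw [SylowTwoElemAb.val_SL_two hF] at h2'
    have hv : padicValNat 2 (Fintype.card F - 1) + padicValNat 2 (Fintype.card F + 1) = 3 := by
      rcases h35 with h | h
      · obtain ⟨r, hr⟩ : ∃ r, Fintype.card F = 8 * r + 3 := ⟨Fintype.card F / 8, by omega⟩
        rw [show Fintype.card F - 1 = 2 * (4 * r + 1) by omega, show Fintype.card F + 1 = 2 ^ 2 * (2 * r + 1) by omega,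
          padicValNat.mul (by omega) (by omega), padicValNat.mul (by omega) (by omega), padicValNat.prime_pow,
          padicValNat_self, padicValNat.eq_zero_of_not_dvd (by omega : ¬ 2 ∣ 4 * r + 1),
          padicValNat.eq_zero_of_not_dvd (by omega : ¬ 2 ∣ 2 * r + 1)]
      · obtain ⟨r, hr⟩ : ∃ r, Fintype.card F = 8 * r + 5 := ⟨Fintype.card F / 8, by omega⟩
        rw [show Fintype.card F - 1 = 2 ^ 2 * (2 * r + 1) by omega, show Fintype.card F + 1 = 2 * (4 * r + 3) by omega,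
          padicValNat.mul (by omega) (by omega), padicValNat.mul (by omega) (by omega), padicValNat.prime_pow,
          padicValNat_self, padicValNat.eq_zero_of_not_dvd (by omega : ¬ 2 ∣ 4 * r + 3),
          padicValNat.eq_zero_of_not_dvd (by omega : ¬ 2 ∣ 2 * r + 1)]
    rw [hv, h1] at h2'
    have : 2 ^ k = 2 ^ 1 := by omega
    exact Nat.pow_right_injective le_rfl this
  subst hQ8
  let f : (Q : Subgroup S2) ≃* QuaternionGroup 2 := e
  by_contra hhQ
  have hfac : ∀ u v : S2, u ∈ (Q : Subgroup S2) → v ∈ (Q : Subgroup S2) → u * u ≠ 1 → v * v ≠ 1 → v ≠ u → v ≠ u⁻¹ →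
      u * v * u⁻¹ = v⁻¹ ∧ v * u * v⁻¹ = u⁻¹ ∧ ∀ w ∈ (Q : Subgroup S2), w * w ≠ 1 →
        w = u ∨ w = u⁻¹ ∨ w = v ∨ w = v⁻¹ ∨ w = u * v ∨ w = (u * v)⁻¹ := by
    intro u v hu hv huu hvv hvu hvu'
    obtain ⟨h1, h2'', h3⟩ := quaternion_eight_facts (f ⟨u, hu⟩) (f ⟨v, hv⟩)
      (fun hh => huu (congrArg Subtype.val (f.injective (by rw [map_mul, hh, map_one] :
        f (⟨u, hu⟩ * ⟨u, hu⟩) = f 1))))
      (fun hh => hvv (congrArg Subtype.val (f.injective (by rw [map_mul, hh, map_one] :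
        f (⟨v, hv⟩ * ⟨v, hv⟩) = f 1))))
      (fun hh => hvu (congrArg Subtype.val (f.injective hh)))
      (fun hh => hvu' (congrArg Subtype.val (f.injective (hh.trans (map_inv f _).symm))))
    refine ⟨congrArg Subtype.val (f.injective (by rw [map_mul, map_mul, map_inv, map_inv, h1] :
        f (⟨u, hu⟩ * ⟨v, hv⟩ * ⟨u, hu⟩⁻¹) = f ⟨v, hv⟩⁻¹)),
      congrArg Subtype.val (f.injective (by rw [map_mul, map_mul, map_inv, map_inv, h2''] :
        f (⟨v, hv⟩ * ⟨u, hu⟩ * ⟨v, hv⟩⁻¹) = f ⟨u, hu⟩⁻¹)), fun w hw hww => ?_⟩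
    have h4 := h3 (f ⟨w, hw⟩) (fun hh => hww (congrArg Subtype.val (f.injective (by rw [map_mul, hh, map_one] :
      f (⟨w, hw⟩ * ⟨w, hw⟩) = f 1))))
    simp only [← map_mul, ← map_inv, f.injective.eq_iff, Subtype.ext_iff] at h4
    exact h4
  -- `h` moves every pair
  have hi1 : i * i ≠ 1 := fun e => by
    have h' := congrArg Subtype.val e
    rw [Matrix.SpecialLinearGroup.coe_mul, hi, Matrix.SpecialLinearGroup.coe_one] at h'
    exact h2 (by have := congrFun (congrFun h' 0) 0; simp at this; linear_combination -this)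
  obtain ⟨o, ho⟩ := hodd
  have hfix : ∀ u ∈ (Q : Subgroup S2), (h * u * h⁻¹ = u ∨ h * u * h⁻¹ = u⁻¹) → h * u * h⁻¹ = u := by
    intro u _ hu
    rcases hu with hu | hu
    · exact hu
    have h2u : h * (h * u * h⁻¹) * h⁻¹ = u := by rw [hu, ← conj_inv, hu, inv_inv]
    have hcom : ∀ n : ℕ, (h * h) ^ n * u = u * (h * h) ^ n := fun n =>
      (Commute.pow_left (show Commute (h * h) u from mul_inv_eq_iff_eq_mul.1 (by
        simpa [mul_assoc, _root_.mul_inv_rev] using h2u)) n)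
    have hh1 : (h * h) ^ (o + 1) = h := by
      rw [← sq, ← pow_mul, show 2 * (o + 1) = orderOf h + 1 by omega, pow_succ, pow_orderOf_eq_one, one_mul]
    have := hcom (o + 1)
    rw [hh1] at this
    rw [this, mul_inv_cancel_right]
  have hconjQ : ∀ u ∈ (Q : Subgroup S2), h * u * h⁻¹ ∈ (Q : Subgroup S2) := fun u hu =>
    (Subgroup.mem_normalizer_iff.1 hhN u).1 hu
  have hsqne : ∀ (g : S2) (u : S2), u * u ≠ 1 → g * u * g⁻¹ * (g * u * g⁻¹) ≠ 1 := fun g u hu e => hu (by
    have : g * (u * u) * g⁻¹ = 1 := by rw [← e]; group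
    exact conj_eq_one_iff.1 this)
  have hmove : ∀ u ∈ (Q : Subgroup S2), u * u ≠ 1 → ¬ (h * u * h⁻¹ = u ∨ h * u * h⁻¹ = u⁻¹) := by
    intro u hu huu hor
    have hcu := hfix u hu hor
    obtain ⟨w, hw, hww, hwu, hwu'⟩ : ∃ w ∈ (Q : Subgroup S2), w * w ≠ 1 ∧ w ≠ u ∧ w ≠ u⁻¹ := by
      have hx : ∀ x : QuaternionGroup 2, ∃ w, w * w ≠ 1 ∧ w ≠ x ∧ w ≠ x⁻¹ := by decide
      obtain ⟨w, hw1, hw2, hw3⟩ := hx (f ⟨u, hu⟩)
      refine ⟨_, (f.symm w).2, fun e => hw1 ?_, fun e => hw2 ?_, fun e => hw3 ?_⟩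
      · apply f.symm.injective; rw [map_mul, map_one]; exact Subtype.ext e
      · apply f.symm.injective; rw [f.symm_apply_apply]; exact Subtype.ext e
      · apply f.symm.injective; rw [map_inv, f.symm_apply_apply]; exact Subtype.ext e
    have hinj' : ∀ a b : S2, h * a * h⁻¹ = h * b * h⁻¹ → a = b := fun a b e => mul_left_cancel (mul_right_cancel e)
    obtain ⟨huw, hwu2, hsix⟩ := hfac u w hu hw huu hww hwu hwu'
    have hu2 : u.1 * u.1 = -1 := by
      rw [← Matrix.SpecialLinearGroup.coe_mul]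
      refine involution_eq_neg_one h2 huu ?_
      have hq : ∀ x : QuaternionGroup 2, x * x * (x * x) = 1 := by decide
      exact congrArg Subtype.val (f.injective (by rw [map_mul, map_mul, hq, map_one] :
        f (⟨u, hu⟩ * ⟨u, hu⟩ * (⟨u, hu⟩ * ⟨u, hu⟩)) = f 1))
    have hw2 : w.1 * w.1 = -1 := by
      rw [← Matrix.SpecialLinearGroup.coe_mul]
      refine involution_eq_neg_one h2 hww ?_
      have hq : ∀ x : QuaternionGroup 2, x * x * (x * x) = 1 := by decide
      exact congrArg Subtype.val (f.injective (by rw [map_mul, map_mul, hq, map_one] :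
        f (⟨w, hw⟩ * ⟨w, hw⟩ * (⟨w, hw⟩ * ⟨w, hw⟩)) = f 1))
    have hh2w : h * (h * w * h⁻¹) * h⁻¹ = w ∨ h * (h * w * h⁻¹) * h⁻¹ = w⁻¹ := by
      rcases hsix _ (hconjQ w hw) (hsqne h w hww) with e | e | e | e | e | e
      · exact absurd (hinj' w u (e.trans hcu.symm)) hwu
      · exact absurd (hinj' w u⁻¹ (e.trans (by rw [← conj_inv, hcu]))) hwu'
      · rw [e]; exact Or.inl e
      · left; rw [e, ← conj_inv, e, inv_inv]
      · right
        have huum : u * u * w = w⁻¹ := Subtype.ext (by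
          rw [hneg w hw2, Matrix.SpecialLinearGroup.coe_mul, Matrix.SpecialLinearGroup.coe_mul, hu2, neg_one_mul])
        rw [e, ← huum]
        calc h * (u * w) * h⁻¹ = (h * u * h⁻¹) * (h * w * h⁻¹) := by group
          _ = _ := by rw [hcu, e, mul_assoc]
      · right
        rw [e]
        calc h * (u * w)⁻¹ * h⁻¹ = (h * w * h⁻¹)⁻¹ * (h * u * h⁻¹)⁻¹ := by group
          _ = u * w * u⁻¹ := by rw [hcu, e]; group
          _ = w⁻¹ := huw
    have hcw : h * w * h⁻¹ = w := by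
      have h4 : h * h * (h * h) * w = w * (h * h * (h * h)) := by
        refine mul_inv_eq_iff_eq_mul.1 ?_
        have e1 : h * h * (h * h) * w * (h * h * (h * h))⁻¹ = h * (h * (h * (h * w * h⁻¹) * h⁻¹) * h⁻¹) * h⁻¹ := by group
        rw [e1]
        rcases hh2w with e | e
        · rw [e, e]
        · rw [e]
          calc h * (h * w⁻¹ * h⁻¹) * h⁻¹ = (h * (h * w * h⁻¹) * h⁻¹)⁻¹ := by simp only [_root_.mul_inv_rev, inv_inv, mul_assoc]
            _ = w := by rw [e, inv_inv]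
      obtain ⟨l, hl⟩ : ∃ l : ℕ, (h * h * (h * h)) ^ l = h := by
        have e4 : h * h * (h * h) = h ^ 4 := by simp only [pow_succ, pow_zero, one_mul, mul_assoc]
        rw [e4]
        refine exists_pow_eq_self_of_coprime ?_
        rw [ho]
        exact Nat.Coprime.pow_left 2 (Nat.coprime_two_left.2 ⟨o, rfl⟩)
      have := (Commute.pow_left (show Commute (h * h * (h * h)) w from h4) l).eq
      rw [hl] at this
      rw [this, mul_inv_cancel_right]
    obtain ⟨c, hc⟩ := scalar_of_comm_pair h2 hu2 hw2 (by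
        rw [← Matrix.SpecialLinearGroup.coe_mul u w, show u * w = w⁻¹ * u by rw [← huw]; group,
          Matrix.SpecialLinearGroup.coe_mul, hneg w hw2, neg_mul])
      (show u.1 * h.1 = h.1 * u.1 by
        rw [← Matrix.SpecialLinearGroup.coe_mul, ← Matrix.SpecialLinearGroup.coe_mul, mul_inv_eq_iff_eq_mul.1 hcu])
      (show w.1 * h.1 = h.1 * w.1 by
        rw [← Matrix.SpecialLinearGroup.coe_mul, ← Matrix.SpecialLinearGroup.coe_mul, mul_inv_eq_iff_eq_mul.1 hcw])
    refine hhQ ?_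
    have hdc : c * c = 1 := by
      have := h.det_coe
      rw [hc, Matrix.det_smul, Matrix.det_one, mul_one, Fintype.card_fin, sq] at this
      exact this
    rcases mul_self_eq_one_iff.1 hdc with e | e
    · rw [show h = 1 from Subtype.ext (by rw [hc, e, one_smul]; rfl)]; exact one_mem _
    · rw [show h = i * i from Subtype.ext (by rw [hc, e, neg_one_smul, Matrix.SpecialLinearGroup.coe_mul, hi])]
      exact mul_mem hiQ hiQ
  -- the three pairs
  set j' := h * i * h⁻¹ with hj'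
  have hj'Q : j' ∈ (Q : Subgroup S2) := hconjQ i hiQ
  have hj'1 : j' * j' ≠ 1 := hsqne h i hi1
  have hji' : j' ≠ i ∧ j' ≠ i⁻¹ := ⟨fun e => hmove i hiQ hi1 (Or.inl e), fun e => hmove i hiQ hi1 (Or.inr e)⟩
  obtain ⟨hinv_i, hinv_j, hsix⟩ := hfac i j' hiQ hj'Q hi1 hj'1 hji'.1 hji'.2
  have hhpow : ∀ l : ℕ, (toG h * toG i * (toG h)⁻¹) = toG j' := fun _ => by rw [hj', map_mul, map_mul, map_inv]
  -- inner automorphisms fix pairs
  have hinner : ∀ q ∈ (Q : Subgroup S2), ∀ u ∈ (Q : Subgroup S2), q * u * q⁻¹ = u ∨ q * u * q⁻¹ = u⁻¹ := by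
    intro q hq u hu
    have hq8 : ∀ a b : QuaternionGroup 2, a * b * a⁻¹ = b ∨ a * b * a⁻¹ = b⁻¹ := by decide
    rcases hq8 (f ⟨q, hq⟩) (f ⟨u, hu⟩) with e | e
    · left; exact congrArg Subtype.val (f.injective (by rw [map_mul, map_mul, map_inv, e] :
        f (⟨q, hq⟩ * ⟨u, hu⟩ * ⟨q, hq⟩⁻¹) = f ⟨u, hu⟩))
    · right; exact congrArg Subtype.val (f.injective (by rw [map_mul, map_mul, map_inv, map_inv, e] :
        f (⟨q, hq⟩ * ⟨u, hu⟩ * ⟨q, hq⟩⁻¹) = f ⟨u, hu⟩⁻¹))
  -- every element of `P` has square determinant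
  have hsquare : ∀ X ∈ P, IsSquare (X : Matrix (Fin 2) (Fin 2) F).det := by
    intro X hX
    set Hh := toG h
    have hHN : ∀ y ∈ P, Hh * y * Hh⁻¹ ∈ P := fun y hy => by
      rw [hconjh]; exact (Subgroup.mem_normalizer_iff.1 hg'N y).1 hy
    have hHN' : ∀ y ∈ P, Hh⁻¹ * y * Hh ∈ P := fun y hy => by
      have h1 := (Subgroup.mem_normalizer_iff.1 hg'N (Hh⁻¹ * y * Hh)).2 (by
        rw [← hconjh]; simpa [mul_assoc] using hy)
      exact h1
    have hXQ : ∀ u ∈ (Q : Subgroup S2), ∃ v ∈ (Q : Subgroup S2), X * toG u * X⁻¹ = toG v := by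
      intro u hu
      have hd : ((X * toG u * X⁻¹ : G2') : Matrix (Fin 2) (Fin 2) F).det = 1 := by
        rw [Units.val_mul, Units.val_mul, Matrix.det_mul, Matrix.det_mul, htoG, u.det_coe, mul_one, ← Matrix.det_mul,
          ← Units.val_mul, mul_inv_cancel, Units.val_one, Matrix.det_one]
      exact ⟨⟨_, hd⟩, show toG ⟨_, hd⟩ ∈ P by
        rw [show toG ⟨_, hd⟩ = X * toG u * X⁻¹ from Units.ext rfl]
        exact mul_mem (mul_mem hX hu) (inv_mem hX), Units.ext rfl⟩
    obtain ⟨q, hqQ, hq⟩ : ∃ q ∈ (Q : Subgroup S2), X * Hh = Hh * X * toG q := by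
      have hd : ((X⁻¹ * (Hh⁻¹ * X * Hh) : G2') : Matrix (Fin 2) (Fin 2) F).det = 1 := by
        simp only [Units.val_mul, Matrix.det_mul]
        have e1 : ((X⁻¹ : G2') : Matrix (Fin 2) (Fin 2) F).det * (X : Matrix (Fin 2) (Fin 2) F).det = 1 := by
          rw [← Matrix.det_mul, ← Units.val_mul, inv_mul_cancel, Units.val_one, Matrix.det_one]
        have e2 : ((Hh⁻¹ : G2') : Matrix (Fin 2) (Fin 2) F).det * (Hh : Matrix (Fin 2) (Fin 2) F).det = 1 := by
          rw [← Matrix.det_mul, ← Units.val_mul, inv_mul_cancel, Units.val_one, Matrix.det_one]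
        linear_combination (((Hh⁻¹ : G2') : Matrix (Fin 2) (Fin 2) F).det * (Hh : Matrix (Fin 2) (Fin 2) F).det) * e1 + e2
      refine ⟨⟨_, hd⟩, ?_, ?_⟩
      · show toG ⟨_, hd⟩ ∈ P
        rw [show toG ⟨_, hd⟩ = X⁻¹ * (Hh⁻¹ * X * Hh) from Units.ext rfl]
        exact mul_mem (inv_mem hX) (hHN' X hX)
      · rw [show toG ⟨_, hd⟩ = X⁻¹ * (Hh⁻¹ * X * Hh) from Units.ext rfl]; group
    let IQ : Set G2' := toG '' ((Q : Subgroup S2) : Set S2)
    -- commutation up to inverses
    have hcomm : ∀ u ∈ IQ, X * (Hh * u * Hh⁻¹) * X⁻¹ = Hh * (X * u * X⁻¹) * Hh⁻¹ ∨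
        X * (Hh * u * Hh⁻¹) * X⁻¹ = (Hh * (X * u * X⁻¹) * Hh⁻¹)⁻¹ := by
      rintro _ ⟨u, hu, rfl⟩
      have e : X * (Hh * toG u * Hh⁻¹) * X⁻¹ = Hh * (X * (toG q * toG u * (toG q)⁻¹) * X⁻¹) * Hh⁻¹ := by
        calc X * (Hh * toG u * Hh⁻¹) * X⁻¹ = (X * Hh) * toG u * (X * Hh)⁻¹ := by group
          _ = _ := by rw [hq]; group
      rw [e, ← map_inv, ← map_mul, ← map_mul]
      rcases hinner q hqQ u hu with e' | e' <;> rw [e']
      · exact Or.inl rfl
      · right; rw [map_inv]; group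
    have hIH : ∀ u ∈ IQ, Hh * u * Hh⁻¹ ∈ IQ := by
      rintro _ ⟨u, hu, rfl⟩
      exact ⟨_, hconjQ u hu, by rw [map_mul, map_mul, map_inv]⟩
    have hIX : ∀ u ∈ IQ, X * u * X⁻¹ ∈ IQ := by
      rintro _ ⟨u, hu, rfl⟩
      obtain ⟨v, hv, e⟩ := hXQ u hu
      exact ⟨v, hv, e.symm⟩
    -- iterates of `h`
    have hIHn : ∀ (n : ℕ), ∀ u ∈ IQ, Hh ^ n * u * (Hh ^ n)⁻¹ ∈ IQ := by
      intro n
      induction n with
      | zero => intro u hu; simpa using hu
      | succ n ih =>
        intro u hu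
        have e : Hh ^ (n + 1) * u * (Hh ^ (n + 1))⁻¹ = Hh * (Hh ^ n * u * (Hh ^ n)⁻¹) * Hh⁻¹ := by
          rw [pow_succ']; group
        rw [e]; exact hIH _ (ih u hu)
    have hcommn : ∀ (n : ℕ), ∀ u ∈ IQ, X * (Hh ^ n * u * (Hh ^ n)⁻¹) * X⁻¹ = Hh ^ n * (X * u * X⁻¹) * (Hh ^ n)⁻¹ ∨
        X * (Hh ^ n * u * (Hh ^ n)⁻¹) * X⁻¹ = (Hh ^ n * (X * u * X⁻¹) * (Hh ^ n)⁻¹)⁻¹ := by
      intro n
      induction n with
      | zero => intro u _; left; simp
      | succ n ih =>
        intro u hu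
        have e : ∀ v : G2', Hh ^ (n + 1) * v * (Hh ^ (n + 1))⁻¹ = Hh * (Hh ^ n * v * (Hh ^ n)⁻¹) * Hh⁻¹ := fun v => by
          rw [pow_succ']; group
        rw [e, e]
        exact rel_trans (rel_conj Hh (ih u hu)) (hcomm _ (hIHn n u hu))
    have hiI : toG i ∈ IQ := ⟨i, hiQ, rfl⟩
    -- `X` cannot move the first pair
    have hnot : ∀ l : ℕ, (l = 1 ∨ l = 2) → ¬ (X * toG i * X⁻¹ = Hh ^ l * toG i * (Hh ^ l)⁻¹ ∨
        X * toG i * X⁻¹ = (Hh ^ l * toG i * (Hh ^ l)⁻¹)⁻¹) := by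
      intro l hl hXl
      have hiter : ∀ n : ℕ, X ^ n * toG i * (X ^ n)⁻¹ = Hh ^ (l * n) * toG i * (Hh ^ (l * n))⁻¹ ∨
          X ^ n * toG i * (X ^ n)⁻¹ = (Hh ^ (l * n) * toG i * (Hh ^ (l * n))⁻¹)⁻¹ := by
        intro n
        induction n with
        | zero => left; simp
        | succ n ih =>
          have e1 : X ^ (n + 1) * toG i * (X ^ (n + 1))⁻¹ = X * (X ^ n * toG i * (X ^ n)⁻¹) * X⁻¹ := by
            rw [pow_succ']; group
          have e2 : Hh ^ (l * (n + 1)) * toG i * (Hh ^ (l * (n + 1)))⁻¹ =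
              Hh ^ (l * n) * (Hh ^ l * toG i * (Hh ^ l)⁻¹) * (Hh ^ (l * n))⁻¹ := by
            rw [show l * (n + 1) = l * n + l by ring, pow_add]; group
          rw [e1, e2]
          exact rel_trans (rel_trans (rel_conj (Hh ^ (l * n)) hXl) (hcommn (l * n) _ hiI)) (rel_conj X ih)
      obtain ⟨t, ht⟩ := hP2 ⟨X, hX⟩
      have hXt : X ^ 2 ^ t = 1 := congrArg Subtype.val ht
      have h1 := hiter (2 ^ t)
      rw [hXt, one_mul, inv_one, mul_one, ← map_pow, ← map_inv, ← map_mul, ← map_mul] at h1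
      set H0 := h ^ (l * 2 ^ t) with hH0
      have h2' : H0 * i * H0⁻¹ = i ∨ H0 * i * H0⁻¹ = i⁻¹ := by
        rcases h1 with e | e
        · exact Or.inl (hinj e).symm
        · right; rw [← map_inv] at e; exact inv_eq_iff_eq_inv.1 (hinj e).symm
      have hpow : ∀ n : ℕ, H0 ^ n * i * (H0 ^ n)⁻¹ = i ∨ H0 ^ n * i * (H0 ^ n)⁻¹ = i⁻¹ := by
        intro n
        induction n with
        | zero => left; simp
        | succ n ih =>
          have e1 : H0 ^ (n + 1) * i * (H0 ^ (n + 1))⁻¹ = H0 * (H0 ^ n * i * (H0 ^ n)⁻¹) * H0⁻¹ := by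
            rw [pow_succ']; group
          rw [e1]
          exact rel_trans h2' (rel_conj H0 ih)
      obtain ⟨n, hn⟩ : ∃ n : ℕ, H0 ^ n = h := by
        refine exists_pow_eq_self_of_coprime ?_
        rw [ho]
        refine Nat.Coprime.mul_left ?_ ((Nat.coprime_two_left.2 ⟨o, rfl⟩).pow_left t)
        rcases hl with rfl | rfl
        exacts [Nat.coprime_one_left _, Nat.coprime_two_left.2 ⟨o, rfl⟩]
      exact hmove i hiQ hi1 (hn ▸ hpow n)
    -- hence fixes it
    have hXi : X * toG i * X⁻¹ = toG i ∨ X * toG i * X⁻¹ = (toG i)⁻¹ := by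
      obtain ⟨v, hv, e⟩ := hXQ i hiQ
      have hv1 : v * v ≠ 1 := fun h' => hi1 (hinj (by
        have : X * (toG i * toG i) * X⁻¹ = 1 := by
          calc X * (toG i * toG i) * X⁻¹ = (X * toG i * X⁻¹) * (X * toG i * X⁻¹) := by group
            _ = _ := by rw [e, ← map_mul, h', map_one]
        rw [map_mul, map_one]; exact conj_eq_one_iff.1 this))
      have hj1 : Hh ^ 1 * toG i * (Hh ^ 1)⁻¹ = toG j' := by rw [pow_one, hhpow 1]
      -- the third pair
      set k' := h * j' * h⁻¹ with hk'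
      have hk'Q : k' ∈ (Q : Subgroup S2) := hconjQ j' hj'Q
      have hk'1 : k' * k' ≠ 1 := hsqne h j' hj'1
      have hk2 : Hh ^ 2 * toG i * (Hh ^ 2)⁻¹ = toG k' := by
        rw [hk', pow_two, map_mul, map_mul, map_inv, ← hhpow 1]; simp only [_root_.mul_inv_rev, mul_assoc, Hh]
      have hk'3 : k' = i * j' ∨ k' = (i * j')⁻¹ := by
        have hnotj : ¬ (k' = j' ∨ k' = j'⁻¹) := hmove j' hj'Q hj'1
        have hnoti : ¬ (k' = i ∨ k' = i⁻¹) := by
          intro hki
          have hpow : ∀ n : ℕ, (h * h) ^ n * i * ((h * h) ^ n)⁻¹ = i ∨ (h * h) ^ n * i * ((h * h) ^ n)⁻¹ = i⁻¹ := by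
            intro n
            induction n with
            | zero => left; simp
            | succ n ih =>
              have e1 : (h * h) ^ (n + 1) * i * ((h * h) ^ (n + 1))⁻¹ =
                  (h * h) * ((h * h) ^ n * i * ((h * h) ^ n)⁻¹) * (h * h)⁻¹ := by
                simp only [pow_succ', _root_.mul_inv_rev, mul_assoc]
              rw [e1]
              refine rel_trans ?_ (rel_conj (h * h) ih)
              have e2 : h * h * i * (h * h)⁻¹ = k' := by rw [hk', hj']; group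
              rw [e2]; exact hki
          have h1 := hpow (o + 1)
          rw [← sq, ← pow_mul, show 2 * (o + 1) = orderOf h + 1 by omega, pow_succ, pow_orderOf_eq_one, one_mul] at h1
          exact hmove i hiQ hi1 h1
        rcases hsix k' hk'Q hk'1 with e' | e' | e' | e' | e' | e'
        · exact absurd (Or.inl e') hnoti
        · exact absurd (Or.inr e') hnoti
        · exact absurd (Or.inl e') hnotj
        · exact absurd (Or.inr e') hnotj
        · exact Or.inl e'
        · exact Or.inr e'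
      rcases hsix v hv hv1 with e' | e' | e' | e' | e' | e'
      · exact Or.inl (by rw [e, e'])
      · exact Or.inr (by rw [e, e', map_inv])
      · exact absurd (Or.inl (by rw [e, e', hj1])) (hnot 1 (Or.inl rfl))
      · exact absurd (Or.inr (by rw [e, e', hj1, map_inv])) (hnot 1 (Or.inl rfl))
      · refine absurd ?_ (hnot 2 (Or.inr rfl))
        rw [e, e', hk2]
        rcases hk'3 with e3 | e3
        · exact Or.inl (by rw [e3])
        · exact Or.inr (by rw [e3, map_inv, inv_inv])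
      · refine absurd ?_ (hnot 2 (Or.inr rfl))
        rw [e, e', hk2]
        rcases hk'3 with e3 | e3
        · exact Or.inr (by rw [e3, map_inv])
        · exact Or.inl (by rw [e3])
    have hXj : X * toG j' * X⁻¹ = toG j' ∨ X * toG j' * X⁻¹ = (toG j')⁻¹ := by
      rw [← hhpow 1]
      exact rel_trans (rel_conj Hh hXi) (hcomm _ hiI)
    -- correct by an element of the quaternion group
    have hselfI : toG i * toG i * (toG i)⁻¹ = toG i := by group
    obtain ⟨v, -, hvi, hvj⟩ : ∃ v ∈ (Q : Subgroup S2), toG v * (X * toG i * X⁻¹) * (toG v)⁻¹ = toG i ∧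
        toG v * (X * toG j' * X⁻¹) * (toG v)⁻¹ = toG j' := by
      rcases hXi with ei | ei <;> rcases hXj with ej | ej <;> rw [ei, ej]
      · exact ⟨1, one_mem _, by simp, by simp⟩
      · exact ⟨i, hiQ, hselfI, by rw [← map_inv, ← map_inv, ← map_mul, ← map_mul, ← conj_inv, hinv_i, inv_inv]⟩
      · exact ⟨j', hj'Q, by rw [← map_inv, ← map_inv, ← map_mul, ← map_mul, ← conj_inv, hinv_j, inv_inv], by group⟩
      · refine ⟨i * j', mul_mem hiQ hj'Q, ?_, ?_⟩
        · rw [← map_inv, ← map_inv, ← map_mul, ← map_mul]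
          congr 1
          calc i * j' * i⁻¹ * (i * j')⁻¹ = i * (j' * i * j'⁻¹)⁻¹ * i⁻¹ := by group
            _ = i := by rw [hinv_j, inv_inv]; group
        · rw [← map_inv, ← map_inv, ← map_mul, ← map_mul]
          congr 1
          calc i * j' * j'⁻¹ * (i * j')⁻¹ = (i * j' * i⁻¹)⁻¹ := by group
            _ = j' := by rw [hinv_i, inv_inv]
    have hcom : ∀ u : S2, toG v * (X * toG u * X⁻¹) * (toG v)⁻¹ = toG u →
        u.1 * ((toG v * X : G2') : Matrix (Fin 2) (Fin 2) F) = ((toG v * X : G2') : Matrix (Fin 2) (Fin 2) F) * u.1 := by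
      intro u hu
      have e1 : toG v * X * toG u = toG u * (toG v * X) :=
        mul_inv_eq_iff_eq_mul.1 (by
          calc toG v * X * toG u * (toG v * X)⁻¹ = toG v * (X * toG u * X⁻¹) * (toG v)⁻¹ := by group
            _ = _ := hu)
      have e2 := congrArg Units.val e1
      rw [Units.val_mul (toG v * X), Units.val_mul (toG u), htoG] at e2
      exact e2.symm
    have hanti : i.1 * j'.1 = -(j'.1 * i.1) := by
      rw [← Matrix.SpecialLinearGroup.coe_mul i j', show i * j' = j'⁻¹ * i by rw [← hinv_i]; group,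
        Matrix.SpecialLinearGroup.coe_mul, hneg j' ?_, neg_mul]
      rw [hj', Matrix.SpecialLinearGroup.coe_mul, Matrix.SpecialLinearGroup.coe_mul]
      have e : (h.1 * i.1 * h⁻¹.1) * (h.1 * i.1 * h⁻¹.1) = h.1 * (i.1 * (h⁻¹.1 * h.1) * i.1) * h⁻¹.1 := by
        simp only [mul_assoc]
      rw [e, ← Matrix.SpecialLinearGroup.coe_mul h⁻¹ h, inv_mul_cancel, Matrix.SpecialLinearGroup.coe_one, mul_one, hi,
        mul_neg_one, neg_mul, ← Matrix.SpecialLinearGroup.coe_mul, mul_inv_cancel, Matrix.SpecialLinearGroup.coe_one]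
    have hj'sq : j'.1 * j'.1 = -1 := by
      rw [← Matrix.SpecialLinearGroup.coe_mul]
      refine involution_eq_neg_one h2 hj'1 ?_
      have hq : ∀ x : QuaternionGroup 2, x * x * (x * x) = 1 := by decide
      exact congrArg Subtype.val (f.injective (by rw [map_mul, map_mul, hq, map_one] :
        f (⟨j', hj'Q⟩ * ⟨j', hj'Q⟩ * (⟨j', hj'Q⟩ * ⟨j', hj'Q⟩)) = f 1))
    obtain ⟨c, hc⟩ := scalar_of_comm_pair h2 hi hj'sq hanti (hcom i hvi) (hcom j' hvj)
    refine ⟨c, ?_⟩
    have := congrArg Matrix.det hc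
    rw [Units.val_mul, Matrix.det_mul, htoG, v.det_coe, one_mul, Matrix.det_smul, Matrix.det_one, mul_one,
      Fintype.card_fin, sq] at this
    exact this
  -- but the determinant covers the two-part
  have hle : δ.range ≤ (powMonoidHom 2 : Fˣ →* Fˣ).range := by
    rintro _ ⟨⟨X, hX⟩, rfl⟩
    obtain ⟨r, hr⟩ := hsquare X hX
    have hr0 : r ≠ 0 := fun e => by
      rw [e, mul_zero] at hr
      exact (Matrix.GeneralLinearGroup.det X).ne_zero hr
    exact ⟨Units.mk0 r hr0, Units.ext (by simp [sq, ← hr]; rfl)⟩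
  have h3 := Subgroup.card_dvd_of_le hle
  rw [hrange, hbeq] at h3
  have hsq2 : Nat.card (powMonoidHom 2 : Fˣ →* Fˣ).range * 2 = Fintype.card F - 1 := by
    have e := Subgroup.card_mul_index (powMonoidHom 2 : Fˣ →* Fˣ).range
    rw [IsCyclic.index_powMonoidHom_range, Nat.card_eq_fintype_card (α := Fˣ), Fintype.card_units] at e
    have hev : 2 ∣ Fintype.card F - 1 := by have := Nat.odd_iff.1 hF; omega
    rwa [Nat.gcd_eq_right hev] at e
  have h4 : 2 ^ (padicValNat 2 (Fintype.card F - 1) + 1) ∣ Fintype.card F - 1 := by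
    rw [pow_succ, ← hsq2]
    exact Nat.mul_dvd_mul_right (by rw [hsq2]; exact h3) 2
  exact pow_succ_padicValNat_not_dvd (by omega) h4

end CfsgLib.Pronormal.TwoPower
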