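import Cfsg.Agent.Lib.Classical.SylowTwoElemAb
import Mathlib.LinearAlgebra.Matrix.Dual
import Mathlib.NumberTheory.Padics.PadicVal.Basic

/-!
# Sylow two-subgroups of general linear groups of two-power degree: the doubling step
-/

set_option autoImplicit false
set_option linter.unusedSectionVars false
set_option linter.style.haveILetI false

namespace CfsgLib.Pronormal.TwoPower

open Matrix

variable {ι : Type} [Fintype ι] [DecidableEq ι] {F : Type*} [Field F] [Fintype F]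

/-- The properties of a Sylow two-subgroup carried along the induction. -/
structure Good (P : Subgroup (GL ι F)) : Prop where
  even : Even (Fintype.card ι)
  card_ne : ((Fintype.card ι : ℕ) : F) ≠ 0
  isTwo : IsPGroup 2 P
  norm : ∀ g : GL ι F, (∀ x ∈ P, g * x * g⁻¹ ∈ P) → ∃ p ∈ P, ∃ c : F, (g : Matrix ι ι F) = c • (p : Matrix ι ι F)
  span : ∀ X : Matrix ι ι F,
    (∀ s ∈ P, (s : Matrix ι ι F).det = 1 → ((s : Matrix ι ι F) * X).trace = 0) → X = 0
  quarter : ∃ t ∈ P, (t : Matrix ι ι F).det = 1 ∧ (t : Matrix ι ι F) * t = -1 ∧ (t : Matrix ι ι F).trace = 0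

variable {P : Subgroup (GL ι F)}

theorem Good.neg_one_mem (hP : Good P) : ∃ z ∈ P, (z : Matrix ι ι F) = -1 := by
  obtain ⟨t, ht, -, h2, -⟩ := hP.quarter
  exact ⟨t * t, mul_mem ht ht, by rw [Units.val_mul, h2]⟩

theorem scalar_of_span (hspan : ∀ X : Matrix ι ι F,
      (∀ s ∈ P, (s : Matrix ι ι F).det = 1 → ((s : Matrix ι ι F) * X).trace = 0) → X = 0) {X : Matrix ι ι F}
    (hX : ∀ s ∈ P, (s : Matrix ι ι F).det = 1 → (s : Matrix ι ι F) * X = X * s) : ∃ c : F, X = c • 1 := by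
  classical
  set A := Submodule.span F {M : Matrix ι ι F | ∃ s ∈ P, (s : Matrix ι ι F) = M ∧ M.det = 1} with hA
  have htop : A = ⊤ := by
    by_contra hne
    obtain ⟨f, hf0, hf⟩ := Submodule.exists_dual_map_eq_bot_of_lt_top (lt_top_iff_ne_top.2 hne) inferInstance
    set Y : Matrix ι ι F := Matrix.of fun j i => f (Matrix.single i j 1) with hY
    have hfY : ∀ M, f M = (M * Y).trace := by
      intro M
      conv_lhs => rw [Matrix.matrix_eq_sum_single M]
      rw [map_sum]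
      simp only [Matrix.trace, Matrix.diag_apply, Matrix.mul_apply, hY, Matrix.of_apply]
      refine Finset.sum_congr rfl fun i _ => ?_
      rw [map_sum]
      refine Finset.sum_congr rfl fun j _ => ?_
      have e : Matrix.single i j (M i j) = M i j • Matrix.single i j (1 : F) := by
        rw [Matrix.smul_single, smul_eq_mul, mul_one]
      rw [e, map_smul, smul_eq_mul]
    refine hf0 (LinearMap.ext fun M => ?_)
    rw [hfY, hspan Y fun s hs hd => ?_, mul_zero, Matrix.trace_zero]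
    · rfl
    rw [← hfY]
    have : f (s : Matrix ι ι F) ∈ Submodule.map f A := Submodule.mem_map_of_mem (Submodule.subset_span ⟨s, hs, rfl, hd⟩)
    rw [hf] at this
    exact (Submodule.mem_bot F).1 this
  have hall : ∀ M : Matrix ι ι F, M * X = X * M := by
    intro M
    have hM : M ∈ A := htop ▸ Submodule.mem_top
    induction hM using Submodule.span_induction with
    | mem x hx => obtain ⟨s, hs, rfl, hd⟩ := hx; exact hX s hs hd
    | zero => rw [zero_mul, mul_zero]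
    | add a b _ _ ha hb => rw [add_mul, mul_add, ha, hb]
    | smul c a _ ha => rw [smul_mul_assoc, mul_smul_comm, ha]
  obtain ⟨c, hc⟩ := (Matrix.mem_range_scalar_iff_commute_single (M := X)).2 fun i j _ => hall _
  exact ⟨c, by rw [← hc]; exact (Matrix.smul_one_eq_diagonal c).symm⟩

/-- a matrix commuting with the determinant one part is scalar -/
theorem Good.scalar_of_comm (hP : Good P) {X : Matrix ι ι F}
    (hX : ∀ s ∈ P, (s : Matrix ι ι F).det = 1 → (s : Matrix ι ι F) * X = X * s) : ∃ c : F, X = c • 1 :=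
  scalar_of_span hP.span hX

theorem trace_blk (A B C D : Matrix ι ι F) : (Matrix.fromBlocks A B C D).trace = A.trace + D.trace := by
  simp [Matrix.trace, Fintype.sum_sum_type]

/-- block diagonal elements -/
def dg : GL ι F × GL ι F →* GL (ι ⊕ ι) F where
  toFun p := ⟨Matrix.fromBlocks p.1 0 0 p.2, Matrix.fromBlocks (p.1⁻¹ : GL ι F) 0 0 (p.2⁻¹ : GL ι F),
    by simp [Matrix.fromBlocks_multiply, Matrix.fromBlocks_one],
    by simp [Matrix.fromBlocks_multiply, Matrix.fromBlocks_one]⟩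
  map_one' := Units.ext (by simp [Matrix.fromBlocks_one])
  map_mul' p q := Units.ext (by simp [Matrix.fromBlocks_multiply])

theorem dg_val (a b : GL ι F) : ((dg (a, b) : GL (ι ⊕ ι) F) : Matrix (ι ⊕ ι) (ι ⊕ ι) F) =
    Matrix.fromBlocks (a : Matrix ι ι F) 0 0 (b : Matrix ι ι F) := rfl

theorem dg_injective : Function.Injective (dg (ι := ι) (F := F)) := by
  rintro ⟨a, b⟩ ⟨c, d⟩ h
  have := Matrix.fromBlocks_inj.1 (congrArg Units.val h)
  exact Prod.ext (Units.ext this.1) (Units.ext this.2.2.2)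

theorem det_dg (a b : GL ι F) : ((dg (a, b) : GL (ι ⊕ ι) F) : Matrix (ι ⊕ ι) (ι ⊕ ι) F).det =
    (a : Matrix ι ι F).det * (b : Matrix ι ι F).det := by
  rw [dg_val, Matrix.det_fromBlocks_zero₂₁]

/-- the element exchanging the blocks -/
def tau : GL (ι ⊕ ι) F :=
  ⟨Matrix.fromBlocks 0 1 (-1) 0, Matrix.fromBlocks 0 (-1) 1 0,
    by simp [Matrix.fromBlocks_multiply, Matrix.fromBlocks_one],
    by simp [Matrix.fromBlocks_multiply, Matrix.fromBlocks_one]⟩

theorem tau_val : ((tau : GL (ι ⊕ ι) F) : Matrix (ι ⊕ ι) (ι ⊕ ι) F) = Matrix.fromBlocks 0 1 (-1) 0 := rfl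

theorem det_tau : ((tau : GL (ι ⊕ ι) F) : Matrix (ι ⊕ ι) (ι ⊕ ι) F).det = 1 := by
  have e : (Matrix.fromBlocks 0 1 (-1) 0 : Matrix (ι ⊕ ι) (ι ⊕ ι) F) =
      Matrix.fromBlocks 1 1 0 1 * Matrix.fromBlocks 1 0 (-1) 1 * Matrix.fromBlocks 1 1 0 1 := by
    simp [Matrix.fromBlocks_multiply]
  rw [tau_val, e, Matrix.det_mul, Matrix.det_mul, Matrix.det_fromBlocks_zero₂₁, Matrix.det_fromBlocks_zero₁₂]
  simp

theorem tau_dg (a b : GL ι F) : (tau : GL (ι ⊕ ι) F) * dg (a, b) = dg (b, a) * tau :=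
  Units.ext (by simp [Units.val_mul, tau_val, dg_val, Matrix.fromBlocks_multiply])

theorem tau_sq : (tau : GL (ι ⊕ ι) F) * tau = dg ((-1 : GL ι F), (-1 : GL ι F)) :=
  Units.ext (by simp [Units.val_mul, tau_val, dg_val, Matrix.fromBlocks_multiply])

theorem tau_dg_trace (a b : GL ι F) :
    ((dg (a, b) * tau : GL (ι ⊕ ι) F) : Matrix (ι ⊕ ι) (ι ⊕ ι) F).trace = 0 := by
  simp [Units.val_mul, tau_val, dg_val, Matrix.fromBlocks_multiply, trace_blk]

theorem dg_tau_ne (a b c d : GL ι F) [Nonempty ι] : dg (a, b) * (tau : GL (ι ⊕ ι) F) ≠ dg (c, d) := fun h => by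
  have h1 := congrArg Units.val h
  simp only [Units.val_mul, tau_val, dg_val, Matrix.fromBlocks_multiply] at h1
  have := (Matrix.fromBlocks_inj.1 h1).2.1
  simp only [mul_one, mul_zero, add_zero, zero_add] at this
  exact a.ne_zero this

theorem Good.neg_mem (hP : Good P) {x : GL ι F} (hx : x ∈ P) : -x ∈ P := by
  obtain ⟨z, hz, hz1⟩ := hP.neg_one_mem
  have : -x = z * x := Units.ext (by rw [Units.val_neg, Units.val_mul, hz1, neg_one_mul])
  rw [this]; exact mul_mem hz hx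

/-- the doubled group -/
def double (P : Subgroup (GL ι F)) (hP : Good P) : Subgroup (GL (ι ⊕ ι) F) where
  carrier := {g | ∃ a ∈ P, ∃ b ∈ P, g = dg (a, b) ∨ g = dg (a, b) * tau}
  one_mem' := ⟨1, one_mem _, 1, one_mem _, Or.inl (map_one dg).symm⟩
  mul_mem' := by
    rintro g h ⟨a, ha, b, hb, hg⟩ ⟨c, hc, d, hd, hh⟩
    rcases hg with rfl | rfl <;> rcases hh with rfl | rfl
    · exact ⟨a * c, mul_mem ha hc, b * d, mul_mem hb hd, Or.inl (by rw [← map_mul]; rfl)⟩
    · exact ⟨a * c, mul_mem ha hc, b * d, mul_mem hb hd, Or.inr (by rw [← mul_assoc, ← map_mul]; rfl)⟩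
    · refine ⟨a * d, mul_mem ha hd, b * c, mul_mem hb hc, Or.inr ?_⟩
      rw [mul_assoc, tau_dg, ← mul_assoc, ← map_mul]; rfl
    · refine ⟨a * d * -1, mul_mem (mul_mem ha hd) (hP.neg_mem (one_mem _)), b * c * -1,
        mul_mem (mul_mem hb hc) (hP.neg_mem (one_mem _)), Or.inl ?_⟩
      apply Units.ext
      simp only [Units.val_mul, dg_val, tau_val, Units.val_neg, Units.val_one, Matrix.fromBlocks_multiply, mul_zero,
        zero_mul, add_zero, zero_add, mul_one, mul_neg, neg_mul, neg_neg, one_mul, neg_zero]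
  inv_mem' := by
    rintro g ⟨a, ha, b, hb, rfl | rfl⟩
    · exact ⟨a⁻¹, inv_mem ha, b⁻¹, inv_mem hb, Or.inl (by rw [← map_inv]; rfl)⟩
    · refine ⟨b⁻¹ * -1, mul_mem (inv_mem hb) (hP.neg_mem (one_mem _)), a⁻¹ * -1,
        mul_mem (inv_mem ha) (hP.neg_mem (one_mem _)), Or.inr ?_⟩
      refine inv_eq_of_mul_eq_one_right ?_
      apply Units.ext
      simp only [Units.val_mul, dg_val, tau_val, Units.val_neg, Units.val_one, Matrix.fromBlocks_multiply, mul_zero,
        zero_mul, add_zero, zero_add, mul_one, mul_neg, neg_mul, neg_neg, one_mul, neg_zero]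
      rw [← Units.val_mul, ← Units.val_mul, mul_inv_cancel, mul_inv_cancel, Units.val_one, Matrix.fromBlocks_one]

theorem mem_double {hP : Good P} {g : GL (ι ⊕ ι) F} :
    g ∈ double P hP ↔ ∃ a ∈ P, ∃ b ∈ P, g = dg (a, b) ∨ g = dg (a, b) * tau := Iff.rfl

theorem card_double (hP : Good P) [Nonempty ι] : Nat.card (double P hP) = 2 * (Nat.card P * Nat.card P) := by
  have hb : Function.Bijective (fun x : Bool × P × P =>
      (⟨dg ((x.2.1 : GL ι F), (x.2.2 : GL ι F)) * (if x.1 then tau else 1), mem_double.2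
        ⟨_, x.2.1.2, _, x.2.2.2, by cases x.1 <;> simp⟩⟩ : double P hP)) := by
    constructor
    · rintro ⟨s, a, b⟩ ⟨t, c, d⟩ h
      have h' := congrArg Subtype.val h
      cases s <;> cases t <;> simp only [if_true, if_false, mul_one, Bool.false_eq_true] at h'
      · obtain ⟨h1, h2⟩ := Prod.ext_iff.1 (dg_injective h'); simp [Subtype.ext h1, Subtype.ext h2]
      · exact absurd h'.symm (dg_tau_ne _ _ _ _)
      · exact absurd h' (dg_tau_ne _ _ _ _)
      · obtain ⟨h1, h2⟩ := Prod.ext_iff.1 (dg_injective (mul_right_cancel h')); simp [Subtype.ext h1, Subtype.ext h2]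
    · rintro ⟨g, a, ha, b, hb, rfl | rfl⟩
      · exact ⟨(false, ⟨a, ha⟩, ⟨b, hb⟩), Subtype.ext (mul_one _)⟩
      · exact ⟨(true, ⟨a, ha⟩, ⟨b, hb⟩), rfl⟩
  rw [← Nat.card_eq_of_bijective _ hb, Nat.card_prod, Nat.card_prod, Nat.card_eq_fintype_card,
    Fintype.card_bool]

/-- an element normalising the determinant one part of the doubled group -/
theorem norm_step (hP : Good P) [Nonempty ι] (g : GL (ι ⊕ ι) F)
    (hg : ∀ x ∈ double P hP, (x : Matrix (ι ⊕ ι) (ι ⊕ ι) F).det = 1 → g * x * g⁻¹ ∈ double P hP) :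
    ∃ p ∈ double P hP, ∃ c : F, (g : Matrix (ι ⊕ ι) (ι ⊕ ι) F) = c • (p : Matrix (ι ⊕ ι) (ι ⊕ ι) F) := by
  classical
  have hn0 := hP.card_ne
  obtain ⟨t, ht, htd, htt, httr⟩ := hP.quarter
  have h2 : (2 : F) ≠ 0 := fun h => by
    obtain ⟨k, hk⟩ := hP.even
    exact hn0 (by rw [hk, Nat.cast_add, ← two_mul, h, zero_mul])
  set S := double P hP
  have hdet1 : ∀ x : GL (ι ⊕ ι) F, ((g * x * g⁻¹ : GL (ι ⊕ ι) F) : Matrix (ι ⊕ ι) (ι ⊕ ι) F).det =
      (x : Matrix (ι ⊕ ι) (ι ⊕ ι) F).det := fun x => by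
    rw [Units.val_mul, Units.val_mul, Matrix.det_mul, Matrix.det_mul, mul_right_comm, ← Matrix.det_mul,
      ← Units.val_mul, mul_inv_cancel, Units.val_one, Matrix.det_one, one_mul]
  have htr : ∀ x : GL (ι ⊕ ι) F, ((g * x * g⁻¹ : GL (ι ⊕ ι) F) : Matrix (ι ⊕ ι) (ι ⊕ ι) F).trace =
      (x : Matrix (ι ⊕ ι) (ι ⊕ ι) F).trace := fun x => by
    rw [Units.val_mul, Units.val_mul, Matrix.trace_mul_comm, ← mul_assoc, ← Units.val_mul, inv_mul_cancel,
      Units.val_one, one_mul]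
  -- the elements of nonzero trace
  set K := Subgroup.closure {x : GL (ι ⊕ ι) F | x ∈ S ∧ (x : Matrix (ι ⊕ ι) (ι ⊕ ι) F).det = 1 ∧
    (x : Matrix (ι ⊕ ι) (ι ⊕ ι) F).trace ≠ 0} with hK
  have hKblock : ∀ x ∈ K, ∃ a ∈ P, ∃ b ∈ P, x = dg (a, b) := by
    have hle : K ≤ (P.prod P).map dg := by
      refine (Subgroup.closure_le _).2 ?_
      rintro x ⟨⟨a, ha, b, hb, rfl | rfl⟩, -, htr'⟩
      · exact ⟨(a, b), ⟨ha, hb⟩, rfl⟩
      · exact absurd (tau_dg_trace a b) htr'
    intro x hx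
    obtain ⟨⟨a, b⟩, ⟨ha, hb⟩, rfl⟩ := hle hx
    exact ⟨a, ha, b, hb, rfl⟩
  have hKg : ∀ x ∈ K, g * x * g⁻¹ ∈ K := by
    intro x hx
    refine (Subgroup.closure_le (K := K.comap (MulAut.conj g).toMonoidHom)).2 ?_ hx
    rintro y ⟨hy, hd, hty⟩
    exact Subgroup.subset_closure ⟨hg y hy hd, by rw [MulEquiv.coe_toMonoidHom, MulAut.conj_apply, hdet1, hd],
      by rwa [MulEquiv.coe_toMonoidHom, MulAut.conj_apply, htr]⟩
  have hKg' : ∀ x ∈ K, g⁻¹ * x * g ∈ K := by
    have hbij : Function.Bijective (fun x : K => (⟨g * x.1 * g⁻¹, hKg _ x.2⟩ : K)) :=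
      Finite.injective_iff_bijective.1 fun x y h =>
        Subtype.ext (mul_left_cancel (mul_right_cancel (congrArg Subtype.val h)))
    intro x hx
    obtain ⟨y, hy⟩ := hbij.2 ⟨x, hx⟩
    have hy' : g * y.1 * g⁻¹ = x := congrArg Subtype.val hy
    rw [← hy']
    simpa [mul_assoc] using y.2
  have gen : ∀ a ∈ P, ∀ b ∈ P, (a : Matrix ι ι F).det * (b : Matrix ι ι F).det = 1 →
      (a : Matrix ι ι F).trace + (b : Matrix ι ι F).trace ≠ 0 → dg (a, b) ∈ K := fun a ha b hb hd htr' =>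
    Subgroup.subset_closure ⟨⟨a, ha, b, hb, Or.inl rfl⟩, by rw [det_dg, hd],
      by rwa [dg_val, trace_blk]⟩
  have h1t : dg ((1 : GL ι F), t) ∈ K := gen 1 (one_mem _) t ht (by simp [htd]) (by simp [httr, hn0])
  have ht1 : dg (t, (1 : GL ι F)) ∈ K := gen t ht 1 (one_mem _) (by simp [htd]) (by simp [httr, hn0])
  obtain ⟨z, hz, hz1⟩ := hP.neg_one_mem
  have htz : t * t = z := Units.ext (by rw [Units.val_mul, htt, hz1])
  have hz1K : dg (z, (1 : GL ι F)) ∈ K := by
    have := mul_mem ht1 ht1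
    rwa [← map_mul, Prod.mk_mul_mk, htz, mul_one] at this
  have h1zK : dg ((1 : GL ι F), z) ∈ K := by
    have := mul_mem h1t h1t
    rwa [← map_mul, Prod.mk_mul_mk, htz, mul_one] at this
  have hzd : (z : Matrix ι ι F).det = 1 := by
    rw [← htz, Units.val_mul, Matrix.det_mul, htd, one_mul]
  have hs1 : ∀ s ∈ P, (s : Matrix ι ι F).det = 1 → dg (s, (1 : GL ι F)) ∈ K := by
    intro s hs hd
    by_cases h0 : (s : Matrix ι ι F).trace + (Fintype.card ι : F) = 0
    · have h := gen (z * s) (mul_mem hz hs) 1 (one_mem _) (by simp [Units.val_mul, hz1, Matrix.det_neg, hP.even.neg_one_pow, hd]) (by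
        rw [Units.val_mul, hz1, neg_one_mul, Matrix.trace_neg, Units.val_one, Matrix.trace_one]
        intro h1
        exact mul_ne_zero h2 hn0 (by linear_combination h1 + h0))
      have := mul_mem hz1K h
      rwa [← map_mul, Prod.mk_mul_mk, ← mul_assoc, show z * z = 1 from Units.ext (by
        rw [Units.val_mul, hz1, neg_one_mul, neg_neg, Units.val_one]), one_mul, mul_one] at this
    · exact gen s hs 1 (one_mem _) (by simp [hd]) (by rwa [Units.val_one, Matrix.trace_one])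
  have hpair : ∀ a ∈ P, ∀ b ∈ P, (a : Matrix ι ι F).det * (b : Matrix ι ι F).det = 1 → dg (a, b) ∈ K := by
    intro a ha b hb hd
    obtain ⟨s, hs, hsd, hne⟩ : ∃ s ∈ P, (s : Matrix ι ι F).det = 1 ∧ ((a * s : GL ι F) : Matrix ι ι F).trace ≠ 0 := by
      by_contra hcon
      push Not at hcon
      refine a.ne_zero (hP.span _ fun s hs hsd => ?_)
      rw [Matrix.trace_mul_comm, ← Units.val_mul]
      exact hcon s hs hsd
    have hmain : dg (a * s, b) ∈ K := by
      by_cases h0 : ((a * s : GL ι F) : Matrix ι ι F).trace + (b : Matrix ι ι F).trace = 0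
      · have h := gen (z * (a * s)) (mul_mem hz (mul_mem ha hs)) b hb (by
          rw [Units.val_mul, Units.val_mul, Matrix.det_mul, Matrix.det_mul, hzd, hsd, one_mul, mul_one, hd]) (by
          rw [Units.val_mul, hz1, neg_one_mul, Matrix.trace_neg]
          intro h1
          exact mul_ne_zero h2 hne (by linear_combination h0 - h1))
        have := mul_mem hz1K h
        rwa [← map_mul, Prod.mk_mul_mk, ← mul_assoc, show z * z = 1 from Units.ext (by
          rw [Units.val_mul, hz1, neg_one_mul, neg_neg, Units.val_one]), one_mul, one_mul] at this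
      · exact gen (a * s) (mul_mem ha hs) b hb (by rw [Units.val_mul, Matrix.det_mul, hsd, mul_one, hd]) h0
    have := mul_mem hmain (inv_mem (hs1 s hs hsd))
    rwa [← map_inv, ← map_mul, Prod.inv_mk, Prod.mk_mul_mk, mul_inv_cancel_right, inv_one, mul_one] at this
  -- the image of the involution
  obtain ⟨a', ha', b', hb', hE⟩ := hKblock _ (hKg _ h1zK)
  have hcomm : ∀ x ∈ K, dg (a', b') * x = x * dg (a', b') := by
    intro x hx
    obtain ⟨c, hc, d, hd, hcd⟩ := hKblock _ (hKg' x hx)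
    have hzc : ∀ w : GL ι F, z * w = w * z := fun w => Units.ext (by
      rw [Units.val_mul, Units.val_mul, hz1, neg_one_mul, mul_neg_one])
    have he : dg ((1 : GL ι F), z) * dg (c, d) = dg (c, d) * dg ((1 : GL ι F), z) := by
      rw [← map_mul, ← map_mul, Prod.mk_mul_mk, Prod.mk_mul_mk, one_mul, mul_one, hzc]
    rw [← hcd] at he
    rw [← hE]
    calc g * dg (1, z) * g⁻¹ * x = g * (dg (1, z) * (g⁻¹ * x * g)) * g⁻¹ := by group
      _ = g * (g⁻¹ * x * g * dg (1, z)) * g⁻¹ := by rw [he]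
      _ = _ := by group
  have hsc : ∀ w : GL ι F, (∀ s ∈ P, (s : Matrix ι ι F).det = 1 → w * s = s * w) → w * w = 1 →
      w = 1 ∨ w = -1 := by
    intro w hw hw2
    obtain ⟨c, hc⟩ := hP.scalar_of_comm (X := (w : Matrix ι ι F)) fun s hs hd => by
      rw [← Units.val_mul, ← Units.val_mul, hw s hs hd]
    have : c * c = 1 := by
      have h := congrArg Units.val hw2
      rw [Units.val_mul, hc, smul_mul_smul_comm, one_mul, Units.val_one] at h
      obtain ⟨i⟩ := (inferInstance : Nonempty ι)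
      simpa using congrFun (congrFun h i) i
    rcases mul_self_eq_one_iff.1 this with h | h
    · exact Or.inl (Units.ext (by rw [hc, h, one_smul, Units.val_one]))
    · exact Or.inr (Units.ext (by rw [hc, h, neg_one_smul, Units.val_neg, Units.val_one]))
  have hsq : (a', b') * (a', b') = (1 : GL ι F × GL ι F) := dg_injective (by
    rw [map_mul, ← hE, map_one]
    have e : dg ((1 : GL ι F), z) * dg (1, z) = 1 := by
      rw [← map_mul, Prod.mk_mul_mk, one_mul, show z * z = 1 from Units.ext (by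
        rw [Units.val_mul, hz1, neg_one_mul, neg_neg, Units.val_one]), ← Prod.one_eq_mk, map_one]
    calc g * dg (1, z) * g⁻¹ * (g * dg (1, z) * g⁻¹) = g * (dg (1, z) * dg (1, z)) * g⁻¹ := by group
      _ = 1 := by rw [e, mul_one, mul_inv_cancel])
  rw [Prod.mk_mul_mk, ← Prod.one_eq_mk.symm, Prod.mk.injEq] at hsq
  have ha1 := hsc a' (fun s hs hd => (Prod.ext_iff.1 (dg_injective (by
    rw [map_mul, map_mul]; exact hcomm _ (hs1 s hs hd) : dg ((a', b') * (s, 1)) = dg ((s, 1) * (a', b'))))).1) hsq.1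
  have hb1 := hsc b' (fun s hs hd => (Prod.ext_iff.1 (dg_injective (by
    rw [map_mul, map_mul]; exact hcomm _ (hpair 1 (one_mem _) s hs (by simp [hd])) :
      dg ((a', b') * (1, s)) = dg ((1, s) * (a', b'))))).2) hsq.2
  have hz' : z = -1 := Units.ext (by rw [hz1, Units.val_neg, Units.val_one])
  have hne1 : (-1 : GL ι F) ≠ 1 := fun h => by
    have h' := congrArg Units.val h
    obtain ⟨i⟩ := (inferInstance : Nonempty ι)
    have := congrFun (congrFun h' i) i
    simp at this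
    exact h2 (by linear_combination -this)
  have hEcases : g * dg (1, z) * g⁻¹ = dg (1, z) ∨ g * dg (1, z) * g⁻¹ = dg (z, 1) := by
    rw [hE]
    rcases ha1 with rfl | rfl <;> rcases hb1 with rfl | rfl
    · exfalso
      rw [← Prod.one_eq_mk, map_one] at hE
      have h1 : dg ((1 : GL ι F), z) = dg 1 := by rw [map_one]; exact conj_eq_one_iff.1 hE
      exact hne1 (hz' ▸ (Prod.ext_iff.1 (dg_injective h1)).2)
    · exact Or.inl (by rw [hz'])
    · exact Or.inr (by rw [hz'])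
    · exfalso
      have hcz : ∀ x : GL (ι ⊕ ι) F, x * dg ((-1 : GL ι F), (-1 : GL ι F)) = dg ((-1 : GL ι F), (-1 : GL ι F)) * x := fun x => Units.ext (by
        have e : ((dg ((-1 : GL ι F), (-1 : GL ι F)) : GL (ι ⊕ ι) F) : Matrix (ι ⊕ ι) (ι ⊕ ι) F) = -1 := by
          rw [dg_val, Units.val_neg, Units.val_one, ← Matrix.fromBlocks_one, Matrix.fromBlocks_neg, neg_zero]
        rw [Units.val_mul, Units.val_mul, e, mul_neg_one, neg_one_mul])
      have h1 : dg ((1 : GL ι F), z) = dg ((-1 : GL ι F), (-1 : GL ι F)) := by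
        calc dg (1, z) = g⁻¹ * (g * dg (1, z) * g⁻¹) * g := by group
          _ = _ := by rw [hE, mul_assoc, ← hcz, inv_mul_cancel_left]
      exact hne1 (Prod.ext_iff.1 (dg_injective h1)).1.symm
  -- reduce to a block diagonal element
  obtain ⟨g₀, hg₀, ε, hε, hε', hcen⟩ : ∃ g₀ : GL (ι ⊕ ι) F, g₀ * dg (1, z) * g₀⁻¹ = dg (1, z) ∧
      ∃ ε ∈ S, (ε : Matrix (ι ⊕ ι) (ι ⊕ ι) F).det = 1 ∧ g = ε * g₀ := by
    rcases hEcases with h | h
    · exact ⟨g, h, 1, one_mem _, by simp, (one_mul g).symm⟩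
    · refine ⟨tau⁻¹ * g, ?_, tau, ⟨1, one_mem _, 1, one_mem _, Or.inr ?_⟩, det_tau, by group⟩
      · calc tau⁻¹ * g * dg (1, z) * (tau⁻¹ * g)⁻¹ = tau⁻¹ * (g * dg (1, z) * g⁻¹) * tau := by group
          _ = _ := by rw [h, mul_assoc, ← tau_dg, inv_mul_cancel_left]
      · rw [← Prod.one_eq_mk, map_one, one_mul]
  have hblk : ∃ c₁ c₂ : GL ι F, g₀ = dg (c₁, c₂) := by
    set M := (g₀ : Matrix (ι ⊕ ι) (ι ⊕ ι) F) with hM
    have hc : M * Matrix.fromBlocks 1 0 0 (-1) = Matrix.fromBlocks 1 0 0 (-1) * M := by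
      have h1 : g₀ * dg (1, z) = dg (1, z) * g₀ := mul_inv_eq_iff_eq_mul.1 hg₀
      have := congrArg Units.val h1
      rwa [Units.val_mul, Units.val_mul, dg_val, hz1, Units.val_one] at this
    rw [← Matrix.fromBlocks_toBlocks M, Matrix.fromBlocks_multiply, Matrix.fromBlocks_multiply] at hc
    obtain ⟨-, hB, hC, -⟩ := Matrix.fromBlocks_inj.1 hc
    simp only [mul_zero, zero_mul, mul_one, one_mul, zero_add, add_zero, mul_neg, neg_mul] at hB hC
    have hB0 : M.toBlocks₁₂ = 0 := by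
      have h : (2 : F) • M.toBlocks₁₂ = 0 := by
        rw [two_smul]; nth_rw 1 [← hB]; rw [neg_add_cancel]
      exact (smul_eq_zero.1 h).resolve_left h2
    have hC0 : M.toBlocks₂₁ = 0 := by
      have h : (2 : F) • M.toBlocks₂₁ = 0 := by
        rw [two_smul]; nth_rw 1 [hC]; rw [neg_add_cancel]
      exact (smul_eq_zero.1 h).resolve_left h2
    have hd : M.det ≠ 0 := ((Matrix.isUnit_iff_isUnit_det _).1 g₀.isUnit).ne_zero
    rw [← Matrix.fromBlocks_toBlocks M, hB0, hC0, Matrix.det_fromBlocks_zero₂₁] at hd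
    refine ⟨Matrix.GeneralLinearGroup.mkOfDetNeZero _ (left_ne_zero_of_mul hd),
      Matrix.GeneralLinearGroup.mkOfDetNeZero _ (right_ne_zero_of_mul hd), Units.ext ?_⟩
    rw [dg_val, ← hM]
    conv_lhs => rw [← Matrix.fromBlocks_toBlocks M, hB0, hC0]
    rfl
  obtain ⟨c₁, c₂, rfl⟩ := hblk
  have hg0 : ∀ x ∈ S, (x : Matrix (ι ⊕ ι) (ι ⊕ ι) F).det = 1 → dg (c₁, c₂) * x * (dg (c₁, c₂))⁻¹ ∈ S := by
    intro x hx hd
    have h := hg x hx hd
    rw [hcen] at h
    have : dg (c₁, c₂) * x * (dg (c₁, c₂))⁻¹ = ε⁻¹ * (ε * dg (c₁, c₂) * x * (ε * dg (c₁, c₂))⁻¹) * ε := by group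
    rw [this]
    exact mul_mem (mul_mem (inv_mem hε) h) hε
  have hproj : ∀ a ∈ P, ∀ b ∈ P, (a : Matrix ι ι F).det * (b : Matrix ι ι F).det = 1 →
      c₁ * a * c₁⁻¹ ∈ P ∧ c₂ * b * c₂⁻¹ ∈ P := by
    intro a ha b hb hd
    obtain ⟨u, hu, v, hv, h | h⟩ := hg0 (dg (a, b)) ⟨a, ha, b, hb, Or.inl rfl⟩ (by rw [det_dg, hd])
    · rw [← map_inv, ← map_mul, ← map_mul, Prod.inv_mk, Prod.mk_mul_mk, Prod.mk_mul_mk] at h
      obtain ⟨h1, h2'⟩ := Prod.ext_iff.1 (dg_injective h)
      simp only at h1 h2'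
      exact ⟨h1 ▸ hu, h2' ▸ hv⟩
    · rw [← map_inv, ← map_mul, ← map_mul, Prod.inv_mk, Prod.mk_mul_mk, Prod.mk_mul_mk] at h
      exact absurd h.symm (dg_tau_ne _ _ _ _)
  have hdinv : ∀ a : GL ι F, (a : Matrix ι ι F).det * ((a⁻¹ : GL ι F) : Matrix ι ι F).det = 1 := fun a => by
    rw [← Matrix.det_mul, ← Units.val_mul, mul_inv_cancel, Units.val_one, Matrix.det_one]
  obtain ⟨p₁, hp₁, z₁, hc₁⟩ := hP.norm c₁ fun a ha => (hproj a ha _ (inv_mem ha) (hdinv a)).1
  obtain ⟨p₂, hp₂, z₂, hc₂⟩ := hP.norm c₂ fun a ha => (hproj _ (inv_mem ha) a ha (by rw [mul_comm, hdinv])).2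
  obtain ⟨i₀⟩ := (inferInstance : Nonempty ι)
  have hz₁ : z₁ ≠ 0 := fun h => c₁.ne_zero (by rw [hc₁, h, zero_smul])
  have hz₂ : z₂ ≠ 0 := fun h => c₂.ne_zero (by rw [hc₂, h, zero_smul])
  -- the ratio of the scalars
  obtain ⟨u, hu, v, hv, h | h⟩ := hg0 tau ⟨1, one_mem _, 1, one_mem _, Or.inr (by
    rw [← Prod.one_eq_mk, map_one, one_mul])⟩ det_tau
  · rw [mul_assoc, ← map_inv, Prod.inv_mk, tau_dg, ← mul_assoc, ← map_mul] at h
    exact absurd h (dg_tau_ne _ _ _ _)
  rw [mul_assoc, ← map_inv, Prod.inv_mk, tau_dg, ← mul_assoc, ← map_mul, Prod.mk_mul_mk] at h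
  obtain ⟨hu', -⟩ := Prod.ext_iff.1 (dg_injective (mul_right_cancel h))
  -- `c₁ c₂⁻¹` lies in `P`
  simp only at hu'
  have he : c₁ * c₂⁻¹ ∈ P := hu' ▸ hu
  refine ⟨ε * dg (c₁ * c₂⁻¹ * p₂, p₂), mul_mem hε ⟨_, mul_mem he hp₂, _, hp₂, Or.inl rfl⟩, z₂, ?_⟩
  rw [hcen, Units.val_mul, Units.val_mul, dg_val, dg_val, ← mul_smul_comm, Matrix.fromBlocks_smul, smul_zero]
  congr 2
  rw [Units.val_mul, Units.val_mul, ← mul_smul_comm, ← hc₂, mul_assoc, ← Units.val_mul, inv_mul_cancel,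
    Units.val_one, mul_one]

theorem maximal_of_card {G : Type*} [Group G] [Finite G] {P : Subgroup G}
    (hc : Nat.card P = 2 ^ padicValNat 2 (Nat.card G)) :
    IsPGroup 2 P ∧ ∀ Q : Subgroup G, IsPGroup 2 Q → P ≤ Q → Q = P := by
  haveI : Fact (Nat.Prime 2) := ⟨Nat.prime_two⟩
  refine ⟨IsPGroup.of_card hc, fun Q hQ hle => (Subgroup.eq_of_le_of_card_ge hle ?_).symm⟩
  obtain ⟨k, hk⟩ := IsPGroup.iff_card.1 hQ
  rw [hk, hc]
  refine Nat.pow_le_pow_right (by norm_num) ?_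
  have h : 2 ^ k ∣ Nat.card G := hk ▸ Q.card_subgroup_dvd_card
  exact (padicValNat_dvd_iff_le Nat.card_pos.ne').1 h

/-- scalar elements of two-power order lie in a maximal two-subgroup -/
theorem mem_of_central {G : Type*} [Group G] {P : Subgroup G} (h2 : IsPGroup 2 P)
    (hmax : ∀ Q : Subgroup G, IsPGroup 2 Q → P ≤ Q → Q = P) {x : G} (hx : ∀ y : G, x * y = y * x) {k : ℕ}
    (hk : x ^ 2 ^ k = 1) : x ∈ P := by
  haveI : Fact (Nat.Prime 2) := ⟨Nat.prime_two⟩
  have hz : IsPGroup 2 (Subgroup.zpowers x) := by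
    rintro ⟨y, m, rfl⟩
    refine ⟨k, Subtype.ext ?_⟩
    simp only [SubgroupClass.coe_pow, OneMemClass.coe_one]
    rw [← zpow_natCast, ← _root_.zpow_mul, mul_comm, _root_.zpow_mul, zpow_natCast, hk, _root_.one_zpow]
  have hnorm : Subgroup.zpowers x ≤ Subgroup.normalizer (P : Set G) := by
    rw [Subgroup.zpowers_le, Subgroup.mem_normalizer_iff]
    intro y
    rw [hx y, mul_inv_cancel_right]
  have h := hmax _ (h2.to_sup_of_normal_left' hz hnorm) le_sup_left
  exact h ▸ Subgroup.mem_sup_right (Subgroup.mem_zpowers x)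

theorem card_ne_double (hP : Good P) : ((Fintype.card (ι ⊕ ι) : ℕ) : F) ≠ 0 := by
  have h2 : (2 : F) ≠ 0 := fun h => by
    obtain ⟨k, hk⟩ := hP.even
    exact hP.card_ne (by rw [hk, Nat.cast_add, ← two_mul, h, zero_mul])
  rw [Fintype.card_sum, Nat.cast_add, ← two_mul]
  exact mul_ne_zero h2 hP.card_ne

/-- the doubling step -/
theorem good_double (hP : Good P) [Nonempty ι] : Good (double P hP) := by
  classical
  haveI : Fact (Nat.Prime 2) := ⟨Nat.prime_two⟩
  obtain ⟨t, ht, htd, htt, httr⟩ := hP.quarter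
  have h2 : IsPGroup 2 (double P hP) := by
    obtain ⟨k, hk⟩ := IsPGroup.iff_card.1 hP.isTwo
    exact IsPGroup.of_card (show Nat.card (double P hP) = 2 ^ (1 + (k + k)) by
      rw [card_double hP, hk, pow_add 2 1 (k + k), pow_add 2 k k, pow_one])
  refine ⟨by rw [Fintype.card_sum]; exact ⟨_, rfl⟩, card_ne_double hP, h2,
    fun g hg => norm_step hP g fun x hx _ => hg x hx, fun X hX => ?_, ?_⟩
  · obtain ⟨z, hz, hz1⟩ := hP.neg_one_mem
    have hzd : (z : Matrix ι ι F).det = 1 := by rw [hz1, Matrix.det_neg, hP.even.neg_one_pow, one_mul, Matrix.det_one]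
    have hm : ∀ a ∈ P, ∀ b ∈ P, (a : Matrix ι ι F).det * (b : Matrix ι ι F).det = 1 →
        ((a : Matrix ι ι F) * X.toBlocks₁₁).trace + ((b : Matrix ι ι F) * X.toBlocks₂₂).trace = 0 ∧
        ((a : Matrix ι ι F) * X.toBlocks₂₁).trace - ((b : Matrix ι ι F) * X.toBlocks₁₂).trace = 0 := by
      intro a ha b hb hd
      have h1 := hX (dg (a, b)) ⟨a, ha, b, hb, Or.inl rfl⟩ (by rw [det_dg, hd])
      have h2 := hX (dg (a, b) * tau) ⟨a, ha, b, hb, Or.inr rfl⟩ (by
        rw [Units.val_mul, Matrix.det_mul, det_tau, mul_one, det_dg, hd])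
      rw [← Matrix.fromBlocks_toBlocks X, dg_val, Matrix.fromBlocks_multiply, trace_blk] at h1
      rw [← Matrix.fromBlocks_toBlocks X, Units.val_mul, dg_val, tau_val, Matrix.fromBlocks_multiply,
        Matrix.fromBlocks_multiply, trace_blk] at h2
      simp only [mul_zero, zero_mul, add_zero, zero_add, mul_one, mul_neg, neg_mul, neg_zero, Matrix.trace_neg,
        Matrix.toBlocks_fromBlocks₁₁] at h1 h2
      exact ⟨h1, by linear_combination h2⟩
    have hne : (2 : F) ≠ 0 := fun h => by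
      obtain ⟨k, hk⟩ := hP.even
      exact hP.card_ne (by rw [hk, Nat.cast_add, ← two_mul, h, zero_mul])
    have h0 : ∀ s ∈ P, (s : Matrix ι ι F).det = 1 →
        ((s : Matrix ι ι F) * X.toBlocks₁₁).trace = 0 ∧ ((s : Matrix ι ι F) * X.toBlocks₂₂).trace = 0 ∧
        ((s : Matrix ι ι F) * X.toBlocks₂₁).trace = 0 ∧ ((s : Matrix ι ι F) * X.toBlocks₁₂).trace = 0 := by
      intro s hs hd
      obtain ⟨e1, f1⟩ := hm s hs 1 (one_mem _) (by simp [hd])
      obtain ⟨e2, f2⟩ := hm (z * s) (mul_mem hz hs) 1 (one_mem _) (by simp [Units.val_mul, Matrix.det_mul, hzd, hd])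
      obtain ⟨e3, f3⟩ := hm 1 (one_mem _) s hs (by simp [hd])
      obtain ⟨e4, f4⟩ := hm 1 (one_mem _) (z * s) (mul_mem hz hs) (by simp [Units.val_mul, Matrix.det_mul, hzd, hd])
      rw [Units.val_mul, hz1, neg_one_mul, neg_mul, Matrix.trace_neg] at e2 f2 e4 f4
      exact ⟨mul_left_cancel₀ hne (by linear_combination e1 - e2), mul_left_cancel₀ hne (by linear_combination e3 - e4),
        mul_left_cancel₀ hne (by linear_combination f1 - f2), mul_left_cancel₀ hne (by linear_combination f4 - f3)⟩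
    rw [← Matrix.fromBlocks_toBlocks X, hP.span _ fun s hs hd => (h0 s hs hd).1, hP.span _ fun s hs hd => (h0 s hs hd).2.1,
      hP.span _ fun s hs hd => (h0 s hs hd).2.2.1, hP.span _ fun s hs hd => (h0 s hs hd).2.2.2, Matrix.fromBlocks_zero]
  · refine ⟨dg (t, t), ⟨t, ht, t, ht, Or.inl rfl⟩, by rw [det_dg, htd, one_mul], ?_,
      by rw [dg_val, trace_blk, httr, add_zero]⟩
    rw [dg_val, Matrix.fromBlocks_multiply]
    simp [htt, ← Matrix.fromBlocks_one, Matrix.fromBlocks_neg]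

/-- change of index type -/
theorem Good.reindex (hP : Good P) {κ : Type} [Fintype κ] [DecidableEq κ] (e : ι ≃ κ) :
    Good (P.map (Units.mapEquiv (Matrix.reindexAlgEquiv F F e).toMulEquiv).toMonoidHom) := by
  set r : GL ι F ≃* GL κ F := Units.mapEquiv (Matrix.reindexAlgEquiv F F e).toMulEquiv
  have hval : ∀ x : GL ι F, ((r x : GL κ F) : Matrix κ κ F) = Matrix.reindexAlgEquiv F F e (x : Matrix ι ι F) :=
    fun _ => rfl
  have htr : ∀ M : Matrix ι ι F, (Matrix.reindexAlgEquiv F F e M).trace = M.trace := fun M => by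
    simp only [Matrix.coe_reindexAlgEquiv, Matrix.reindex_apply, Matrix.trace, Matrix.diag_apply, Matrix.submatrix_apply]
    exact e.symm.sum_comp fun i => M i i
  obtain ⟨t, ht, htd, htt, httr⟩ := hP.quarter
  refine ⟨Fintype.card_congr e ▸ hP.even, Fintype.card_congr e ▸ hP.card_ne, hP.isTwo.map _,
    fun g hg => ?_, fun X hX => ?_, ⟨r t, ⟨t, ht, rfl⟩, ?_, ?_, ?_⟩⟩
  · obtain ⟨p, hp, c, hc⟩ := hP.norm (r.symm g) fun x hx => by
      obtain ⟨y, hy, hy'⟩ := hg (r x) ⟨x, hx, rfl⟩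
      have : r.symm g * x * (r.symm g)⁻¹ = y := r.injective (by
        rw [map_mul, map_mul, map_inv, MulEquiv.apply_symm_apply]
        exact hy'.symm)
      exact this ▸ hy
    refine ⟨r p, ⟨p, hp, rfl⟩, c, ?_⟩
    have := congrArg (Matrix.reindexAlgEquiv F F e) hc
    rw [map_smul, ← hval, ← hval, MulEquiv.apply_symm_apply] at this
    exact this
  · refine (Matrix.reindexAlgEquiv F F e).symm.injective ?_
    rw [map_zero]
    refine hP.span _ fun s hs hd => ?_
    rw [← htr, map_mul, AlgEquiv.apply_symm_apply, ← hval]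
    exact hX _ ⟨s, hs, rfl⟩ (by rw [hval, Matrix.det_reindexAlgEquiv, hd])
  · rw [hval, Matrix.det_reindexAlgEquiv, htd]
  · rw [hval, ← map_mul, htt, map_neg, map_one]
  · rw [hval, htr, httr]

end CfsgLib.Pronormal.TwoPower
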