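import Cfsg.Agent.Lib.Pronormal.Basic
import Cfsg.Agent.Lib.Fusion.ClassicalCharP.Linear

/-!
# Overgroups of the unitriangular group are normalised by the triangular group
-/

set_option autoImplicit false
set_option linter.unusedSectionVars false
set_option maxHeartbeats 1000000

namespace CfsgLib.Pronormal.SL

open Matrix
open CfsgLib.AutPSL (ev tv proj unitri mem_unitri)
open CfsgLib.FusionCharP.Linear (el el_val)

variable {n : ℕ} {F : Type*} [Field F] [Finite F]

local notation "SLn" => Matrix.SpecialLinearGroup (Fin n) F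

theorem single_mul_apply (i j a b : Fin n) (s : F) (M : Matrix (Fin n) (Fin n) F) :
    (Matrix.single i j s * M) a b = if a = i then s * M j b else 0 := by
  by_cases h : a = i
  · subst h; simp
  · simp [h]

theorem el_mul_apply {i j : Fin n} (h : i ≠ j) (s : F) (A : SLn) (a b : Fin n) :
    (el i j h s * A).1 a b = A.1 a b + (if a = i then s * A.1 j b else 0) := by
  rw [Matrix.SpecialLinearGroup.coe_mul, el_val, add_mul, one_mul, Matrix.add_apply, single_mul_apply]

theorem el_mem_unitri {i j : Fin n} (h : i < j) (s : F) : el i j h.ne s ∈ unitri :=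
  CfsgLib.AutPSL.tv_mem_unitri h s

/-- The subgroup generated by `U` and the root groups contained in `H`. -/
def rootPart (H : Subgroup SLn) : Subgroup SLn :=
  Subgroup.closure ((unitri : Subgroup SLn) ∪
    {x | ∃ (i j : Fin n) (h : i ≠ j), (∀ s, el i j h s ∈ H) ∧ ∃ t, x = el i j h t})

theorem rootPart_le {H : Subgroup SLn} (hU : unitri ≤ H) : rootPart H ≤ H := by
  refine (Subgroup.closure_le _).2 ?_
  rintro x (hx | ⟨i, j, h, hs, t, rfl⟩)
  exacts [hU hx, hs t]

theorem unitri_le_rootPart (H : Subgroup SLn) : unitri ≤ rootPart H := fun _ hx =>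
  Subgroup.subset_closure (Or.inl hx)

theorem el_mem_rootPart {H : Subgroup SLn} {i j : Fin n} {h : i ≠ j} (hs : ∀ s, el i j h s ∈ H) (t : F) :
    el i j h t ∈ rootPart H :=
  Subgroup.subset_closure (Or.inr ⟨i, j, h, hs, t, rfl⟩)

/-- the swap of two basis vectors built from transvections -/
theorem swap_apply_col {r k : Fin n} (h : k ≠ r) (A : SLn) (j : Fin n) (a : Fin n) :
    (el k r h 1 * el r k h.symm (-1) * el k r h 1 * A).1 a j =
      if a = k then A.1 r j else if a = r then -A.1 k j else A.1 a j := by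
  simp only [mul_assoc, el_mul_apply]
  split_ifs <;> simp_all

/-- one column -/
theorem clear_column {H : Subgroup SLn} (hU : unitri ≤ H) (k : Fin n) {A : SLn} (hA : A ∈ H)
    (htri : ∀ i j : Fin n, j < i → j < k → A.1 i j = 0) :
    ∃ l ∈ rootPart H, ∀ i j : Fin n, j < i → j ≤ k → (l * A).1 i j = 0 := by
  classical
  by_cases hcol : ∀ i, k < i → A.1 i k = 0
  · refine ⟨1, one_mem _, fun i j hji hjk => ?_⟩
    rw [one_mul]
    rcases hjk.eq_or_lt with rfl | h
    exacts [hcol i hji, htri i j hji h]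
  push Not at hcol
  obtain ⟨i₀, hi₀, hne₀⟩ := hcol
  set s := Finset.univ.filter fun i : Fin n => A.1 i k ≠ 0 with hs
  have hsne : s.Nonempty := ⟨i₀, by simp [hs, hne₀]⟩
  obtain ⟨r, hr, hmax⟩ : ∃ r, A.1 r k ≠ 0 ∧ ∀ i, r < i → A.1 i k = 0 := by
    refine ⟨s.max' hsne, ?_, fun i hi => ?_⟩
    · exact (Finset.mem_filter.1 (s.max'_mem hsne)).2
    · by_contra h
      exact not_le.2 hi (s.le_max' i (by simp [hs, h]))
  have hkr : k < r := by
    refine hi₀.trans_le ?_
    by_contra h
    exact hne₀ (hmax i₀ (not_le.1 h))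
  -- clear the entries above the pivot
  set w : Fin n → F := fun i => if i < r then -(A.1 i k / A.1 r k) else 0 with hw
  have hwr : (ev r : Fin n → F) ⬝ᵥ w = 0 := by
    rw [ev, single_one_dotProduct]; simp [hw]
  set u : SLn := tv w (ev r) hwr with hu
  have huval : ∀ a b, u.1 a b = (1 : Matrix (Fin n) (Fin n) F) a b + (if b = r then w a else 0) := by
    intro a b
    rw [hu, CfsgLib.AutPSL.tv_val, CfsgLib.AutPSL.rk1, Matrix.add_apply, vecMulVec_apply, ev]
    by_cases hb : b = r
    · rw [hb, Pi.single_eq_same, mul_one, if_pos rfl]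
    · rw [Pi.single_eq_of_ne hb, mul_zero, if_neg hb]
  have huU : u ∈ unitri := by
    refine mem_unitri.2 ⟨fun a b hab => ?_, fun a => ?_⟩
    · change b < a at hab
      rw [huval, Matrix.one_apply_ne hab.ne', zero_add]
      split_ifs with hb
      · subst hb; simp [hw, not_lt.2 hab.le]
      · rfl
    · rw [huval, Matrix.one_apply_eq]
      split_ifs with hb
      · subst hb; simp [hw]
      · rw [add_zero]
  obtain ⟨B, hB⟩ : ∃ B, B = u * A := ⟨_, rfl⟩
  have hBH : B ∈ H := hB ▸ mul_mem (hU huU) hA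
  have hBval : ∀ a b, B.1 a b = A.1 a b + w a * A.1 r b := by
    intro a b
    rw [hB, hu, Matrix.SpecialLinearGroup.coe_mul, CfsgLib.AutPSL.tv_val, CfsgLib.AutPSL.rk1, add_mul, one_mul,
      Matrix.add_apply, vecMulVec_mul, vecMulVec_apply, ev, single_one_vecMul]
    rfl
  have hBtri : ∀ i j : Fin n, j < i → j < k → B.1 i j = 0 := fun i j hji hjk => by
    rw [hBval, htri i j hji hjk, htri r j (hjk.trans hkr) hjk, mul_zero, add_zero]
  have hBcol : ∀ a, a ≠ r → B.1 a k = 0 := fun a ha => by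
    rw [hBval]
    rcases lt_or_gt_of_ne ha with h | h
    · simp only [hw, if_pos h]; field_simp; ring
    · simp only [hw, if_neg (not_lt.2 h.le), hmax a h]; ring
  have hBr : B.1 r k ≠ 0 := by rw [hBval]; simpa [hw] using hr
  -- a lower root group lies in `H`
  have hroot : ∀ t, el r k hkr.ne' t ∈ H := by
    intro t
    set f : Fin n → F := fun b => t / B.1 r k * B.1 k b with hf
    have hf0 : ∀ b, b ≤ k → f b = 0 := fun b hb => by
      rcases hb.eq_or_lt with rfl | h
      · simp [hf, hBcol b hkr.ne]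
      · simp [hf, hBtri k b h h]
    have hfk : f ⬝ᵥ ev k = 0 := by
      rw [ev, dotProduct_single, hf0 k le_rfl, zero_mul]
    obtain ⟨x, hx⟩ : ∃ x : SLn, x = tv (ev k) f hfk := ⟨_, rfl⟩
    have hxU : x ∈ unitri := by
      refine mem_unitri.2 ⟨fun a b hab => ?_, fun a => ?_⟩
      · change b < a at hab
        rw [hx, CfsgLib.AutPSL.tv_val, CfsgLib.AutPSL.rk1, Matrix.add_apply, Matrix.one_apply_ne hab.ne', zero_add,
          vecMulVec_apply, ev]
        by_cases ha : a = k
        · rw [hf0 b (ha ▸ hab.le), mul_zero]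
        · rw [Pi.single_eq_of_ne ha, zero_mul]
      · rw [hx, CfsgLib.AutPSL.tv_val, CfsgLib.AutPSL.rk1, Matrix.add_apply, Matrix.one_apply_eq, vecMulVec_apply, ev]
        by_cases ha : a = k
        · rw [hf0 a ha.le, mul_zero, add_zero]
        · rw [Pi.single_eq_of_ne ha, zero_mul, add_zero]
    have heq : el r k hkr.ne' t * B = B * x := by
      apply Subtype.ext
      ext a b
      rw [el_mul_apply, hx, Matrix.SpecialLinearGroup.coe_mul, CfsgLib.AutPSL.tv_val, CfsgLib.AutPSL.rk1, mul_add,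
        mul_one, Matrix.add_apply, mul_vecMulVec, vecMulVec_apply, ev, mulVec_single_one]
      simp only [Matrix.col_apply, hf]
      by_cases ha : a = r
      · rw [if_pos ha, ha]; field_simp
      · rw [if_neg ha, hBcol a ha, zero_mul]
    rw [eq_mul_inv_of_mul_eq heq]
    exact mul_mem (mul_mem hBH (hU hxU)) (inv_mem hBH)
  -- swap
  refine ⟨el k r hkr.ne 1 * el r k hkr.ne' (-1) * el k r hkr.ne 1 * u,
    mul_mem (mul_mem (mul_mem (unitri_le_rootPart H (el_mem_unitri hkr 1)) (el_mem_rootPart hroot _))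
      (unitri_le_rootPart H (el_mem_unitri hkr 1))) (unitri_le_rootPart H huU), fun i j hji hjk => ?_⟩
  rw [mul_assoc _ u A, ← hB, swap_apply_col hkr.ne]
  rcases hjk.eq_or_lt with rfl | h
  · rw [if_neg hji.ne']
    by_cases hi : i = r
    · rw [if_pos hi, hBcol j hkr.ne, neg_zero]
    · rw [if_neg hi, hBcol i hi]
  · split_ifs with h1 h2
    · exact hBtri r j (h.trans hkr) h
    · rw [hBtri k j h h, neg_zero]
    · exact hBtri i j hji h

/-- every element of an overgroup of `U` becomes triangular -/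
theorem exists_upper {H : Subgroup SLn} (hU : unitri ≤ H) {A : SLn} (hA : A ∈ H) :
    ∃ l ∈ rootPart H, BlockTriangular (l * A).1 id := by
  suffices h : ∀ m : ℕ, ∃ l ∈ rootPart H, ∀ i j : Fin n, j < i → j.val < m → (l * A).1 i j = 0 by
    obtain ⟨l, hl, h⟩ := h n
    exact ⟨l, hl, fun i j hij => h i j hij j.isLt⟩
  intro m
  induction m with
  | zero => exact ⟨1, one_mem _, fun i j _ h => absurd h (Nat.not_lt_zero _)⟩
  | succ m ih =>
    obtain ⟨l, hl, h⟩ := ih
    by_cases hm : m < n
    · obtain ⟨l', hl', h'⟩ := clear_column hU ⟨m, hm⟩ (mul_mem (rootPart_le hU hl) hA)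
        (fun i j hji hjk => h i j hji hjk)
      exact ⟨l' * l, mul_mem hl' hl, fun i j hji hj => by
        rw [mul_assoc]; exact h' i j hji (Nat.lt_succ_iff.1 hj)⟩
    · exact ⟨l, hl, fun i j hji _ => h i j hji (by omega)⟩

theorem upper_diag_mul {A B : SLn} (hA : BlockTriangular A.1 id) (hB : BlockTriangular B.1 id) (i : Fin n) :
    (A * B).1 i i = A.1 i i * B.1 i i := by
  rw [Matrix.SpecialLinearGroup.coe_mul, Matrix.mul_apply, Finset.sum_eq_single i]
  · intro j _ hj
    rcases lt_or_gt_of_ne hj with h | h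
    · rw [hA (show id j < id i from h), zero_mul]
    · rw [hB (show id i < id j from h), mul_zero]
  · intro h; exact absurd (Finset.mem_univ i) h

/-- the subgroup of triangular elements -/
def upper : Subgroup SLn :=
  let S : Submonoid SLn :=
    { carrier := {A | BlockTriangular A.1 id}
      one_mem' := blockTriangular_one
      mul_mem' := fun hA hB => hA.mul hB }
  { S with
    inv_mem' := fun {A} hA => by
      have h : (A⁻¹ : SLn) = A ^ (orderOf A - 1) := by
        refine inv_eq_of_mul_eq_one_right ?_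
        rw [← pow_succ', Nat.sub_add_cancel (orderOf_pos A), pow_orderOf_eq_one]
      rw [h]
      exact S.pow_mem hA _ }

theorem mem_upper {A : SLn} : A ∈ upper ↔ BlockTriangular A.1 id := Iff.rfl

theorem comm_mem_unitri {A B : SLn} (hA : A ∈ upper) (hB : B ∈ upper) : A * B * A⁻¹ * B⁻¹ ∈ unitri := by
  have hiA := inv_mem hA
  have hiB := inv_mem hB
  refine mem_unitri.2 ⟨(mul_mem (mul_mem (mul_mem hA hB) hiA) hiB : _ ∈ upper), fun i => ?_⟩
  have e1 : A.1 i i * (A⁻¹).1 i i = 1 := by
    rw [← upper_diag_mul hA hiA, mul_inv_cancel]; simp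
  have e2 : B.1 i i * (B⁻¹).1 i i = 1 := by
    rw [← upper_diag_mul hB hiB, mul_inv_cancel]; simp
  rw [upper_diag_mul (mul_mem (mul_mem hA hB) hiA : _ ∈ upper) hiB, upper_diag_mul (mul_mem hA hB : _ ∈ upper) hiA,
    upper_diag_mul hA hB]
  linear_combination (A.1 i i * (A⁻¹).1 i i) * e2 + e1

theorem diag_conj_el {b : SLn} {c : Fin n → F} (hb : b.1 = Matrix.diagonal c) (hc : ∀ i, c i ≠ 0) {i j : Fin n}
    (h : i ≠ j) (t : F) : b * el i j h t * b⁻¹ = el i j h (c i * t / c j) := by
  rw [mul_inv_eq_iff_eq_mul]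
  apply Subtype.ext
  ext a e
  rw [el_mul_apply, Matrix.SpecialLinearGroup.coe_mul, el_val, mul_add, mul_one, Matrix.add_apply, hb,
    Matrix.diagonal_mul, Matrix.single_apply, Matrix.diagonal_apply, Matrix.diagonal_apply]
  by_cases h1 : i = a <;> by_cases h2 : j = e
  · subst h1; subst h2; have := hc j; simp; field_simp
  · subst h1; simp [h2]
  · simp [h1, Ne.symm h1]
  · simp [h1, Ne.symm h1]

/-- `rootPart H` is normalised by the triangular group -/
theorem conj_rootPart {H : Subgroup SLn} {b : SLn} (hb : b ∈ upper) {x : SLn} (hx : x ∈ rootPart H)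
    (hU : unitri ≤ H) : b * x * b⁻¹ ∈ H := by
  classical
  set c : Fin n → F := fun i => b.1 i i with hc
  have hdet : ∏ i, c i = 1 := by
    rw [hc, ← Matrix.det_of_upperTriangular (mem_upper.1 hb), b.det_coe]
  have hc0 : ∀ i, c i ≠ 0 := fun i h => zero_ne_one (α := F) (by
    rw [← hdet, Finset.prod_eq_zero (Finset.mem_univ i) h])
  set d : SLn := ⟨Matrix.diagonal c, by rw [Matrix.det_diagonal, hdet]⟩ with hd
  have hdu : d ∈ upper := Matrix.blockTriangular_diagonal _
  have hbd : b * d⁻¹ ∈ unitri := by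
    refine mem_unitri.2 ⟨(mul_mem hb (inv_mem hdu) : _ ∈ upper), fun i => ?_⟩
    have e : d.1 i i * (d⁻¹).1 i i = 1 := by rw [← upper_diag_mul hdu (inv_mem hdu), mul_inv_cancel]; simp
    rw [upper_diag_mul hb (inv_mem hdu)]
    refine Eq.trans ?_ e
    simp [hd, hc]
  suffices h : d * x * d⁻¹ ∈ H by
    have e : b * x * b⁻¹ = (b * d⁻¹) * (d * x * d⁻¹) * (b * d⁻¹)⁻¹ := by group
    rw [e]
    exact mul_mem (mul_mem (hU hbd) h) (inv_mem (hU hbd))
  refine (Subgroup.closure_le (K := H.comap (MulAut.conj d).toMonoidHom)).2 ?_ hx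
  rintro y (hy | ⟨i, j, h, hs, t, rfl⟩)
  · show d * y * d⁻¹ ∈ H
    have hy' : y ∈ upper := (mem_unitri.1 hy).1
    have := comm_mem_unitri hdu hy'
    have e : d * y * d⁻¹ = (d * y * d⁻¹ * y⁻¹) * y := by group
    rw [e]; exact mul_mem (hU this) (hU hy)
  · show d * el i j h t * d⁻¹ ∈ H
    rw [diag_conj_el rfl hc0 h t]
    exact hs _

/-- an overgroup of `U` is normalised by the triangular group -/
theorem upper_le_normalizer {H : Subgroup SLn} (hU : unitri ≤ H) : upper ≤ Subgroup.normalizer (H : Set SLn) := by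
  have key : ∀ b ∈ upper, ∀ h ∈ H, b * h * b⁻¹ ∈ H := by
    intro b hb h hh
    obtain ⟨l, hl, htri⟩ := exists_upper hU hh
    have e : b * h * b⁻¹ = (b * l⁻¹ * b⁻¹) * (b * (l * h) * b⁻¹ * (l * h)⁻¹) * (l * h) := by group
    rw [e]
    exact mul_mem (mul_mem (conj_rootPart hb (inv_mem hl) hU) (hU (comm_mem_unitri hb htri)))
      (mul_mem (rootPart_le hU hl) hh)
  intro b hb
  refine Subgroup.mem_normalizer_iff.2 fun h => ⟨key b hb h, fun hh => ?_⟩
  have := key b⁻¹ (inv_mem hb) _ hh
  simpa [mul_assoc] using this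

/-- In the defining characteristic every subgroup of index prime to `p` is pronormal. -/
theorem psl_pronormal [NeZero n] (p : ℕ) [Fact p.Prime] [CharP F p]
    {H : Subgroup (Matrix.ProjectiveSpecialLinearGroup (Fin n) F)} (hH : ¬ p ∣ H.index) : Cfsg.IsPronormal H := by
  refine of_all_overgroups (CfsgLib.AutPSL.sylowU (p := p) (n := n) (F := F)) (fun K hK => ?_) hH
  have hK' : unitri.map proj ≤ K := hK
  intro x hx
  obtain ⟨g, rfl⟩ := QuotientGroup.mk'_surjective _ x
  have hgu : ∀ u ∈ unitri, g * u * g⁻¹ ∈ unitri := fun u hu => by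
    have h1 := (Subgroup.mem_normalizer_iff.1 hx (proj u)).1 ⟨u, hu, rfl⟩
    obtain ⟨w, hw, he⟩ := h1
    have h2 : proj (g * u * g⁻¹) = proj g * proj u * (proj g)⁻¹ := by rw [map_mul, map_mul, map_inv]
    have h3 := CfsgLib.FusionCharP.Linear.eq_of_proj_eq p hu hw (g := g) (he.trans h2.symm)
    rw [h3]
    exact hw
  have hnorm := upper_le_normalizer (H := K.comap proj) (Subgroup.map_le_iff_le_comap.1 hK')
    (CfsgLib.AutPSL.upper_of_normalizes hgu : g ∈ upper)
  rw [← Subgroup.comap_normalizer_eq_of_surjective K (QuotientGroup.mk'_surjective _)] at hnorm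
  exact hnorm

end CfsgLib.Pronormal.SL
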