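import Cfsg.Agent.Lib.Pronormal.Basic
import Cfsg.Agent.Lib.Fusion.ClassicalCharP.UnitaryElements

/-!
# Overgroups of the unitriangular subgroup of `SU_{2m}` are normalised by the triangular subgroup
-/

set_option autoImplicit false
set_option linter.unusedSectionVars false

open Matrix

namespace CfsgLib.Pronormal.SU

open CfsgLib.SU (UCtx)
open CfsgLib.FusionCharP.Unitary

attribute [-simp] Matrix.mulVec_single_one Matrix.mulVec_single

variable {F : Type*} [Field F] [Finite F] {q n : ℕ} {C : UCtx F q}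

local notation "V" => (Fin n → F)

/-- `g` carries the flag of low basis vectors to a coordinate flag. -/
def Coord (g : ↥(SJ C n)) (r : Fin n → Fin n) (k : ℕ) : Prop :=
  ∀ j : Fin n, j.val < k → j < j.rev →
    (∀ a, (g.1.1 *ᵥ bv j) a ≠ 0 → ∃ i, i ≤ j ∧ r i = a) ∧
      ∃ x : V, (∀ i, j < i → x i = 0) ∧ g.1.1 *ᵥ x = bv (r j)

theorem mulVec_apply_bv (g : ↥(SJ C n)) (a b : Fin n) : (g.1.1 *ᵥ (bv b : V)) a = g.1.1 a b := by
  rw [Matrix.mulVec_single_one]; rfl

theorem ee_apply {e v : V} {t : F} (h : Adm C e v t) (a b : Fin n) :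
    (ee h).1.1 a b = (if a = b then 1 else 0) + C.bar (e b.rev) * v a +
      (t * C.bar (e b.rev) - C.bar (v b.rev)) * e a := by
  rw [← mulVec_apply_bv, ee_mulVec, hf_bv_left, hf_bv_left]
  simp [Pi.single_apply]

/-- one column -/
theorem coord_step (hn : Even n) (g : ↥(SJ C n)) (r : Fin n → Fin n) (K : Fin n) (hK : K < K.rev)
    (hg : Coord g r K.val) : ∃ u ∈ uu C n, ∃ r' : Fin n → Fin n, Coord (u * g) r' (K.val + 1) := by
  classical
  choose x hx1 hx2 using fun (j : Fin n) (h : j < K) => (hg j h (h.trans (hK.trans (Fin.rev_lt_rev.2 h)))).2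
  set v : V := g.1.1 *ᵥ bv K with hv
  set P : Finset (Fin n) := (Finset.univ.filter (· < K)).image r with hP
  have hmemP : ∀ a, a ∈ P ↔ ∃ i, i < K ∧ r i = a := fun a => by simp [hP]
  have hzero : ∀ p ∈ P, v p.rev = 0 := by
    intro p hp
    obtain ⟨i, hi, rfl⟩ := (hmemP p).1 hp
    rw [← hf_bv_right C v (r i), ← hx2 i hi, hv, hf_sj, hf_bv_left,
      hx1 i hi K.rev (hi.trans hK), map_zero]
  have hisoP : ∀ p ∈ P, p.rev ∉ P := by
    intro p hp hp'
    obtain ⟨i, hi, rfl⟩ := (hmemP p).1 hp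
    obtain ⟨l, hl, hl'⟩ := (hmemP _).1 hp'
    have h1 : hf C (bv (r i)) (bv (r l) : V) = 1 := by rw [hf_bv, if_pos hl']
    rw [← hx2 i hi, ← hx2 l hl, hf_sj, hf, Finset.sum_eq_zero (fun a _ => ?_)] at h1
    · exact zero_ne_one h1
    by_cases ha : i < a
    · rw [hx1 i hi a ha, zero_mul]
    · have : l < a.rev := hl.trans (hK.trans_le (Fin.rev_le_rev.2 ((not_lt.1 ha).trans hi.le)))
      rw [hx1 l hl _ this, map_zero, mul_zero]
  -- the pivot
  obtain ⟨a₀, ha₀, ha₀'⟩ : ∃ a, a ∉ P ∧ v a ≠ 0 := by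
    by_contra hcon
    push Not at hcon
    have hrep : v = g.1.1 *ᵥ (∑ p ∈ P.attach, v p.1 • x ((hmemP p.1).1 p.2).choose
        ((hmemP p.1).1 p.2).choose_spec.1) := by
      simp only [Matrix.mulVec_sum, Matrix.mulVec_smul, hx2]
      funext a
      rw [Finset.sum_apply]
      by_cases ha : a ∈ P
      · rw [Finset.sum_eq_single ⟨a, ha⟩]
        · rw [Pi.smul_apply, ((hmemP a).1 ha).choose_spec.2, bv_same, smul_eq_mul, mul_one]
        · intro b _ hb
          rw [Pi.smul_apply, ((hmemP b.1).1 b.2).choose_spec.2, bv_ne (fun e => hb (Subtype.ext e.symm)),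
            smul_zero]
        · simp
      · rw [hcon a ha, Finset.sum_eq_zero]
        intro b _
        rw [Pi.smul_apply, ((hmemP b.1).1 b.2).choose_spec.2, bv_ne (fun e : a = b.1 => ha (e ▸ b.2)), smul_zero]
    rw [hv] at hrep
    have h1 := congrArg (fun z => (g⁻¹).1.1 *ᵥ z) hrep
    simp only [sj_inv_mulVec] at h1
    have h2 := congrFun h1 K
    rw [bv_same, Finset.sum_apply, Finset.sum_eq_zero] at h2
    · exact one_ne_zero h2
    intro p _
    rw [Pi.smul_apply, hx1 _ _ K ((hmemP p.1).1 p.2).choose_spec.1, smul_zero]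
  set s := Finset.univ.filter fun a : Fin n => a ∉ P ∧ v a ≠ 0 with hs
  have hsne : s.Nonempty := ⟨a₀, by simp [hs, ha₀, ha₀']⟩
  obtain ⟨R, hRP, hR0, hmax⟩ : ∃ R, R ∉ P ∧ v R ≠ 0 ∧ ∀ a, R < a → a ∉ P → v a = 0 := by
    refine ⟨s.max' hsne, (Finset.mem_filter.1 (s.max'_mem hsne)).2.1,
      (Finset.mem_filter.1 (s.max'_mem hsne)).2.2, fun a ha haP => ?_⟩
    by_contra h
    exact ha.not_ge (s.le_max' a (by simp [hs, haP, h]))
  set W : V := fun a => if a ∈ P ∨ a = R then 0 else v a / v R with hW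
  have hWR : ∀ a, R ≤ a → W a = 0 := by
    intro a ha
    simp only [hW]
    split_ifs with h
    · rfl
    · push Not at h
      rw [hmax a (lt_of_le_of_ne ha (Ne.symm h.2)) h.1, zero_div]
  have hWP : ∀ p ∈ P, W p.rev = 0 := by
    intro p hp
    simp only [hW]
    split_ifs
    · rfl
    · rw [hzero p hp, zero_div]
  have hRrev : ∀ p ∈ P, p.rev ≠ R := fun p hp e => hR0 (e ▸ hzero p hp)
  set vP : V := fun a => if a ∈ P then v a else 0 with hvP
  have hsplit : v = vP + v R • (bv R + W) := by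
    funext a
    simp only [hvP, hW, Pi.add_apply, Pi.smul_apply, smul_eq_mul]
    by_cases ha : a ∈ P
    · rw [if_pos ha, if_pos (Or.inl ha), bv_ne (fun e : a = R => hRP (e ▸ ha))]; ring
    rw [if_neg ha]
    by_cases hb : a = R
    · subst hb; rw [if_pos (Or.inr rfl), bv_same]; ring
    · rw [if_neg (by tauto), bv_ne hb]; field_simp; ring
  have hiso : hf C (bv R + W) (bv R + W) = 0 := by
    have h1 : hf C v v = 0 := by rw [hv, hf_sj, hf_bv, if_neg hK.ne]
    have h2 : ∀ z : V, (∀ p ∈ P, z p.rev = 0) → hf C vP z = 0 := fun z hz => Finset.sum_eq_zero fun a _ => by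
      simp only [hvP]
      split_ifs with ha
      · rw [hz a ha, map_zero, mul_zero]
      · rw [zero_mul]
    have h3 : hf C vP vP = 0 := h2 vP fun p hp => by simp [hvP, hisoP p hp]
    have h4 : hf C vP (bv R + W) = 0 := h2 _ fun p hp => by
      rw [Pi.add_apply, hWP p hp, bv_ne (hRrev p hp), add_zero]
    rw [hsplit] at h1
    generalize bv R + W = z at h1 h4 ⊢
    simp only [hf_add_left, hf_add_right, hf_smul_left, hf_smul_right, h3, hf_swap C h4, h4, mul_zero, add_zero,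
      zero_add] at h1
    simpa [hR0] using h1
  -- the root element
  obtain ⟨h, hU, hfixP, hRW⟩ : ∃ h : ↥(SJ C n), h ∈ uu C n ∧ (∀ p ∈ P, h.1.1 *ᵥ bv p = (bv p : V)) ∧
      h.1.1 *ᵥ bv R = bv R + W := by
    rcases lt_trichotomy R R.rev with hlt | heq | hgt
    · have hWlow : ∀ a, a.rev ≤ a → W a = 0 := fun a ha => hWR a (by
        rw [Fin.lt_def, Fin.val_rev] at hlt; rw [Fin.le_def, Fin.val_rev] at ha; rw [Fin.le_def]; omega)
      have hWR' : W R.rev = 0 := hWR _ hlt.le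
      have hadm : Adm C W (-bv R.rev) 0 := by
        refine ⟨Finset.sum_eq_zero fun a _ => ?_, ?_, ?_⟩
        · rcases le_total a.rev a with ha | ha
          · rw [hWlow a ha, zero_mul]
          · rw [hWlow a.rev (by rwa [Fin.rev_rev]), map_zero, mul_zero]
        · rw [hf_neg_left, hf_bv_left, Fin.rev_rev, hWR R le_rfl, map_zero, neg_zero]
        · rw [hf_neg_left, hf_neg_right, hf_bv, Fin.rev_rev, if_neg hlt.ne']; simp
      refine ⟨ee hadm, mem_uu.2 ⟨fun a b hab => ?_, fun a => ?_⟩, fun p hp => ?_, ?_⟩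
      · rw [ee_apply, if_neg hab.ne', Pi.neg_apply, Pi.neg_apply]
        by_cases ha : a = R.rev
        · subst ha
          have hb : R < b.rev := by rw [← Fin.rev_rev R]; exact Fin.rev_lt_rev.2 hab
          rw [hWR' , hWR _ hb.le]; simp
        rw [bv_ne ha]
        by_cases hb : b = R
        · subst hb; rw [hWR a hab.le]; simp
        · rw [bv_ne (fun e : b.rev = R.rev => hb (Fin.rev_injective e))]; simp
      · rw [ee_apply, if_pos rfl, Pi.neg_apply, Pi.neg_apply]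
        by_cases ha : a = R.rev
        · subst ha; rw [Fin.rev_rev, hWR R le_rfl, hWR']; simp
        rw [bv_ne ha]
        by_cases hb : a = R
        · subst hb; rw [hWR a le_rfl]; simp
        · rw [bv_ne (fun e : a.rev = R.rev => hb (Fin.rev_injective e))]; simp
      · refine ee_fix _ ?_ ?_
        · rw [hf_bv_left, hWP p hp, map_zero]
        · rw [hf_neg_right, hf_bv, if_neg, neg_zero]
          exact fun e => hRP (Fin.rev_injective e ▸ hp)
      · rw [ee_mulVec, hf_bv_left, hWR', map_zero, hf_neg_right, hf_bv, if_pos rfl]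
        simp
    · obtain ⟨l, hl⟩ := hn
      have h5 := congrArg Fin.val heq
      rw [Fin.val_rev] at h5
      omega
    · set k := R.rev with hk
      have hkk : k < k.rev := by rwa [hk, Fin.rev_rev]
      set v0 : V := fun a => if a = k then 0 else W a with hv0
      have hv0R : ∀ a, R ≤ a → v0 a = 0 := fun a ha => by simp [hv0, hWR a ha]
      have hWsplit : W = v0 + W k • bv k := by
        funext a
        by_cases ha : a = k <;> simp [hv0, ha, bv_ne]
      have hkR : k.rev = R := by rw [hk, Fin.rev_rev]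
      have hadm : Adm C (bv k) v0 (W k) := by
        refine adm_bv hkk.ne (hkR ▸ hv0R R le_rfl) ?_
        rw [hWsplit] at hiso
        simp only [hf_add_left, hf_add_right, hf_smul_left, hf_smul_right] at hiso
        simp only [hf_bv, hf_bv_right, hf_bv_left, ← hk, hkR, bv_ne hgt.ne, bv_ne hgt.ne', bv_same, hv0R R le_rfl,
          show v0 k = 0 by simp [hv0], map_zero, map_one, if_pos, if_neg hgt.ne, if_neg hgt.ne', Fin.rev_rev] at hiso
        linear_combination hiso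
      refine ⟨ee hadm, mem_uu.2 ⟨fun a b hab => ?_, fun a => ?_⟩, fun p hp => ?_, ?_⟩
      · rw [ee_apply, if_neg hab.ne']
        by_cases hb : b.rev = k
        · have hbR : b = R := Fin.rev_injective (hb.trans hk)
          subst hbR
          rw [hv0R a hab.le, bv_ne (hgt.trans hab).ne']; simp
        rw [bv_ne hb]
        by_cases ha : a = k
        · subst ha
          have hb' : R < b.rev := by rw [← hkR]; exact Fin.rev_lt_rev.2 hab
          rw [hv0R _ hb'.le]; simp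
        · rw [bv_ne ha]; simp
      · rw [ee_apply, if_pos rfl]
        by_cases hb : a.rev = k
        · have hbR : a = R := Fin.rev_injective (hb.trans hk)
          subst hbR
          rw [hv0R a le_rfl, bv_ne hgt.ne']; simp
        rw [bv_ne hb]
        by_cases ha : a = k
        · subst ha; rw [hkR, hv0R R le_rfl]; simp
        · rw [bv_ne ha]; simp
      · refine ee_fix _ ?_ ?_
        · rw [hf_bv, if_neg]
          exact fun e => hRP (Fin.rev_injective (hk.symm.trans e) ▸ hp)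
        · rw [hf_bv_left, show v0 p.rev = 0 by simp [hv0, hWP p hp], map_zero]
      · rw [ee_mulVec, hf_bv, if_pos hk, hf_bv_left, ← hk, show v0 k = 0 by simp [hv0], map_zero]
        conv_rhs => rw [hWsplit]
        simp [add_assoc]
  have hfixi : ∀ p ∈ P, (h⁻¹).1.1 *ᵥ bv p = (bv p : V) := fun p hp => by
    conv_lhs => rw [← hfixP p hp, sj_inv_mulVec]
  have hfixS : ∀ z : V, (∀ a, z a ≠ 0 → a ∈ P) → (h⁻¹).1.1 *ᵥ z = z := by
    intro z hz
    conv_lhs => rw [pi_eq_sum_univ' z]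
    rw [Matrix.mulVec_sum]
    conv_rhs => rw [pi_eq_sum_univ' z]
    refine Finset.sum_congr rfl fun a _ => ?_
    rw [Matrix.mulVec_smul]
    by_cases ha : z a = 0
    · simp [ha]
    · exact congrArg (z a • ·) (hfixi a (hz a ha))
  have hnew : (h⁻¹).1.1 *ᵥ v = vP + v R • bv R := by
    conv_lhs => rw [hsplit]
    rw [Matrix.mulVec_add, Matrix.mulVec_smul, ← hRW, sj_inv_mulVec,
      hfixS vP fun a ha => by by_contra hc; exact ha (by simp [hvP, hc])]
  refine ⟨h⁻¹, inv_mem hU, Function.update r K R, fun j hj hjr => ?_⟩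
  have hupd : ∀ i, i < K → Function.update r K R i = r i := fun i hi => Function.update_of_ne hi.ne _ _
  have hold : ∀ (i : Fin n) (hi : i < K), (h⁻¹ * g).1.1 *ᵥ x i hi = bv (r i) := fun i hi => by
    rw [sj_mul_mulVec, hx2 i hi, hfixi _ ((hmemP _).2 ⟨i, hi, rfl⟩)]
  rcases Nat.lt_succ_iff_lt_or_eq.1 hj with hlt | heq
  · have hjK : j < K := hlt
    refine ⟨fun a ha => ?_, x j hjK, hx1 j hjK, by rw [hold j hjK, hupd j hjK]⟩
    rw [sj_mul_mulVec, hfixS _ (fun b hb => by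
      obtain ⟨i, hi, rfl⟩ := (hg j hlt hjr).1 b hb
      exact (hmemP _).2 ⟨i, hi.trans_lt hjK, rfl⟩)] at ha
    obtain ⟨i, hi, rfl⟩ := (hg j hlt hjr).1 a ha
    exact ⟨i, hi, hupd i (hi.trans_lt hjK)⟩
  · obtain rfl : j = K := Fin.ext heq
    refine ⟨fun a ha => ?_, (v R)⁻¹ • (bv j - ∑ p ∈ P.attach, vP p.1 • x ((hmemP p.1).1 p.2).choose
        ((hmemP p.1).1 p.2).choose_spec.1), fun i hi => ?_, ?_⟩
    · rw [sj_mul_mulVec, ← hv, hnew] at ha
      by_cases haR : a = R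
      · exact ⟨j, le_rfl, by rw [haR, Function.update_self]⟩
      have haP : a ∈ P := by
        by_contra hc
        exact ha (by simp [hvP, hc, bv_ne haR])
      obtain ⟨i, hi, rfl⟩ := (hmemP a).1 haP
      exact ⟨i, hi.le, hupd i hi⟩
    · rw [Pi.smul_apply, Pi.sub_apply, bv_ne hi.ne', Finset.sum_apply, Finset.sum_eq_zero, sub_zero, smul_zero]
      intro p _
      rw [Pi.smul_apply, hx1 _ _ i (((hmemP p.1).1 p.2).choose_spec.1.trans hi), smul_zero]
    · have hsum : ∑ p ∈ P.attach, vP p.1 • (bv (r ((hmemP p.1).1 p.2).choose) : V) = vP := by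
        have hc : ∀ p : { p // p ∈ P }, vP p.1 • (bv (r ((hmemP p.1).1 p.2).choose) : V) = vP p.1 • bv p.1 :=
          fun p => by rw [((hmemP p.1).1 p.2).choose_spec.2]
        rw [Finset.sum_congr rfl fun p _ => hc p, Finset.sum_attach P fun p => vP p • (bv p : V)]
        conv_rhs => rw [pi_eq_sum_univ' vP]
        refine Finset.sum_subset (Finset.subset_univ P) fun a _ ha => ?_
        simp [hvP, ha]
      rw [Matrix.mulVec_smul, Matrix.mulVec_sub, Matrix.mulVec_sum, sj_mul_mulVec, ← hv, hnew]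
      simp only [Matrix.mulVec_smul, hold]
      rw [hsum, add_sub_cancel_left, smul_smul, inv_mul_cancel₀ hR0, one_smul, Function.update_self]

theorem exists_coord (hn : Even n) (g : ↥(SJ C n)) :
    ∃ u ∈ uu C n, ∃ r : Fin n → Fin n, Coord (u * g) r n := by
  suffices h : ∀ k, ∃ u ∈ uu C n, ∃ r : Fin n → Fin n, Coord (u * g) r k from h n
  intro k
  induction k with
  | zero => exact ⟨1, one_mem _, id, fun j hj => absurd hj (Nat.not_lt_zero _)⟩
  | succ k ih =>
    obtain ⟨u, hu, r, hr⟩ := ih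
    by_cases hk : ∃ h : k < n, (⟨k, h⟩ : Fin n) < (⟨k, h⟩ : Fin n).rev
    · obtain ⟨hkn, hlt⟩ := hk
      obtain ⟨u', hu', r', hr'⟩ := coord_step hn (u * g) r ⟨k, hkn⟩ hlt hr
      exact ⟨u' * u, mul_mem hu' hu, r', by rw [mul_assoc]; exact hr'⟩
    · refine ⟨u, hu, r, fun j hj hjr => hr j ?_ hjr⟩
      rcases Nat.lt_succ_iff_lt_or_eq.1 hj with h | h
      · exact h
      · exact absurd ⟨h ▸ j.2, by subst h; exact hjr⟩ hk

theorem isDg_mulVec {d : ↥(SJ C n)} {c : Fin n → F} (hd : IsDg d c) (w : V) :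
    d.1.1 *ᵥ w = ∑ a, (w a * c a) • (bv a : V) := by
  conv_lhs => rw [pi_eq_sum_univ' w]
  rw [Matrix.mulVec_sum]
  exact Finset.sum_congr rfl fun a _ => by rw [Matrix.mulVec_smul, hd a, smul_smul]

/-- diagonal elements become triangular -/
theorem coord_upper (hn : Even n) {g : ↥(SJ C n)} {r : Fin n → Fin n} (hg : Coord g r n) {d : ↥(SJ C n)}
    {c : Fin n → F} (hd : IsDg d c) : ∀ a b : Fin n, b < a → (g⁻¹ * d * g).1.1 a b = 0 := by
  have key : ∀ (d : ↥(SJ C n)), (∀ w : V, ∀ a, (d.1.1 *ᵥ w) a ≠ 0 → w a ≠ 0) →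
      ∀ j : Fin n, j < j.rev → ∀ a, j < a → ((g⁻¹ * d * g).1.1 *ᵥ (bv j : V)) a = 0 := by
    intro d hd j hj a ha
    obtain ⟨h1, -⟩ := hg j j.2 hj
    rw [sj_mul_mulVec, sj_mul_mulVec, pi_eq_sum_univ' (d.1.1 *ᵥ (g.1.1 *ᵥ bv j)), Matrix.mulVec_sum,
      Finset.sum_apply]
    refine Finset.sum_eq_zero fun i _ => ?_
    by_cases hi : (d.1.1 *ᵥ (g.1.1 *ᵥ bv j)) i = 0
    · simp [hi]
    obtain ⟨l, hl, rfl⟩ := h1 i (hd _ _ hi)
    obtain ⟨x, hx, hx'⟩ := (hg l l.2 (lt_of_le_of_lt hl (hj.trans_le (Fin.rev_le_rev.2 hl)))).2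
    rw [Matrix.mulVec_smul, Pi.smul_apply]
    have : (g⁻¹).1.1 *ᵥ (bv (r l) : V) = x := by rw [← hx', sj_inv_mulVec]
    exact (congrArg _ (congrFun this a)).trans (by rw [hx a (hl.trans_lt ha), smul_zero])
  have hdiag : ∀ (d : ↥(SJ C n)) (c : Fin n → F), IsDg d c → ∀ w : V, ∀ a, (d.1.1 *ᵥ w) a ≠ 0 → w a ≠ 0 := by
    intro d c hd w a ha hw
    rw [isDg_mulVec hd, Finset.sum_apply, Finset.sum_eq_zero] at ha
    · exact ha rfl
    intro b _
    by_cases hb : a = b
    · subst hb; simp [hw]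
    · simp [bv_ne hb]
  intro a b hab
  rw [← mulVec_apply_bv]
  rcases lt_trichotomy b b.rev with hb | hb | hb
  · exact key d (hdiag d c hd) b hb a hab
  · obtain ⟨l, hl⟩ := hn
    have h5 := congrArg Fin.val hb
    rw [Fin.val_rev] at h5
    omega
  set Y := g⁻¹ * d * g with hY
  have ha : a.rev < a.rev.rev := by
    rw [Fin.rev_rev]; exact (Fin.rev_lt_rev.2 hab).trans (hb.trans hab)
  have hdc : IsDg d⁻¹ (fun i => (c i)⁻¹) := fun i => by
    have hci : c i ≠ 0 := left_ne_zero_of_mul_eq_one (hd.dual i)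
    have h1 : d.1.1 *ᵥ ((c i)⁻¹ • bv i : V) = bv i := by
      rw [Matrix.mulVec_smul, hd i, smul_smul, inv_mul_cancel₀ hci, one_smul]
    conv_lhs => rw [← h1, sj_inv_mulVec]
  have h2 := key d⁻¹ (hdiag _ _ hdc) a.rev ha b.rev (Fin.rev_lt_rev.2 hab)
  rw [show g⁻¹ * d⁻¹ * g = Y⁻¹ by rw [hY]; group] at h2
  have h3 : hf C (Y.1.1 *ᵥ bv b) (bv a.rev : V) = hf C (bv b) ((Y⁻¹).1.1 *ᵥ (bv a.rev : V)) := by
    conv_lhs => rw [← sj_mulVec_inv Y (bv a.rev : V), hf_sj]
  rw [hf_bv_right, Fin.rev_rev, hf_bv_left, h2, map_zero] at h3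
  exact h3

theorem upper_inv {g : ↥(SJ C n)} (hg : ∀ a b : Fin n, b < a → g.1.1 a b = 0) :
    (∀ a b : Fin n, b < a → (g⁻¹).1.1 a b = 0) ∧ ∀ a, g.1.1 a a * (g⁻¹).1.1 a a = 1 := by
  haveI : Finite ↥(SJ C n) := inferInstance
  have hup : ∀ a b : Fin n, b < a → (g⁻¹).1.1 a b = 0 := by
    have h : g⁻¹ = g ^ (orderOf g - 1) := by
      refine inv_eq_of_mul_eq_one_right ?_
      rw [← pow_succ', Nat.sub_add_cancel (orderOf_pos g), pow_orderOf_eq_one]
    rw [h]
    exact (upper_pow hg _).1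
  refine ⟨hup, fun a => ?_⟩
  rw [← (upper_mul_diag hg hup).2 a, show g.1.1 * (g⁻¹).1.1 = (g * g⁻¹).1.1 from rfl, mul_inv_cancel]
  exact Matrix.one_apply_eq a

theorem comm_mem_uu {A B : ↥(SJ C n)} (hA : ∀ a b : Fin n, b < a → A.1.1 a b = 0)
    (hB : ∀ a b : Fin n, b < a → B.1.1 a b = 0) : A * B * A⁻¹ * B⁻¹ ∈ uu C n := by
  have h1 := upper_inv hA
  have h2 := upper_inv hB
  have h3 := upper_mul_diag hA hB
  have h4 := upper_mul_diag h3.1 h1.1
  have h5 := upper_mul_diag h4.1 h2.1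
  refine mem_uu.2 ⟨h5.1, fun a => ?_⟩
  show (A.1.1 * B.1.1 * (A⁻¹).1.1 * (B⁻¹).1.1) a a = 1
  rw [h5.2, h4.2, h3.2]
  linear_combination (B.1.1 a a * (B⁻¹).1.1 a a) * h1.2 a + h2.2 a

theorem conj_uu {Y w : ↥(SJ C n)} (hY : ∀ a b : Fin n, b < a → Y.1.1 a b = 0) (hw : w ∈ uu C n) :
    Y * w * Y⁻¹ ∈ uu C n := by
  rw [show Y * w * Y⁻¹ = (Y * w * Y⁻¹ * w⁻¹) * w by group]
  exact mul_mem (comm_mem_uu hY (mem_uu.1 hw).1) hw

/-- the triangular elements act on `⟨U, gUg⁻¹⟩` -/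
theorem absorb (hn : Even n) {b : ↥(SJ C n)} (hb : ∀ i j : Fin n, j < i → b.1.1 i j = 0) (g : ↥(SJ C n))
    {w : ↥(SJ C n)} (hw : w ∈ uu C n) :
    b * (g * w * g⁻¹) * b⁻¹ ∈ uu C n ⊔ (uu C n).map (MulAut.conj g).toMonoidHom := by
  set K := uu C n ⊔ (uu C n).map (MulAut.conj g).toMonoidHom
  have hUK : ∀ y ∈ uu C n, y ∈ K := fun y hy => Subgroup.mem_sup_left hy
  have hgK : ∀ y ∈ uu C n, g * y * g⁻¹ ∈ K := fun y hy => Subgroup.mem_sup_right ⟨y, hy, rfl⟩
  -- the diagonal part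
  have hbi := upper_inv hb
  obtain ⟨d, hd⟩ : ∃ d : ↥(SJ C n), IsDg d (fun i => b.1.1 i i) := by
    refine exists_dg _ (fun i => ?_) ?_
    · have h1 := hf_sj b (bv i) (bv i.rev)
      rw [hf_bv, if_pos rfl, hf, Finset.sum_eq_single i] at h1
      · simpa [mulVec_apply_bv] using h1
      · intro a _ hai
        rw [mulVec_apply_bv, mulVec_apply_bv]
        rcases lt_or_gt_of_ne hai with h | h
        · rw [hb a.rev i.rev (Fin.rev_lt_rev.2 h), map_zero, mul_zero]
        · rw [hb a i h, zero_mul]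
      · simp
    · have h1 := b.1.2
      rwa [Matrix.det_of_isUpperTriangular (fun a c h => hb a c h)] at h1
  have hdup : ∀ i j : Fin n, j < i → d.1.1 i j = 0 := fun i j h => by rw [hd.apply, if_neg h.ne']
  have hdi := upper_inv hdup
  have hv : b * d⁻¹ ∈ uu C n := by
    have h1 := upper_mul_diag hb hdi.1
    refine mem_uu.2 ⟨h1.1, fun i => ?_⟩
    show (b.1.1 * (d⁻¹).1.1) i i = 1
    rw [h1.2]
    have h2 := hdi.2 i
    rwa [hd.apply, if_pos rfl] at h2
  obtain ⟨u, hu, r, hr⟩ := exists_coord hn g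
  have hY := coord_upper hn hr hd
  set g' := u * g with hg'
  have hmid : d * (g' * w * g'⁻¹) * d⁻¹ ∈ K := by
    have e : d * (g' * w * g'⁻¹) * d⁻¹ =
        u * (g * ((g'⁻¹ * d * g') * w * (g'⁻¹ * d * g')⁻¹) * g⁻¹) * u⁻¹ := by rw [hg']; group
    rw [e]
    exact mul_mem (mul_mem (hUK u hu) (hgK _ (conj_uu hY hw))) (inv_mem (hUK u hu))
  have hdu : d * u⁻¹ * d⁻¹ ∈ K := hUK _ (conj_uu hdup (inv_mem hu))
  have e : b * (g * w * g⁻¹) * b⁻¹ = (b * d⁻¹) * (d * u⁻¹ * d⁻¹) * (d * (g' * w * g'⁻¹) * d⁻¹) *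
      (d * u⁻¹ * d⁻¹)⁻¹ * (b * d⁻¹)⁻¹ := by rw [hg']; group
  rw [e]
  exact mul_mem (mul_mem (mul_mem (mul_mem (hUK _ hv) hdu) hmid) (inv_mem hdu)) (inv_mem (hUK _ hv))

/-- In the defining characteristic every subgroup of `PSU_{2m}` of index prime to `p` is pronormal. -/
theorem psu_pronormal (C : UCtx F q) (p : ℕ) [Fact p.Prime] [CharP F p] (hn : Even n) (hn3 : 3 ≤ n)
    {H : Subgroup (Cfsg.PSU n F q)} (hH : ¬ p ∣ H.index) : Cfsg.IsPronormal H := by
  classical
  haveI : NeZero n := ⟨by omega⟩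
  obtain ⟨pr, hprs, hpr⟩ := exists_quotient C hn3
  haveI : Finite (Cfsg.PSU n F q) := Quotient.finite _
  obtain ⟨U, hU⟩ := exists_sylow_uu p pr hprs hpr
  have hlift : ∀ b ∈ Subgroup.normalizer ((U : Subgroup (Cfsg.PSU n F q)) : Set (Cfsg.PSU n F q)),
      ∃ b₀ : ↥(SJ C n), pr b₀ = b ∧ ∀ i j : Fin n, j < i → b₀.1.1 i j = 0 := by
    intro b hb
    obtain ⟨b₀, rfl⟩ := hprs b
    rw [hU] at hb
    exact ⟨b₀, rfl, upper_of_pr_normalizer p pr hpr hb⟩
  refine of_all_overgroups U (fun K hK => normalizer_le_of_absorb U ?_ ?_ hK) hH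
  · intro b hb g x hx
    obtain ⟨b₀, rfl, hb₀⟩ := hlift b hb
    obtain ⟨g₀, rfl⟩ := hprs g
    rw [hU] at hx
    obtain ⟨w, hw, rfl⟩ := hx
    have h1 := absorb hn hb₀ g₀ hw
    rw [← map_inv, ← map_inv, ← map_mul, ← map_mul, ← map_mul, ← map_mul]
    refine Subgroup.mem_comap.1 ((sup_le ?_ ?_ : uu C n ⊔ (uu C n).map (MulAut.conj g₀).toMonoidHom ≤ Subgroup.comap pr _) h1)
    · exact fun y hy => Subgroup.subset_closure (Or.inl (hU ▸ ⟨y, hy, rfl⟩))
    · rintro _ ⟨y, hy, rfl⟩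
      refine Subgroup.subset_closure (Or.inr ⟨pr y, hU ▸ ⟨y, hy, rfl⟩, ?_⟩)
      simp
  · intro b hb c hc
    obtain ⟨b₀, rfl, hb₀⟩ := hlift b hb
    obtain ⟨c₀, rfl, hc₀⟩ := hlift c hc
    rw [hU, ← map_inv, ← map_inv, ← map_mul, ← map_mul, ← map_mul]
    exact ⟨_, comm_mem_uu hb₀ hc₀, rfl⟩

end CfsgLib.Pronormal.SU
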