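import Cfsg.Agent.Lib.Pronormal.Basic
import Cfsg.Agent.Lib.Pronormal.FourGroup
import Cfsg.Agent.Lib.Pronormal.GLTwoBase

/-!
# Odd index subgroups of `PSL_n(q)`, `n` a power of two, `q` odd
-/

set_option autoImplicit false
set_option linter.unusedSectionVars false
set_option linter.style.haveILetI false

namespace CfsgLib.Pronormal.TwoPower

open Matrix CfsgLib.Classical

variable {F : Type*} [Field F] [Fintype F]

theorem val_factorial_two_pow : ∀ w : ℕ, padicValNat 2 (2 ^ w).factorial + 1 = 2 ^ w := by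
  haveI : Fact (Nat.Prime 2) := ⟨Nat.prime_two⟩
  intro w
  induction w with
  | zero => simp
  | succ w ih => rw [pow_succ', padicValNat_factorial_mul]; omega

theorem val_GL_double (hF : Odd (Fintype.card F)) (w : ℕ) :
    padicValNat 2 (Nat.card (GL (Fin (2 ^ (w + 1) + 2 ^ (w + 1))) F)) =
      1 + 2 * padicValNat 2 (Nat.card (GL (Fin (2 ^ (w + 1))) F)) := by
  haveI : Fact (Nat.Prime 2) := ⟨Nat.prime_two⟩
  have h1 := SylowTwoElemAb.val_GL_even (F := F) hF (2 ^ (w + 1))
  have h2 := SylowTwoElemAb.val_GL_even (F := F) hF (2 ^ w)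
  have hf := val_factorial_two_pow (w + 1)
  have hf' := val_factorial_two_pow w
  rw [← two_mul, h1]
  rw [← pow_succ'] at h2
  rw [h2]
  set c := 2 * padicValNat 2 (Fintype.card F - 1) + padicValNat 2 (Fintype.card F + 1)
  set A := padicValNat 2 (2 ^ (w + 1)).factorial
  set B := padicValNat 2 (2 ^ w).factorial
  have hp : 2 ^ (w + 1) = 2 * 2 ^ w := pow_succ' 2 w
  rw [hp] at hf ⊢
  have e1 : 2 * 2 ^ w * c = 2 * (2 ^ w * c) := by ring
  omega

/-- The doubled Sylow subgroups. -/
theorem exists_good (hF : Odd (Fintype.card F)) : ∀ w : ℕ, ∃ P : Subgroup (GL (Fin (2 ^ (w + 1))) F), Good P ∧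
    Nat.card P = 2 ^ padicValNat 2 (Nat.card (GL (Fin (2 ^ (w + 1))) F)) ∧
    (1 ≤ w → ∀ g : GL (Fin (2 ^ (w + 1))) F,
      (∀ x ∈ P, Matrix.det (x : Matrix (Fin (2 ^ (w + 1))) (Fin (2 ^ (w + 1))) F) = 1 → g * x * g⁻¹ ∈ P) →
      ∃ p ∈ P, ∃ c : F, (g : Matrix (Fin (2 ^ (w + 1))) (Fin (2 ^ (w + 1))) F) =
        c • (p : Matrix (Fin (2 ^ (w + 1))) (Fin (2 ^ (w + 1))) F)) := by
  intro w
  induction w with
  | zero =>
    obtain ⟨P, hP, hc⟩ := exists_good_two hF
    exact ⟨P, hP, hc, fun h => absurd h (by omega)⟩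
  | succ w ih =>
    obtain ⟨P, hP, hc, -⟩ := ih
    haveI : Nonempty (Fin (2 ^ (w + 1))) := ⟨⟨0, by positivity⟩⟩
    let e : Fin (2 ^ (w + 1)) ⊕ Fin (2 ^ (w + 1)) ≃ Fin (2 ^ (w + 1 + 1)) :=
      finSumFinEquiv.trans (finCongr (by rw [pow_succ _ (w + 1)]; omega))
    have hcard : Nat.card (GL (Fin (2 ^ (w + 1)) ⊕ Fin (2 ^ (w + 1))) F) =
        Nat.card (GL (Fin (2 ^ (w + 1) + 2 ^ (w + 1))) F) :=
      Nat.card_congr (Units.mapEquiv (Matrix.reindexAlgEquiv F F finSumFinEquiv).toMulEquiv).toEquiv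
    have hd : Nat.card (double P hP) =
        2 ^ padicValNat 2 (Nat.card (GL (Fin (2 ^ (w + 1)) ⊕ Fin (2 ^ (w + 1))) F)) := by
      rw [card_double hP, hc, hcard, val_GL_double hF w]
      generalize padicValNat 2 (Nat.card (GL (Fin (2 ^ (w + 1))) F)) = v
      ring
    set r : GL (Fin (2 ^ (w + 1)) ⊕ Fin (2 ^ (w + 1))) F ≃* GL (Fin (2 ^ (w + 1 + 1))) F :=
      Units.mapEquiv (Matrix.reindexAlgEquiv F F e).toMulEquiv
    have hval : ∀ x, ((r x : GL (Fin (2 ^ (w + 1 + 1))) F) : Matrix _ _ F) =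
        Matrix.reindexAlgEquiv F F e (x : Matrix _ _ F) := fun _ => rfl
    refine ⟨_, (good_double hP).reindex e, ?_, fun _ g hg => ?_⟩
    · show Nat.card ((double P hP).map r.toMonoidHom) = _
      rw [Subgroup.card_map_of_injective (f := r.toMonoidHom) r.injective, hd, Nat.card_congr r.toEquiv]
    · obtain ⟨p, hp, c, hc'⟩ := norm_step hP (r.symm g) fun x hx hxd => by
        obtain ⟨y, hy, hy'⟩ := hg (r x) ⟨x, hx, rfl⟩ (by rw [hval, Matrix.det_reindexAlgEquiv, hxd])
        have : r.symm g * x * (r.symm g)⁻¹ = y := r.injective (by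
          rw [map_mul, map_mul, map_inv, MulEquiv.apply_symm_apply]
          exact hy'.symm)
        exact this ▸ hy
      refine ⟨r p, ⟨p, hp, rfl⟩, c, ?_⟩
      have := congrArg (Matrix.reindexAlgEquiv F F e) hc'
      rw [map_smul, ← hval, ← hval, MulEquiv.apply_symm_apply] at this
      exact this

local notation "π" => QuotientGroup.mk' (Subgroup.center (Matrix.SpecialLinearGroup _ F))

/-- a self-normalising two-subgroup of `SL` makes odd index subgroups of `PSL` pronormal -/
theorem pronormal_of_self_normalizing {n : ℕ} (R : Subgroup (Matrix.SpecialLinearGroup (Fin n) F))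
    (hR : IsPGroup 2 R) (hN : Subgroup.normalizer (R : Set (Matrix.SpecialLinearGroup (Fin n) F)) ≤ R)
    {H : Subgroup (Matrix.ProjectiveSpecialLinearGroup (Fin n) F)} (hH : ¬ 2 ∣ H.index) : Cfsg.IsPronormal H := by
  haveI : Fact (Nat.Prime 2) := ⟨Nat.prime_two⟩
  set Z := Subgroup.center (Matrix.SpecialLinearGroup (Fin n) F)
  have hZR : Z ≤ R := (Subgroup.center_le_normalizer (s := (R : Set _))).trans hN
  let pr := QuotientGroup.mk' Z
  have hsurj : Function.Surjective pr := QuotientGroup.mk'_surjective Z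
  set R' := R.map pr
  have hcomap : R'.comap pr = R := by
    rw [Subgroup.comap_map_eq, QuotientGroup.ker_mk', sup_eq_left.2 hZR]
  have hN' : Subgroup.normalizer (R' : Set (Matrix.SpecialLinearGroup (Fin n) F ⧸ Z)) ≤ R' := by
    intro x hx
    obtain ⟨g, rfl⟩ := hsurj x
    refine ⟨g, hN ?_, rfl⟩
    rw [← hcomap, ← Subgroup.comap_normalizer_eq_of_surjective _ hsurj]
    exact hx
  obtain ⟨S, hS⟩ := (hR.map pr : IsPGroup 2 R').exists_le_sylow
  have hSeq : (S : Subgroup (Matrix.SpecialLinearGroup (Fin n) F ⧸ Z)) = R' := by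
    refine (le_antisymm hS ?_).symm
    by_contra hne
    haveI := S.2.isNilpotent
    have hlt : R'.subgroupOf (S : Subgroup (Matrix.SpecialLinearGroup (Fin n) F ⧸ Z)) < ⊤ := by
      rw [lt_top_iff_ne_top, Ne, Subgroup.subgroupOf_eq_top]
      exact hne
    obtain ⟨y, hyN, hyR⟩ := SetLike.exists_of_lt (Group.normalizerCondition_of_isNilpotent _ hlt)
    refine hyR (hN' (Subgroup.mem_normalizer_iff.2 fun z => ?_))
    constructor
    · intro hz
      exact (Subgroup.mem_normalizer_iff.1 hyN ⟨z, hS hz⟩).1 hz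
    · intro hz
      have hzS : z ∈ (S : Subgroup (Matrix.SpecialLinearGroup (Fin n) F ⧸ Z)) := by
        have := mul_mem (mul_mem (inv_mem y.2) (hS hz)) y.2
        simpa [mul_assoc] using this
      exact (Subgroup.mem_normalizer_iff.1 hyN ⟨z, hzS⟩).2 hz
  exact of_self_normalizing S (hSeq ▸ hN') hH

/-- degree at least four -/
theorem psl_pronormal_four (hF : Odd (Fintype.card F)) (w : ℕ) (hw : 1 ≤ w)
    {H : Subgroup (Matrix.ProjectiveSpecialLinearGroup (Fin (2 ^ (w + 1))) F)} (hH : ¬ 2 ∣ H.index) :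
    Cfsg.IsPronormal H := by
  haveI : Fact (Nat.Prime 2) := ⟨Nat.prime_two⟩
  haveI : Nonempty (Fin (2 ^ (w + 1))) := ⟨⟨0, by positivity⟩⟩
  obtain ⟨P, hP, hPc, hN⟩ := exists_good hF w
  let toG : Matrix.SpecialLinearGroup (Fin (2 ^ (w + 1))) F →* GL (Fin (2 ^ (w + 1))) F :=
    Matrix.SpecialLinearGroup.toGL
  have hinj : Function.Injective toG := fun x y h => Subtype.ext (congrArg Units.val h)
  refine pronormal_of_self_normalizing (P.comap toG) (hP.isTwo.comap_of_injective toG hinj) ?_ hH
  intro g hg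
  have hg' : ∀ x ∈ P, Matrix.det (x : Matrix (Fin (2 ^ (w + 1))) (Fin (2 ^ (w + 1))) F) = 1 → toG g * x * (toG g)⁻¹ ∈ P := by
    intro x hx hd
    obtain ⟨y, rfl⟩ : ∃ y, x = toG y := ⟨⟨_, hd⟩, Units.ext rfl⟩
    rw [← map_inv, ← map_mul, ← map_mul]
    exact (Subgroup.mem_normalizer_iff.1 hg y).1 hx
  obtain ⟨p, hp, c, hc⟩ := hN hw (toG g) hg'
  show toG g ∈ P
  have hc0 : c ≠ 0 := fun h => (toG g).ne_zero (by rw [hc, h, zero_smul])
  -- the scalar has two-power order
  obtain ⟨k, hk⟩ := hP.isTwo ⟨p, hp⟩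
  have hk' : (p : Matrix (Fin (2 ^ (w + 1))) (Fin (2 ^ (w + 1))) F).det ^ 2 ^ k = 1 := by
    rw [← Matrix.det_pow, ← Units.val_pow_eq_pow_val, show p ^ 2 ^ k = 1 from congrArg Subtype.val hk,
      Units.val_one, Matrix.det_one]
  have hdet : c ^ (2 ^ (w + 1)) * (p : Matrix (Fin (2 ^ (w + 1))) (Fin (2 ^ (w + 1))) F).det = 1 := by
    have h := g.det_coe
    rw [show g.1 = c • (p : Matrix _ _ F) from hc, Matrix.det_smul, Fintype.card_fin] at h
    exact h
  have hcpow : c ^ 2 ^ (w + 1 + k) = 1 := by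
    have h := congrArg (· ^ 2 ^ k) hdet
    simp only [one_pow, mul_pow, hk', mul_one, ← pow_mul, ← pow_add] at h
    exact h
  let z : GL (Fin (2 ^ (w + 1))) F := Units.map (algebraMap F (Matrix _ _ F)).toMonoidHom (Units.mk0 c hc0)
  have hzval : (z : Matrix (Fin (2 ^ (w + 1))) (Fin (2 ^ (w + 1))) F) = c • 1 := Algebra.algebraMap_eq_smul_one c
  have hz : z ∈ P := by
    refine mem_of_central hP.isTwo (maximal_of_card hPc).2 (fun y => Units.ext ?_) (k := w + 1 + k) ?_
    · rw [Units.val_mul, Units.val_mul, hzval, smul_mul_assoc, mul_smul_comm, one_mul, mul_one]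
    · rw [← map_pow, show (Units.mk0 c hc0) ^ 2 ^ (w + 1 + k) = 1 from Units.ext (by simp [hcpow]), map_one]
  rw [show toG g = z * p from Units.ext (by rw [Units.val_mul, hc, hzval, smul_mul_assoc, one_mul])]
  exact mul_mem hz hp

theorem commutant_two {x a : Matrix (Fin 2) (Fin 2) F} (hns : ∀ c : F, x ≠ c • 1) (h : a * x = x * a) :
    ∃ α β : F, a = α • 1 + β • x := by
  have e00 := congrFun (congrFun h 0) 0
  have e01 := congrFun (congrFun h 0) 1
  have e10 := congrFun (congrFun h 1) 0
  simp [Matrix.mul_apply, Fin.sum_univ_two] at e00 e01 e10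
  by_cases hb : x 0 1 = 0
  · by_cases hc : x 1 0 = 0
    · have hd : x 0 0 - x 1 1 ≠ 0 := fun e => hns (x 0 0) (by
        ext u v
        fin_cases u <;> fin_cases v <;> simp [hb, hc] <;> linear_combination -e)
      simp only [hb, hc] at e01 e10 e00
      have ha : a 0 1 = 0 := (mul_eq_zero.1 (show (x 0 0 - x 1 1) * a 0 1 = 0 by linear_combination -e01)).resolve_left hd
      have hb' : a 1 0 = 0 := (mul_eq_zero.1 (show (x 0 0 - x 1 1) * a 1 0 = 0 by linear_combination e10)).resolve_left hd
      refine ⟨a 0 0 - (a 0 0 - a 1 1) / (x 0 0 - x 1 1) * x 0 0, (a 0 0 - a 1 1) / (x 0 0 - x 1 1), ?_⟩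
      ext u v
      fin_cases u <;> fin_cases v <;> simp [ha, hb', hb, hc] <;> field_simp <;> ring
    · have ha01 : a 0 1 = 0 := (mul_eq_zero.1 (show a 0 1 * x 1 0 = 0 by rw [hb] at e00; linear_combination e00)).resolve_right hc
      refine ⟨a 0 0 - a 1 0 / x 1 0 * x 0 0, a 1 0 / x 1 0, ?_⟩
      ext u v
      fin_cases u <;> fin_cases v <;> simp [hb, ha01] <;> (try field_simp) <;>
        first | ring1 | linear_combination e00 | linear_combination -e00 | linear_combination e10 | linear_combination -e10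
  · refine ⟨a 0 0 - a 0 1 / x 0 1 * x 0 0, a 0 1 / x 0 1, ?_⟩
    ext u v
    fin_cases u <;> fin_cases v <;> simp <;> (try field_simp) <;>
      first | ring1 | linear_combination e00 | linear_combination -e00 | linear_combination e01 | linear_combination -e01

local notation "S2" => Matrix.SpecialLinearGroup (Fin 2) F

local notation "P2" => Matrix.ProjectiveSpecialLinearGroup (Fin 2) F

theorem neg_one_sq : (-1 : S2) * (-1) = 1 := Subtype.ext (by simp)

theorem pr_eq_iff {a b : S2} :
    (QuotientGroup.mk' (Subgroup.center S2) a = QuotientGroup.mk' (Subgroup.center S2) b) ↔ a = b ∨ a = -b := by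
  rw [QuotientGroup.mk'_eq_mk']
  constructor
  · rintro ⟨z, hz, rfl⟩
    obtain ⟨r, hr, hr'⟩ := Matrix.SpecialLinearGroup.mem_center_iff.1 hz
    have hr2 : r * r = 1 := by simpa [sq] using hr
    rcases mul_self_eq_one_iff.1 hr2 with rfl | rfl
    · left; rw [show z = 1 from Subtype.ext (by rw [← hr']; simp), mul_one]
    · right
      rw [show z = -1 from Subtype.ext (by rw [← hr']; simp [← Matrix.diagonal_neg])]
      simp
  · rintro (rfl | rfl)
    · exact ⟨1, one_mem _, mul_one _⟩
    · refine ⟨-1, Matrix.SpecialLinearGroup.mem_center_iff.2 ⟨-1, by simp, by simp [← Matrix.diagonal_neg]⟩, ?_⟩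
      simp

/-- a lift of odd order -/
theorem exists_odd_lift (x : Matrix.ProjectiveSpecialLinearGroup (Fin 2) F) (h : Odd (orderOf x)) :
    ∃ g : S2, QuotientGroup.mk' (Subgroup.center S2) g = x ∧ Odd (orderOf g) := by
  obtain ⟨g, rfl⟩ := QuotientGroup.mk'_surjective _ x
  set m := orderOf (QuotientGroup.mk' (Subgroup.center S2) g)
  have h1 : QuotientGroup.mk' (Subgroup.center S2) (g ^ m) = QuotientGroup.mk' (Subgroup.center S2) 1 := by
    rw [map_pow, pow_orderOf_eq_one, map_one]
  rcases pr_eq_iff.1 h1 with e | e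
  · exact ⟨g, rfl, h.of_dvd_nat (orderOf_dvd_of_pow_eq_one e)⟩
  · refine ⟨-g, pr_eq_iff.2 (Or.inr rfl), h.of_dvd_nat (orderOf_dvd_of_pow_eq_one ?_)⟩
    rw [h.neg_pow, e, neg_neg]

/-- degree two with four-group Sylow subgroups -/
theorem psl_two_pronormal_four_group (p : ℕ) [Fact p.Prime] [CharP F p] (hF : Odd (Fintype.card F))
    (h35 : Fintype.card F % 8 = 3 ∨ Fintype.card F % 8 = 5)
    {H : Subgroup (Matrix.ProjectiveSpecialLinearGroup (Fin 2) F)} (hH : ¬ 2 ∣ H.index) : Cfsg.IsPronormal H := by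
  classical
  haveI : Fact (Nat.Prime 2) := ⟨Nat.prime_two⟩
  have h2 := two_ne_zero_of_odd_card hF
  have hne1 : ∀ a : S2, a ≠ -a := fun a e => by
    have h' := congrArg Subtype.val e
    rw [Matrix.SpecialLinearGroup.coe_neg] at h'
    have h'' : (2 : F) • a.1 = 0 := by
      rw [two_smul]; nth_rw 1 [h']; rw [neg_add_cancel]
    have := a.det_coe
    rw [(smul_eq_zero.1 h'').resolve_left h2] at this
    simp at this
  obtain ⟨Q⟩ : Nonempty (Sylow 2 S2) := Sylow.nonempty
  let pr := QuotientGroup.mk' (Subgroup.center S2)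
  have hsurj : Function.Surjective pr := QuotientGroup.mk'_surjective _
  let S : Sylow 2 (Matrix.ProjectiveSpecialLinearGroup (Fin 2) F) := Sylow.mapSurjective hsurj Q
  have hScoe : (S : Subgroup P2) = (Q : Subgroup S2).map pr := rfl
  obtain ⟨i, hiQ, j, hjQ, hi, hj, hij⟩ := exists_pair hF Q
  have hneg : ∀ u : S2, u.1 * u.1 = -1 → u⁻¹ = -u := fun u hu => inv_eq_of_mul_eq_one_right (Subtype.ext (by
    rw [Matrix.SpecialLinearGroup.coe_mul, Matrix.SpecialLinearGroup.coe_neg, mul_neg, hu, neg_neg]; rfl))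
  have hji : j * i = -(i * j) := Subtype.ext (by
    rw [Matrix.SpecialLinearGroup.coe_neg, Matrix.SpecialLinearGroup.coe_mul, Matrix.SpecialLinearGroup.coe_mul, hij,
      neg_neg])
  have hmQ : ∀ u ∈ (Q : Subgroup S2), -u ∈ (Q : Subgroup S2) := by
    intro u hu
    have hm1 : (-1 : S2) = i * i := Subtype.ext (by
      rw [Matrix.SpecialLinearGroup.coe_mul, hi]; simp)
    rw [show -u = -1 * u by simp, hm1]
    exact mul_mem (mul_mem hiQ hiQ) hu
  -- cardinality
  obtain ⟨k, hk, ⟨e⟩⟩ := sylow_two_quaternion hF Q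
  haveI : NeZero (2 ^ k) := ⟨by positivity⟩
  have hQcard : Nat.card (Q : Subgroup S2) = 8 := by
    rw [Q.card_eq_multiplicity, Nat.factorization_def _ Nat.prime_two, SylowTwoElemAb.val_SL_two hF]
    have hv : padicValNat 2 (Fintype.card F - 1) + padicValNat 2 (Fintype.card F + 1) = 3 := by
      rcases h35 with h | h
      · obtain ⟨r, hr⟩ : ∃ r, Fintype.card F = 8 * r + 3 := ⟨Fintype.card F / 8, by omega⟩
        rw [show Fintype.card F - 1 = 2 * (4 * r + 1) by omega, show Fintype.card F + 1 = 2 ^ 2 * (2 * r + 1) by omega,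
          padicValNat.mul (by omega) (by omega), padicValNat.mul (by omega) (by omega), padicValNat.prime_pow,
          padicValNat_self, padicValNat.eq_zero_of_not_dvd (by omega : ¬ 2 ∣ 4 * r + 1),
          padicValNat.eq_zero_of_not_dvd (by omega : ¬ 2 ∣ 2 * r + 1)]
      · obtain ⟨r, hr⟩ : ∃ r, Fintype.card F = 8 * r + 5 := ⟨Fintype.card F / 8, by omega⟩
        rw [show Fintype.card F - 1 = 2 ^ 2 * (2 * r + 1) by omega, show Fintype.card F + 1 = 2 * (4 * r + 3) by omega,
          padicValNat.mul (by omega) (by omega), padicValNat.mul (by omega) (by omega), padicValNat.prime_pow,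
          padicValNat_self, padicValNat.eq_zero_of_not_dvd (by omega : ¬ 2 ∣ 4 * r + 3),
          padicValNat.eq_zero_of_not_dvd (by omega : ¬ 2 ∣ 2 * r + 1)]
    rw [hv]; norm_num
  have hk1 : k = 1 := by
    have h1 : Nat.card (Q : Subgroup S2) = 4 * 2 ^ k := by
      rw [Nat.card_congr e.toEquiv, Nat.card_eq_fintype_card, QuaternionGroup.card]
    have : 2 ^ k = 2 ^ 1 := by omega
    exact Nat.pow_right_injective le_rfl this
  subst hk1
  let f : (Q : Subgroup S2) ≃* QuaternionGroup 2 := e
  have hq8 : ∀ a b : QuaternionGroup 2, a * b * a⁻¹ = b ∨ a * b * a⁻¹ = b⁻¹ := by decide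
  have hsq4 : ∀ u ∈ (Q : Subgroup S2), u * u = 1 ∨ u * u = -1 := by
    intro u hu
    by_cases h1 : u * u = 1
    · exact Or.inl h1
    right
    refine Subtype.ext ((involution_eq_neg_one h2 h1 ?_).trans (by simp))
    have hq : ∀ x : QuaternionGroup 2, x * x * (x * x) = 1 := by decide
    exact congrArg Subtype.val (f.injective (by rw [map_mul, map_mul, hq, map_one] :
      f (⟨u, hu⟩ * ⟨u, hu⟩ * (⟨u, hu⟩ * ⟨u, hu⟩)) = f 1))
  have hScard : Nat.card (S : Subgroup P2) = 4 := by
    have hker : (pr.subgroupMap (Q : Subgroup S2)).ker = Subgroup.zpowers ⟨-1, hmQ 1 (one_mem _)⟩ := by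
      ext u
      constructor
      · intro hu
        have h1 : pr u.1 = pr 1 := by rw [map_one]; exact congrArg Subtype.val (MonoidHom.mem_ker.1 hu)
        rcases pr_eq_iff.1 h1 with e1 | e1
        · rw [show u = 1 from Subtype.ext e1]; exact one_mem _
        · rw [show u = ⟨-1, hmQ 1 (one_mem _)⟩ from Subtype.ext e1]; exact Subgroup.mem_zpowers _
      · intro hu
        refine (Subgroup.zpowers_le.2 (MonoidHom.mem_ker.2 (Subtype.ext ?_))) hu
        show pr (-1) = 1
        rw [← map_one pr]; exact pr_eq_iff.2 (Or.inr rfl)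
    have ho : orderOf (⟨-1, hmQ 1 (one_mem _)⟩ : (Q : Subgroup S2)) = 2 :=
      orderOf_eq_prime (by rw [sq]; exact Subtype.ext neg_one_sq)
        (fun h => hne1 1 (congrArg Subtype.val h).symm)
    have h := Subgroup.card_mul_index (pr.subgroupMap (Q : Subgroup S2)).ker
    rw [Subgroup.index_ker, hker, Nat.card_zpowers, ho, hQcard,
      MonoidHom.range_eq_top.2 (pr.subgroupMap_surjective _), Subgroup.card_top] at h
    rw [hScoe]
    exact Nat.eq_of_mul_eq_mul_left two_pos h
  refine FourGroup.pronormal (S := S) (p := p) ⟨hScard, ?_, ?_, ?_, ?_, ?_⟩ hH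
  · intro s hs
    rw [hScoe] at hs
    obtain ⟨u, hu, rfl⟩ := hs
    rw [← map_mul, ← map_one pr]
    exact pr_eq_iff.2 (hsq4 u hu)
  · intro x hx
    obtain ⟨g, rfl⟩ := hsurj x
    have hgi : ∀ u ∈ (Q : Subgroup S2), g * u = u * g ∨ g * u = -(u * g) := fun u hu => by
      have h' := hx (pr u) (hScoe ▸ ⟨u, hu, rfl⟩)
      rw [← map_mul, ← map_mul] at h'
      exact pr_eq_iff.1 h'.symm
    -- correct by an element of `Q`
    obtain ⟨v, hv, hvi, hvj⟩ : ∃ v ∈ (Q : Subgroup S2), v * g * i = i * (v * g) ∧ v * g * j = j * (v * g) := by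
      rcases hgi i hiQ with ei | ei <;> rcases hgi j hjQ with ej | ej
      · exact ⟨1, one_mem _, by simpa using ei, by simpa using ej⟩
      · refine ⟨i, hiQ, by rw [mul_assoc, ei], ?_⟩
        rw [mul_assoc, ej, mul_neg, ← mul_assoc, ← mul_assoc, show i * j = -(j * i) by rw [hji, neg_neg], neg_mul, neg_neg]
      · refine ⟨j, hjQ, ?_, by rw [mul_assoc, ej]⟩
        rw [mul_assoc, ei, mul_neg, ← mul_assoc, ← mul_assoc, hji, neg_mul, neg_neg]
      · refine ⟨i * j, mul_mem hiQ hjQ, ?_, ?_⟩
        · rw [mul_assoc, ei, mul_neg, ← mul_assoc, mul_assoc i j i, hji, mul_neg, neg_mul, neg_neg, ← mul_assoc,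
            ← mul_assoc]
          simp only [mul_assoc]
        · rw [mul_assoc, ej, mul_neg, ← mul_assoc, ← mul_assoc, ← mul_assoc, hji, neg_mul, neg_mul]
    have hvi' := congrArg Subtype.val hvi
    have hvj' := congrArg Subtype.val hvj
    simp only [Matrix.SpecialLinearGroup.coe_mul] at hvi' hvj'
    obtain ⟨c, hc⟩ := scalar_of_comm_pair h2 hi hj hij hvi'.symm hvj'.symm
    have hcc : c * c = 1 := by
      have := congrArg Matrix.det hc
      rw [Matrix.det_mul, v.det_coe, g.det_coe, one_mul, Matrix.det_smul, Matrix.det_one, mul_one, Fintype.card_fin, sq] at this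
      exact this.symm
    have hg : g ∈ (Q : Subgroup S2) := by
      have : v * g ∈ (Q : Subgroup S2) := by
        rcases mul_self_eq_one_iff.1 hcc with e1 | e1
        · rw [show v * g = 1 from Subtype.ext (by rw [Matrix.SpecialLinearGroup.coe_mul, hc, e1, one_smul]; rfl)]
          exact one_mem _
        · rw [show v * g = -1 from Subtype.ext (by
            rw [Matrix.SpecialLinearGroup.coe_mul, hc, e1, neg_one_smul]; simp)]
          exact hmQ 1 (one_mem _)
      simpa using mul_mem (inv_mem hv) this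
    rw [hScoe]; exact ⟨g, hg, rfl⟩
  · -- no invariant unipotent subgroup
    intro P hP hSP
    by_contra hne
    obtain ⟨⟨x, hx⟩, hx1⟩ := Subgroup.ne_bot_iff_exists_ne_one.1 hne
    have hp2 : p ≠ 2 := fun h => h2 (by subst h; exact CharP.cast_eq_zero F 2)
    have hpodd : Odd p := (Fact.out : p.Prime).odd_of_ne_two hp2
    set K := P.comap pr
    obtain ⟨b, hb⟩ := IsPGroup.iff_card.1 hP
    have hKcard : Nat.card K = 2 * p ^ b := by
      have h := Subgroup.card_mul_index (pr.subgroupComap P).ker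
      have hk : (pr.subgroupComap P).ker = Subgroup.zpowers ⟨-1, show pr (-1) ∈ P by
          rw [show pr (-1) = pr 1 from pr_eq_iff.2 (Or.inr rfl), map_one]; exact one_mem P⟩ := by
        ext u
        constructor
        · intro hu
          have h1 : pr u.1 = pr 1 := by rw [map_one]; exact congrArg Subtype.val (MonoidHom.mem_ker.1 hu)
          rcases pr_eq_iff.1 h1 with e1 | e1
          · rw [show u = 1 from Subtype.ext e1]; exact one_mem _
          · rw [show u = ⟨-1, _⟩ from Subtype.ext e1]; exact Subgroup.mem_zpowers _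
        · intro hu
          refine (Subgroup.zpowers_le.2 (MonoidHom.mem_ker.2 (Subtype.ext ?_))) hu
          show pr (-1) = 1
          rw [← map_one pr]; exact pr_eq_iff.2 (Or.inr rfl)
      rw [Subgroup.index_ker, hk, Nat.card_zpowers,
        orderOf_eq_prime (p := 2) (by rw [sq]; exact Subtype.ext neg_one_sq)
          (fun h => hne1 1 (congrArg Subtype.val h).symm),
        MonoidHom.range_eq_top.2 (MonoidHom.subgroupComap_surjective_of_surjective _ _ hsurj), Subgroup.card_top, hb] at h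
      exact h.symm
    obtain ⟨T₀⟩ : Nonempty (Sylow p K) := Sylow.nonempty
    have hT₀ : (T₀ : Subgroup K).index = 2 := by
      have h := Subgroup.card_mul_index (T₀ : Subgroup K)
      rw [T₀.card_eq_multiplicity, hKcard, Nat.factorization_mul two_ne_zero (pow_ne_zero _ (Fact.out : p.Prime).ne_zero),
        Finsupp.add_apply, Nat.prime_two.factorization, Finsupp.single_eq_of_ne hp2, zero_add,
        (Fact.out : p.Prime).factorization_pow, Finsupp.single_eq_same, mul_comm 2] at h
      exact Nat.eq_of_mul_eq_mul_left (pow_pos (Fact.out : p.Prime).pos b) h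
    -- the subgroup generated by squares
    set T := Subgroup.closure {g : S2 | ∃ y : S2, pr y ∈ P ∧ g = y * y} with hT
    have hTle : T ≤ (T₀ : Subgroup K).map K.subtype := by
      refine (Subgroup.closure_le _).2 ?_
      rintro g ⟨y, hy, rfl⟩
      exact ⟨⟨y, hy⟩ * ⟨y, hy⟩, Subgroup.mul_self_mem_of_index_two hT₀ _, rfl⟩
    have hTp : IsPGroup p T := (T₀.2.map K.subtype).to_le hTle
    have hTQ : ∀ u ∈ (Q : Subgroup S2), ∀ t ∈ T, u * t * u⁻¹ ∈ T := by
      intro u hu t ht
      refine (Subgroup.closure_le (K := T.comap (MulAut.conj u).toMonoidHom)).2 ?_ ht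
      rintro g ⟨y, hy, rfl⟩
      refine Subgroup.subset_closure ⟨u * y * u⁻¹, ?_, by simp [mul_assoc]⟩
      rw [map_mul, map_mul, map_inv]
      exact (Subgroup.mem_normalizer_iff.1 (hSP (hScoe ▸ ⟨u, hu, rfl⟩)) (pr y)).1 hy
    obtain ⟨y, rfl⟩ := hsurj x
    have hyy : y * y ∈ T := Subgroup.subset_closure ⟨y, hx, rfl⟩
    have hyy1 : y * y ≠ 1 := by
      intro h
      obtain ⟨s, hs⟩ := hP ⟨pr y, hx⟩
      have h1 : pr y ^ p ^ s = 1 := congrArg Subtype.val hs
      have h2' : pr y ^ 2 = 1 := by rw [← map_pow, sq, h, map_one]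
      exact hx1 (Subtype.ext (orderOf_eq_one_iff.1 (Nat.eq_one_of_dvd_coprimes
        ((Nat.coprime_two_left.2 hpodd).pow_right s) (orderOf_dvd_of_pow_eq_one h2') (orderOf_dvd_of_pow_eq_one h1))))
    -- fixed vectors
    letI : MulAction T (Fin 2 → F) :=
      { smul := fun t v => (t : S2).1 *ᵥ v
        one_smul := fun v => Matrix.one_mulVec v
        mul_smul := fun s t v => by
          show ((s * t : T) : S2).1 *ᵥ v = (s : S2).1 *ᵥ ((t : S2).1 *ᵥ v)
          rw [Matrix.mulVec_mulVec]; rfl }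
    obtain ⟨v, hv, hv0⟩ : ∃ v : Fin 2 → F, (∀ t : T, (t : S2).1 *ᵥ v = v) ∧ v ≠ 0 := by
      have hcount : Nat.card (Fin 2 → F) = Fintype.card F ^ 2 := by
        rw [Nat.card_fun, Nat.card_fin, Nat.card_eq_fintype_card]
      obtain ⟨a, -, ha⟩ := FiniteField.card F p
      have hdvd : p ∣ Nat.card (Fin 2 → F) := by
        rw [hcount, ha, ← pow_mul]
        exact dvd_pow_self p (by have := a.2; positivity)
      obtain ⟨v, hv, hv0⟩ := hTp.exists_fixed_point_of_prime_dvd_card_of_fixed_point (Fin 2 → F) hdvd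
        (a := 0) (fun t => Matrix.mulVec_zero _)
      exact ⟨v, hv, Ne.symm hv0⟩
    have hline : ∀ u ∈ (Q : Subgroup S2), ∃ a : F, u.1 *ᵥ v = a • v := by
      intro u hu
      by_contra hcon
      push Not at hcon
      have hfix : ∀ t : T, (t : S2).1 *ᵥ (u.1 *ᵥ v) = u.1 *ᵥ v := by
        intro t
        have hm := hTQ u⁻¹ (inv_mem hu) t t.2
        have h1 : (u⁻¹ * (t : S2) * u⁻¹⁻¹).1 *ᵥ v = v := hv ⟨_, hm⟩
        have h2' := congrArg (fun z => u.1 *ᵥ z) h1
        simp only [Matrix.mulVec_mulVec, ← Matrix.SpecialLinearGroup.coe_mul] at h2'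
        rw [show u * (u⁻¹ * (t : S2) * u⁻¹⁻¹) = (t : S2) * u by group, Matrix.SpecialLinearGroup.coe_mul] at h2'
        rw [Matrix.mulVec_mulVec]; exact h2'
      have hli : LinearIndependent F ![v, u.1 *ᵥ v] :=
        (LinearIndependent.pair_iff' hv0).2 fun a ha => hcon a ha.symm
      have hone : ∀ t : T, (t : S2) = 1 := by
        intro t
        refine Subtype.ext (Matrix.toLin'.injective ((basisOfLinearIndependentOfCardEqFinrank hli (by simp)).ext fun k => ?_))
        rw [coe_basisOfLinearIndependentOfCardEqFinrank, Matrix.toLin'_apply, Matrix.toLin'_apply,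
          Matrix.SpecialLinearGroup.coe_one, Matrix.one_mulVec]
        fin_cases k
        exacts [hv t, hfix t]
      exact hyy1 (hone ⟨_, hyy⟩)
    obtain ⟨a, ha⟩ := hline i hiQ
    obtain ⟨c, hc⟩ := hline j hjQ
    have hsq : ∀ (u : S2) (a : F), u.1 * u.1 = -1 → u.1 *ᵥ v = a • v → a ≠ 0 := by
      intro u a hu ha h0
      have h := congrArg (fun z => u.1 *ᵥ z) ha
      simp only [Matrix.mulVec_mulVec, hu, h0, zero_smul, Matrix.mulVec_zero, Matrix.neg_mulVec, Matrix.one_mulVec,
        neg_eq_zero] at h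
      exact hv0 h
    have h := congrArg (fun M => M *ᵥ v) hij
    simp only [← Matrix.mulVec_mulVec, Matrix.neg_mulVec, ha, hc, Matrix.mulVec_smul, smul_smul] at h
    have h' : ((2 : F) * (a * c)) • v = 0 := by
      rw [show (2 : F) * (a * c) = c * a + a * c by ring, add_smul, h, neg_add_cancel]
    exact (mul_ne_zero h2 (mul_ne_zero (hsq i a hi ha) (hsq j c hj hc))) ((smul_eq_zero.1 h').resolve_right hv0)
  · -- centralisers
    intro x hx1 hxo hxp a b ha hb
    obtain ⟨g, rfl, hgo⟩ := exists_odd_lift x hxo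
    obtain ⟨A, rfl⟩ := hsurj a
    obtain ⟨B, rfl⟩ := hsurj b
    have hns : ∀ c : F, g.1 ≠ c • 1 := fun c e => hx1 (by
      have hcc : c * c = 1 := by
        have := g.det_coe
        rw [e, Matrix.det_smul, Matrix.det_one, mul_one, Fintype.card_fin, sq] at this
        exact this
      rw [← map_one (QuotientGroup.mk' (Subgroup.center S2))]
      refine pr_eq_iff.2 ?_
      rcases mul_self_eq_one_iff.1 hcc with e1 | e1
      · exact Or.inl (Subtype.ext (by rw [e, e1, one_smul]; rfl))
      · exact Or.inr (Subtype.ext (by rw [e, e1, neg_one_smul]; simp)))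
    have hcomm : ∀ C : S2, pr C * pr g = pr g * pr C → C.1 * g.1 = g.1 * C.1 := by
      intro C hC
      rw [← map_mul, ← map_mul] at hC
      rcases pr_eq_iff.1 hC with e1 | e1
      · rw [← Matrix.SpecialLinearGroup.coe_mul, e1, Matrix.SpecialLinearGroup.coe_mul]
      exfalso
      have hpow : ∀ n : ℕ, Odd n → C * g ^ n = -(g ^ n * C) := by
        intro n hn
        have e2 : C * g ^ n * C⁻¹ = (C * g * C⁻¹) ^ n := (conj_pow (i := n) (a := C) (b := g)).symm
        have e3 : C * g * C⁻¹ = -g := by rw [e1, neg_mul, mul_inv_cancel_right]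
        rw [e3, hn.neg_pow] at e2
        rw [← neg_mul, ← e2, inv_mul_cancel_right]
      have h := hpow _ hgo
      rw [pow_orderOf_eq_one, mul_one, one_mul] at h
      exact hne1 C h
    obtain ⟨α, β, hA⟩ := commutant_two hns (hcomm A ha)
    have hB := hcomm B hb
    rw [← map_mul, ← map_mul]
    congr 1
    apply Subtype.ext
    rw [Matrix.SpecialLinearGroup.coe_mul, Matrix.SpecialLinearGroup.coe_mul, hA, add_mul, mul_add, smul_mul_assoc,
      smul_mul_assoc, mul_smul_comm, mul_smul_comm, one_mul, mul_one, hB]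
  · -- no inversion by elements of odd order
    intro x a hx1 hxo hxp hao hcom
    obtain ⟨g, rfl, hgo⟩ := exists_odd_lift x hxo
    obtain ⟨A, rfl, hAo⟩ := exists_odd_lift a hao
    have hns : ∀ c : F, g.1 ≠ c • 1 := fun c e => hx1 (by
      have hcc : c * c = 1 := by
        have := g.det_coe
        rw [e, Matrix.det_smul, Matrix.det_one, mul_one, Fintype.card_fin, sq] at this
        exact this
      rw [← map_one (QuotientGroup.mk' (Subgroup.center S2))]
      refine pr_eq_iff.2 ?_
      rcases mul_self_eq_one_iff.1 hcc with e1 | e1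
      · exact Or.inl (Subtype.ext (by rw [e, e1, one_smul]; rfl))
      · exact Or.inr (Subtype.ext (by rw [e, e1, neg_one_smul]; simp)))
    set y := A * g * A⁻¹ with hy
    have hyg : y.1 * g.1 = g.1 * y.1 := by
      have h : pr y * pr g = pr g * pr y := by
        rw [hy, map_mul, map_mul, map_inv]; exact hcom
      rw [← map_mul, ← map_mul] at h
      rcases pr_eq_iff.1 h with e1 | e1
      · rw [← Matrix.SpecialLinearGroup.coe_mul, e1, Matrix.SpecialLinearGroup.coe_mul]
      exfalso
      have e3 : y * g * y⁻¹ = -g := by rw [e1, neg_mul, mul_inv_cancel_right]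
      have h1 := (conj_pow (i := orderOf g) (a := y) (b := g))
      rw [e3, hgo.neg_pow, pow_orderOf_eq_one, mul_one, mul_inv_cancel] at h1
      exact hne1 1 h1.symm
    obtain ⟨α, β, hyv⟩ := commutant_two hns hyg
    have htr : y.1.trace = g.1.trace := by
      rw [hy, Matrix.SpecialLinearGroup.coe_mul, Matrix.SpecialLinearGroup.coe_mul, Matrix.trace_mul_comm, ← mul_assoc,
        ← Matrix.SpecialLinearGroup.coe_mul, inv_mul_cancel, Matrix.SpecialLinearGroup.coe_one, one_mul]
    have hdy := y.det_coe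
    have hdg := g.det_coe
    rw [hyv, Matrix.trace_fin_two, Matrix.trace_fin_two] at htr
    rw [hyv, Matrix.det_fin_two] at hdy
    rw [Matrix.det_fin_two] at hdg
    simp at htr hdy
    set t := g.1 0 0 + g.1 1 1
    have hprod : (1 - β ^ 2) * (t ^ 2 - 4) = 0 := by
      linear_combination 4 * hdy - 4 * β ^ 2 * hdg - (2 * α + β * t + t) * htr
    rcases mul_eq_zero.1 hprod with h | h
    · rcases mul_self_eq_one_iff.1 (show β * β = 1 by linear_combination -h) with rfl | rfl
      · have hα : α = 0 := (mul_eq_zero.1 (show (2 : F) * α = 0 by linear_combination htr)).resolve_left h2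
        have e : A * g * A⁻¹ = g := Subtype.ext (by rw [← hy, hyv, hα, zero_smul, zero_add, one_smul])
        rw [← map_mul, ← map_mul, mul_inv_eq_iff_eq_mul.1 e]
      · have hα : α = t := (mul_left_cancel₀ h2 (show (2 : F) * α = 2 * t by linear_combination htr))
        have hgg : y * g = 1 := Subtype.ext (by
          rw [Matrix.SpecialLinearGroup.coe_mul, hyv, hα, Matrix.SpecialLinearGroup.coe_one]
          ext u v
          fin_cases u <;> fin_cases v <;> simp [Matrix.mul_apply, Fin.sum_univ_two, t] <;>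
            first | ring1 | linear_combination hdg)
        have hinv : y = g⁻¹ := eq_inv_of_mul_eq_one_left hgg
        have hA2 : Commute (A * A) g := by
          refine mul_inv_eq_iff_eq_mul.1 ?_
          calc A * A * g * (A * A)⁻¹ = A * (A * g * A⁻¹) * A⁻¹ := by group
            _ = (A * g * A⁻¹)⁻¹ := by rw [← hy, hinv, ← conj_inv, ← hy, hinv]
            _ = g := by rw [← hy, hinv, inv_inv]
        obtain ⟨m, hm⟩ := hAo
        have hAg : Commute A g := by
          have h3 := hA2.pow_left (m + 1)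
          have e2 : (A * A) ^ (m + 1) = A := by
            rw [← sq, ← pow_mul, show 2 * (m + 1) = orderOf A + 1 by omega, pow_succ, pow_orderOf_eq_one, one_mul]
          rwa [e2] at h3
        rw [← map_mul, ← map_mul, hAg.eq]
    · -- a unipotent element has order `p`
      exfalso
      have hN : (g.1 - (t / 2) • 1) * (g.1 - (t / 2) • 1) = 0 := by
        ext u v
        fin_cases u <;> fin_cases v <;> simp [Matrix.mul_apply, Fin.sum_univ_two, t] <;> field_simp <;>
          first | ring1 | linear_combination h - 4 * hdg | linear_combination 4 * hdg - h | linear_combination h | linear_combination -h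
      have hp3 : 2 ≤ p := (Fact.out : p.Prime).two_le
      have hpow : g.1 ^ p = ((t / 2) ^ p) • 1 := by
        haveI : CharP (Matrix (Fin 2) (Fin 2) F) p := Matrix.charP p
        have e : (g.1 - (t / 2) • 1) ^ p = 0 := pow_eq_zero_of_le hp3 (by rw [sq, hN])
        rw [sub_pow_char_of_commute (p := p) ((Commute.one_right g.1).smul_right _), smul_pow, one_pow, sub_eq_zero] at e
        exact e
      have hgp : pr g ^ p = 1 := by
        rw [← map_pow, ← map_one pr]
        refine pr_eq_iff.2 ?_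
        have hcc : ((t / 2) ^ p) * ((t / 2) ^ p) = 1 := by
          have := (g ^ p).det_coe
          rw [Matrix.SpecialLinearGroup.coe_pow, hpow, Matrix.det_smul, Matrix.det_one, mul_one, Fintype.card_fin, sq] at this
          exact this
        rcases mul_self_eq_one_iff.1 hcc with e1 | e1
        · exact Or.inl (Subtype.ext (by rw [Matrix.SpecialLinearGroup.coe_pow, hpow, e1, one_smul]; rfl))
        · exact Or.inr (Subtype.ext (by rw [Matrix.SpecialLinearGroup.coe_pow, hpow, e1, neg_one_smul]; simp))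
      exact hxp (((Nat.dvd_prime (Fact.out : p.Prime)).1 (orderOf_dvd_of_pow_eq_one hgp)).resolve_left
        (fun e => hx1 (orderOf_eq_one_iff.1 e))).symm.dvd

end CfsgLib.Pronormal.TwoPower
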