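import Cfsg.Agent.Lib.Pronormal.Basic
import Cfsg.Agent.Lib.Pronormal.GLTwoPower
import Cfsg.Agent.Lib.Pronormal.GLTwoBase
import Cfsg.Agent.Lib.Classical.SUTwoSL

/-!
# Odd index subgroups of `PSU_n(q)`, `n` a power of two, `q` odd
-/

set_option autoImplicit false
set_option linter.unusedSectionVars false
set_option linter.style.haveILetI false

namespace CfsgLib.Pronormal

/-- a self-normalising two-subgroup makes the odd index subgroups of a central quotient pronormal -/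
theorem central_quotient_pronormal {G : Type*} [Group G] [Finite G] (R : Subgroup G) (hR : IsPGroup 2 R)
    (hN : Subgroup.normalizer (R : Set G) ≤ R) {H : Subgroup (G ⧸ Subgroup.center G)} (hH : ¬ 2 ∣ H.index) :
    Cfsg.IsPronormal H := by
  haveI : Fact (Nat.Prime 2) := ⟨Nat.prime_two⟩
  set Z := Subgroup.center G
  have hZR : Z ≤ R := (Subgroup.center_le_normalizer (s := (R : Set G))).trans hN
  let pr := QuotientGroup.mk' Z
  have hsurj : Function.Surjective pr := QuotientGroup.mk'_surjective Z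
  set R' := R.map pr
  have hcomap : R'.comap pr = R := by
    rw [Subgroup.comap_map_eq, QuotientGroup.ker_mk', sup_eq_left.2 hZR]
  have hN' : Subgroup.normalizer (R' : Set (G ⧸ Z)) ≤ R' := by
    intro x hx
    obtain ⟨g, rfl⟩ := hsurj x
    refine ⟨g, hN ?_, rfl⟩
    rw [← hcomap, ← Subgroup.comap_normalizer_eq_of_surjective _ hsurj]
    exact hx
  obtain ⟨S, hS⟩ := (hR.map pr : IsPGroup 2 R').exists_le_sylow
  have hSeq : (S : Subgroup (G ⧸ Z)) = R' := by
    refine (le_antisymm hS ?_).symm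
    by_contra hne
    haveI := S.2.isNilpotent
    have hlt : R'.subgroupOf (S : Subgroup (G ⧸ Z)) < ⊤ := by
      rw [lt_top_iff_ne_top, Ne, Subgroup.subgroupOf_eq_top]
      exact hne
    obtain ⟨y, hyN, hyR⟩ := SetLike.exists_of_lt (Group.normalizerCondition_of_isNilpotent _ hlt)
    refine hyR (hN' (Subgroup.mem_normalizer_iff.2 fun z => ?_))
    constructor
    · intro hz
      exact (Subgroup.mem_normalizer_iff.1 hyN ⟨z, hS hz⟩).1 hz
    · intro hz
      have hzS : z ∈ (S : Subgroup (G ⧸ Z)) := by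
        have := mul_mem (mul_mem (inv_mem y.2) (hS hz)) y.2
        simpa [mul_assoc] using this
      exact (Subgroup.mem_normalizer_iff.1 hyN ⟨z, hzS⟩).2 hz
  exact of_self_normalizing S (hSeq ▸ hN') hH

end CfsgLib.Pronormal

namespace CfsgLib.Pronormal.UnitaryTwoPower

open Matrix CfsgLib.Classical CfsgLib.Pronormal.TwoPower
open CfsgLib.SU (UCtx)

variable {F : Type*} [Field F] [Fintype F] {q : ℕ} (C : UCtx F q)

/-- A doubled group inside the unitary group. -/
structure GoodU {ι : Type} [Fintype ι] [DecidableEq ι] (P : Subgroup (GL ι F)) : Prop where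
  good : Good P
  uni : ∀ x ∈ P, (x : Matrix ι ι F)ᵀ * (x : Matrix ι ι F).map C.bar = 1
  scal : ∀ (x : GL ι F) (c : F), (x : Matrix ι ι F) = c • 1 → c * C.bar c = 1 → (∃ k, c ^ 2 ^ k = 1) → x ∈ P

/-- the two-power roots of unity -/
def twoTor (F : Type*) [Field F] : Subgroup Fˣ where
  carrier := {l | ∃ k, l ^ 2 ^ k = 1}
  one_mem' := ⟨0, one_pow _⟩
  mul_mem' := by
    rintro a b ⟨j, ha⟩ ⟨k, hb⟩
    exact ⟨j + k, by rw [mul_pow, pow_add, pow_mul, ha, one_pow, one_mul, mul_comm (2 ^ j), pow_mul, hb, one_pow]⟩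
  inv_mem' := by
    rintro a ⟨j, ha⟩
    exact ⟨j, by rw [inv_pow, ha, inv_one]⟩

/-- scalar matrices -/
def sc {ι : Type} [Fintype ι] [DecidableEq ι] : Fˣ →* GL ι F :=
  Units.map (algebraMap F (Matrix ι ι F)).toMonoidHom

theorem sc_val {ι : Type} [Fintype ι] [DecidableEq ι] (l : Fˣ) :
    ((sc l : GL ι F) : Matrix ι ι F) = (l : F) • 1 := Algebra.algebraMap_eq_smul_one _

theorem sc_comm {ι : Type} [Fintype ι] [DecidableEq ι] (l : Fˣ) (x : GL ι F) : sc l * x = x * sc l :=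
  Units.ext (by rw [Units.val_mul, Units.val_mul, sc_val, smul_one_mul, mul_smul_one])

theorem exists_two_power_norm {δ : Fˣ} (hδ : C.bar (δ : F) = δ) (h2 : δ ∈ twoTor F) :
    ∃ l ∈ twoTor F, (l : F) * C.bar (l : F) = δ := by
  obtain ⟨x, hx⟩ := C.exists_norm hδ
  have hx0 : x ≠ 0 := fun h => δ.ne_zero (by rw [← hx, h, zero_mul])
  obtain ⟨k, hk⟩ := h2
  obtain ⟨a, m, hm, hxm⟩ := Nat.exists_eq_pow_mul_and_not_dvd (orderOf_pos (Units.mk0 x hx0)).ne' 2 (by norm_num)
  obtain ⟨j, hj⟩ := exists_pow_eq_self_of_coprime (x := δ) (n := m)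
    (Nat.Coprime.coprime_dvd_right (orderOf_dvd_of_pow_eq_one hk)
      ((Nat.coprime_two_right.2 (Nat.not_even_iff_odd.1 fun he => hm he.two_dvd)).pow_right k))
  refine ⟨(Units.mk0 x hx0 ^ m) ^ j, ⟨a, ?_⟩, ?_⟩
  · rw [← pow_mul, ← pow_mul, show m * (j * 2 ^ a) = (2 ^ a * m) * j by ring, pow_mul, ← hxm, pow_orderOf_eq_one, one_pow]
  · rw [Units.val_pow_eq_pow_val, Units.val_pow_eq_pow_val, Units.val_mk0, map_pow, map_pow, ← mul_pow, ← mul_pow, hx,
      ← Units.val_pow_eq_pow_val, ← Units.val_pow_eq_pow_val, hj]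

theorem odd_card_fixed (hF : Odd (Fintype.card F)) [Fintype (CfsgLib.Descent.fixedField C.bar)] :
    Odd (Fintype.card (CfsgLib.Descent.fixedField C.bar)) := by
  have h := CfsgLib.Descent.card_fixedField_pow C.bar
  rw [C.order_two, Nat.card_eq_fintype_card] at h
  rw [← h] at hF
  exact Nat.Odd.of_mul_left (n := Fintype.card (CfsgLib.Descent.fixedField C.bar)) (by rwa [← sq])

set_option maxHeartbeats 1000000 in
include C in
theorem exists_base (hF : Odd (Fintype.card F)) : ∃ R : Subgroup (GL (Fin 2) F), GoodU C R := by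
  classical
  have h2 := two_ne_zero_of_odd_card hF
  obtain ⟨Pm, d, hd0, hPm, hH⟩ := SUTwoSL.exists_frame C
  set H : Matrix (Fin 2) (Fin 2) F := !![0, d; -d, 0] with hHdef
  let L := CfsgLib.Descent.fixedField C.bar
  haveI : Fintype L := Fintype.ofFinite L
  obtain ⟨PL, hPL, hPLc⟩ := exists_good_two (F := L) (odd_card_fixed C hF)
  let Ps : GL (Fin 2) F := Matrix.GeneralLinearGroup.mkOfDetNeZero Pm hPm
  have hPs : (Ps : Matrix (Fin 2) (Fin 2) F) = Pm := rfl
  let inc : GL (Fin 2) L →* GL (Fin 2) F := Units.map (L.subtype.mapMatrix).toMonoidHom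
  let φ : GL (Fin 2) L →* GL (Fin 2) F := (MulAut.conj Ps).toMonoidHom.comp inc
  have hinc : ∀ M : GL (Fin 2) L, ((inc M : GL (Fin 2) F) : Matrix (Fin 2) (Fin 2) F) = L.subtype.mapMatrix (M : Matrix (Fin 2) (Fin 2) L) :=
    fun _ => rfl
  have hφ : ∀ M, φ M = Ps * inc M * Ps⁻¹ := fun _ => rfl
  have hincinj : Function.Injective inc := fun M N h => Units.ext (Matrix.ext fun a b => L.subtype.injective
    (congrFun (congrFun (congrArg (fun x : GL (Fin 2) F => (x : Matrix (Fin 2) (Fin 2) F)) h) a) b))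
  have hφinj : Function.Injective φ := (MulAut.conj Ps).injective.comp hincinj
  have hdetφ : ∀ M : GL (Fin 2) L, ((φ M : GL (Fin 2) F) : Matrix (Fin 2) (Fin 2) F).det =
      L.subtype (M : Matrix (Fin 2) (Fin 2) L).det := fun M => by
    rw [hφ, Units.val_mul, Units.val_mul, Matrix.det_units_conj, hinc, ← RingHom.map_det]
  have hJ : ∀ M : Matrix (Fin 2) (Fin 2) F, Mᵀ * H * M = M.det • H := fun M => by
    ext i j
    fin_cases i <;> fin_cases j <;> simp [hHdef, Matrix.mul_apply, Fin.sum_univ_two, Matrix.det_fin_two] <;> ring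
  have hφu : ∀ M : GL (Fin 2) L, ((φ M : GL (Fin 2) F) : Matrix (Fin 2) (Fin 2) F)ᵀ *
      ((φ M : GL (Fin 2) F) : Matrix (Fin 2) (Fin 2) F).map C.bar = L.subtype (M : Matrix (Fin 2) (Fin 2) L).det • 1 := by
    intro M
    have hfix : ((inc M : GL (Fin 2) F) : Matrix (Fin 2) (Fin 2) F).map C.bar = ((inc M : GL (Fin 2) F) : Matrix (Fin 2) (Fin 2) F) := by
      ext a b
      exact ((M : Matrix (Fin 2) (Fin 2) L) a b).2
    have hinv' : Pm * (Ps⁻¹ : GL (Fin 2) F).1 = 1 := Ps.mul_inv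
    rw [hφ, Units.val_mul, Units.val_mul, hPs]
    calc (Pm * (inc M).1 * (Ps⁻¹).1)ᵀ * (Pm * (inc M).1 * (Ps⁻¹).1).map C.bar
        = ((Ps⁻¹).1)ᵀ * ((inc M).1ᵀ * (Pmᵀ * Pm.map C.bar) * (inc M).1.map C.bar) * ((Ps⁻¹).1).map C.bar := by
          simp only [Matrix.transpose_mul, Matrix.map_mul, Matrix.mul_assoc]
      _ = (inc M).1.det • (((Ps⁻¹).1)ᵀ * (Pmᵀ * Pm.map C.bar) * ((Ps⁻¹).1).map C.bar) := by
          rw [hfix, hH, hJ, mul_smul_comm, smul_mul_assoc]
      _ = (inc M).1.det • ((Pm * (Ps⁻¹).1)ᵀ * (Pm * (Ps⁻¹).1).map C.bar) := by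
          simp only [Matrix.transpose_mul, Matrix.map_mul, Matrix.mul_assoc]
      _ = _ := by
          rw [hinv', Matrix.transpose_one, Matrix.map_one _ (map_zero _) (map_one _), one_mul, hinc, ← RingHom.map_det]
  let ψ : Fˣ × GL (Fin 2) L →* GL (Fin 2) F := MonoidHom.noncommCoprod sc φ (fun l M => sc_comm l (φ M))
  have hψ : ∀ l M, ψ (l, M) = sc l * φ M := fun l M => MonoidHom.noncommCoprod_apply _ _ _ _
  let Nrm : Fˣ × GL (Fin 2) L →* F :=
    { toFun := fun x => (x.1 : F) * C.bar (x.1 : F) * L.subtype (x.2 : Matrix (Fin 2) (Fin 2) L).det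
      map_one' := by simp
      map_mul' := fun x y => by
        simp only [Prod.fst_mul, Prod.snd_mul, Units.val_mul, Matrix.det_mul, map_mul]
        ring }
  let R₀ : Subgroup (Fˣ × GL (Fin 2) L) := (twoTor F).prod PL ⊓ Nrm.ker
  let R := R₀.map ψ
  have hmemR : ∀ x, x ∈ R ↔ ∃ l ∈ twoTor F, ∃ M ∈ PL,
      (l : F) * C.bar (l : F) * L.subtype (M : Matrix (Fin 2) (Fin 2) L).det = 1 ∧ x = sc l * φ M := by
    intro x
    constructor
    · rintro ⟨⟨l, M⟩, ⟨⟨hl, hM⟩, hn⟩, rfl⟩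
      exact ⟨l, hl, M, hM, hn, hψ l M⟩
    · rintro ⟨l, hl, M, hM, hn, rfl⟩
      exact ⟨(l, M), ⟨⟨hl, hM⟩, hn⟩, hψ l M⟩
  have hlam : ∀ M ∈ PL, ∃ l ∈ twoTor F, (l : F) * C.bar (l : F) * L.subtype (M : Matrix (Fin 2) (Fin 2) L).det = 1 := by
    intro M hM
    have hd : L.subtype (M : Matrix (Fin 2) (Fin 2) L).det ≠ 0 := by
      rw [map_ne_zero_iff _ L.subtype.injective]
      exact ((Matrix.isUnit_iff_isUnit_det _).1 M.isUnit).ne_zero
    obtain ⟨l, hl, hl'⟩ := exists_two_power_norm C (δ := (Units.mk0 _ hd)⁻¹) (by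
        rw [Units.val_inv_eq_inv_val, Units.val_mk0, map_inv₀]
        exact congrArg _ ((M : Matrix (Fin 2) (Fin 2) L).det).2) (by
        obtain ⟨k, hk⟩ := hPL.isTwo ⟨M, hM⟩
        refine inv_mem ⟨k, Units.ext ?_⟩
        rw [Units.val_pow_eq_pow_val, Units.val_mk0, ← map_pow, ← Matrix.det_pow, ← Units.val_pow_eq_pow_val,
          show M ^ 2 ^ k = 1 from congrArg Subtype.val hk, Units.val_one, Matrix.det_one, map_one, Units.val_one])
    refine ⟨l, hl, ?_⟩
    rw [hl', Units.val_inv_eq_inv_val, Units.val_mk0, inv_mul_cancel₀ hd]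
  have hone : ∀ M ∈ PL, (M : Matrix (Fin 2) (Fin 2) L).det = 1 → φ M ∈ R := fun M hM hd =>
    (hmemR _).2 ⟨1, one_mem _, M, hM, by simp [hd], by rw [map_one, one_mul]⟩
  have huni : ∀ x ∈ R, (x : Matrix (Fin 2) (Fin 2) F)ᵀ * (x : Matrix (Fin 2) (Fin 2) F).map C.bar = 1 := by
    intro x hx
    obtain ⟨l, -, M, -, hn, rfl⟩ := (hmemR x).1 hx
    rw [Units.val_mul, sc_val, smul_mul_assoc, one_mul, Matrix.transpose_smul, Matrix.map_smul' _ _ _ (map_mul C.bar),
      smul_mul_smul_comm, hφu, smul_smul, hn, one_smul]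
  have hspan : ∀ X : Matrix (Fin 2) (Fin 2) F,
      (∀ s ∈ R, (s : Matrix (Fin 2) (Fin 2) F).det = 1 → ((s : Matrix (Fin 2) (Fin 2) F) * X).trace = 0) → X = 0 := by
    intro X hX
    set Y := (Ps⁻¹ : GL (Fin 2) F).1 * X * Pm with hY
    obtain ⟨a, ha⟩ := C.exists_not_fixed
    choose y1 y2 hy1 hy2 hy using fun i j => C.exists_decomp ha (Y i j)
    let Y1 : Matrix (Fin 2) (Fin 2) L := fun i j => ⟨y1 i j, hy1 i j⟩
    let Y2 : Matrix (Fin 2) (Fin 2) L := fun i j => ⟨y2 i j, hy2 i j⟩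
    have hYd : Y = L.subtype.mapMatrix Y1 + a • L.subtype.mapMatrix Y2 := by
      ext i j
      simp only [Matrix.add_apply, Matrix.smul_apply, RingHom.mapMatrix_apply, Matrix.map_apply, smul_eq_mul]
      rw [mul_comm]
      exact hy i j
    have key : ∀ M ∈ PL, (M : Matrix (Fin 2) (Fin 2) L).det = 1 →
        ((M : Matrix (Fin 2) (Fin 2) L) * Y1).trace = 0 ∧ ((M : Matrix (Fin 2) (Fin 2) L) * Y2).trace = 0 := by
      intro M hM hd
      have h1 := hX _ (hone M hM hd) (by rw [hdetφ, hd, map_one])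
      rw [hφ, Units.val_mul, Units.val_mul, Matrix.mul_assoc, Matrix.mul_assoc, Matrix.trace_mul_comm, Matrix.mul_assoc,
        hPs, ← hY, hYd, mul_add, mul_smul_comm, Matrix.trace_add, Matrix.trace_smul, hinc, ← map_mul, ← map_mul] at h1
      have htr : ∀ A : Matrix (Fin 2) (Fin 2) L, (L.subtype.mapMatrix A).trace = L.subtype A.trace := fun A =>
        (AddMonoidHom.map_trace L.subtype A).symm
      rw [htr, htr, smul_eq_mul] at h1
      set u := ((M : Matrix (Fin 2) (Fin 2) L) * Y1).trace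
      set v := ((M : Matrix (Fin 2) (Fin 2) L) * Y2).trace
      have hu : C.bar (L.subtype u) = L.subtype u := u.2
      have hv : C.bar (L.subtype v) = L.subtype v := v.2
      have h1' := congrArg C.bar h1
      rw [map_add, map_mul, hu, hv, map_zero] at h1'
      have hv0 : L.subtype v = 0 := (mul_eq_zero.1 (show (C.bar a - a) * L.subtype v = 0 by
        linear_combination h1' - h1)).resolve_left (sub_ne_zero.2 ha)
      rw [hv0, mul_zero, add_zero] at h1
      exact ⟨(map_eq_zero_iff _ L.subtype.injective).1 h1, (map_eq_zero_iff _ L.subtype.injective).1 hv0⟩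
    have hY0 : Y = 0 := by
      rw [hYd, hPL.span Y1 fun M hM hd => (key M hM hd).1, hPL.span Y2 fun M hM hd => (key M hM hd).2]
      simp
    have e : X = Pm * Y * (Ps⁻¹ : GL (Fin 2) F).1 := by
      have hinv' : Pm * (Ps⁻¹ : GL (Fin 2) F).1 = 1 := Ps.mul_inv
      rw [hY]
      calc X = (Pm * (Ps⁻¹ : GL (Fin 2) F).1) * X * (Pm * (Ps⁻¹ : GL (Fin 2) F).1) := by rw [hinv', one_mul, mul_one]
        _ = _ := by simp only [Matrix.mul_assoc]
    rw [e, hY0, mul_zero, zero_mul]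
  obtain ⟨t, ht, htd, htt, httr⟩ := hPL.quarter
  refine ⟨R, ⟨⟨⟨1, by simp⟩, by simpa using h2, ?_, ?_, hspan, φ t, hone t ht htd, by rw [hdetφ, htd, map_one], ?_, ?_⟩, huni,
    fun x c hx hc ⟨k, hk⟩ => ?_⟩⟩
  · rintro ⟨x, hx⟩
    obtain ⟨l, ⟨j, hl⟩, M, hM, -, rfl⟩ := (hmemR x).1 hx
    obtain ⟨k, hk⟩ := hPL.isTwo ⟨M, hM⟩
    refine ⟨j + k, Subtype.ext ?_⟩
    show (sc l * φ M) ^ 2 ^ (j + k) = 1
    rw [(show Commute (sc l) (φ M) from sc_comm l (φ M)).mul_pow, ← map_pow, ← map_pow, pow_add, pow_mul, hl, one_pow,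
      mul_comm (2 ^ j), pow_mul, show M ^ 2 ^ k = 1 from congrArg Subtype.val hk, one_pow, map_one, map_one, one_mul]
  · -- normalisers
    intro g hg
    set G := (g : Matrix (Fin 2) (Fin 2) F) with hG
    have hGd : G.det ≠ 0 := ((Matrix.isUnit_iff_isUnit_det _).1 g.isUnit).ne_zero
    set H' := Gᵀ * G.map C.bar with hH'
    have hcomm : ∀ r ∈ R, H' * (r : Matrix (Fin 2) (Fin 2) F).map C.bar = (r : Matrix (Fin 2) (Fin 2) F).map C.bar * H' := by
      intro r hr
      have h1 := huni _ (hg r hr)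
      have h3 := huni r hr
      set r' := g * r * g⁻¹ with hr'
      have e : (r' : Matrix (Fin 2) (Fin 2) F) * G = G * r := by
        rw [hG, ← Units.val_mul, ← Units.val_mul, hr', inv_mul_cancel_right]
      have h2' : (r : Matrix (Fin 2) (Fin 2) F)ᵀ * H' * (r : Matrix (Fin 2) (Fin 2) F).map C.bar = H' := by
        calc (r : Matrix (Fin 2) (Fin 2) F)ᵀ * H' * (r : Matrix (Fin 2) (Fin 2) F).map C.bar
            = (G * (r : Matrix (Fin 2) (Fin 2) F))ᵀ * (G * (r : Matrix (Fin 2) (Fin 2) F)).map C.bar := by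
              simp only [hH', Matrix.transpose_mul, Matrix.map_mul, Matrix.mul_assoc]
          _ = Gᵀ * ((r' : Matrix (Fin 2) (Fin 2) F)ᵀ * (r' : Matrix (Fin 2) (Fin 2) F).map C.bar) * G.map C.bar := by
              rw [← e]; simp only [Matrix.transpose_mul, Matrix.map_mul, Matrix.mul_assoc]
          _ = H' := by rw [h1, mul_one]
      have h4 := mul_eq_one_comm.1 h3
      calc H' * (r : Matrix (Fin 2) (Fin 2) F).map C.bar
          = ((r : Matrix (Fin 2) (Fin 2) F).map C.bar * (r : Matrix (Fin 2) (Fin 2) F)ᵀ) *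
              (H' * (r : Matrix (Fin 2) (Fin 2) F).map C.bar) := by rw [h4, one_mul]
        _ = (r : Matrix (Fin 2) (Fin 2) F).map C.bar *
              ((r : Matrix (Fin 2) (Fin 2) F)ᵀ * H' * (r : Matrix (Fin 2) (Fin 2) F).map C.bar) := by
              simp only [Matrix.mul_assoc]
        _ = _ := by rw [h2']
    have hbb : ∀ A : Matrix (Fin 2) (Fin 2) F, (A.map C.bar).map C.bar = A := fun A => by
      ext i j; simp [C.bar_bar]
    obtain ⟨e₀, he₀⟩ : ∃ c : F, H'.map C.bar = c • 1 := scalar_of_span hspan fun r hr _ => by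
      have := congrArg (fun A : Matrix (Fin 2) (Fin 2) F => A.map C.bar) (hcomm r hr)
      simp only [Matrix.map_mul, hbb] at this
      exact this.symm
    set e := C.bar e₀ with he
    have hH'e : H' = e • 1 := by
      conv_lhs => rw [← hbb H', he₀]
      ext i j
      by_cases h : i = j <;> simp [he, h]
    have hefix : C.bar e = e := by
      have h : (H'.map C.bar) = H'ᵀ := by
        rw [hH', Matrix.map_mul, hbb, Matrix.transpose_mul, Matrix.transpose_transpose, Matrix.transpose_map]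
      rw [he₀, hH'e, Matrix.transpose_smul, Matrix.transpose_one] at h
      have := congrFun (congrFun h 0) 0
      simp at this
      conv_rhs => rw [he, this]
    obtain ⟨ν, hν⟩ := C.exists_norm hefix
    have hν0 : ν ≠ 0 := by
      intro h
      have h1 := congrArg Matrix.det hH'e
      rw [hH', Matrix.det_mul, Matrix.det_transpose, ← hν, h] at h1
      rw [show (G.map C.bar).det = C.bar G.det from (RingHom.map_det C.bar.toRingHom G).symm] at h1
      simp [hGd] at h1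
    -- the rational form
    set N := (Ps⁻¹ : GL (Fin 2) F).1 * (ν⁻¹ • G) * Pm with hN
    have hinv : (Ps⁻¹ : GL (Fin 2) F).1 * Pm = 1 := Ps.inv_mul
    have hinv' : Pm * (Ps⁻¹ : GL (Fin 2) F).1 = 1 := Ps.mul_inv
    have hPN : Pm * N = ν⁻¹ • G * Pm := by
      rw [hN, ← Matrix.mul_assoc, ← Matrix.mul_assoc, hinv', one_mul]
    have hg1 : (ν⁻¹ • G)ᵀ * (ν⁻¹ • G).map C.bar = 1 := by
      rw [Matrix.transpose_smul, Matrix.map_smul' _ _ _ (map_mul C.bar), smul_mul_smul_comm, ← hH', hH'e, smul_smul,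
        map_inv₀, ← mul_inv, hν, inv_mul_cancel₀ (by rw [← hν]; simp [hν0]), one_smul]
    have hNform : Nᵀ * H * N.map C.bar = H := by
      rw [← hH]
      calc Nᵀ * (Pmᵀ * Pm.map C.bar) * N.map C.bar = (Pm * N)ᵀ * (Pm * N).map C.bar := by
            simp only [Matrix.transpose_mul, Matrix.map_mul, Matrix.mul_assoc]
        _ = Pmᵀ * ((ν⁻¹ • G)ᵀ * (ν⁻¹ • G).map C.bar) * Pm.map C.bar := by
            rw [hPN]; simp only [Matrix.transpose_mul, Matrix.map_mul, Matrix.mul_assoc]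
        _ = _ := by rw [hg1, mul_one]
    have hHd : H.det ≠ 0 := by simp [hHdef, Matrix.det_fin_two, hd0]
    have hNd : N.det * C.bar N.det = 1 := by
      have h1 := congrArg Matrix.det hNform
      rw [Matrix.det_mul, Matrix.det_mul, Matrix.det_transpose,
        show (N.map C.bar).det = C.bar N.det from (RingHom.map_det C.bar.toRingHom N).symm] at h1
      exact mul_right_cancel₀ hHd (by linear_combination h1)
    set δ := N.det with hδdef
    have hδ0 : δ ≠ 0 := left_ne_zero_of_mul_eq_one hNd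
    have hNbar : δ • N.map C.bar = N := by
      have hu : IsUnit (Nᵀ * H) := (Matrix.isUnit_iff_isUnit_det _).2 (isUnit_iff_ne_zero.2 (by
        rw [Matrix.det_mul, Matrix.det_transpose]; exact mul_ne_zero hδ0 hHd))
      refine hu.mul_left_cancel ?_
      rw [mul_smul_comm, hNform, hJ]
    obtain ⟨c, hc0, hc⟩ : ∃ c : F, c ≠ 0 ∧ C.bar c = δ * c := by
      by_cases hd1 : δ = -1
      · obtain ⟨z, hz0, hz⟩ := C.exists_trace_zero
        exact ⟨z, hz0, by rw [hd1]; linear_combination hz⟩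
      · refine ⟨1 + C.bar δ, fun h => hd1 ?_, ?_⟩
        · have := congrArg C.bar h
          rw [map_add, C.bar_bar, map_one, map_zero] at this
          linear_combination this
        · rw [map_add, map_one, C.bar_bar]; linear_combination -hNd
    have hcN : ∀ i j, C.bar (c * N i j) = c * N i j := fun i j => by
      have h1 := congrFun (congrFun hNbar i) j
      simp only [Matrix.smul_apply, Matrix.map_apply, smul_eq_mul] at h1
      rw [map_mul, hc]
      linear_combination c * h1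
    let N₀ : Matrix (Fin 2) (Fin 2) L := fun i j => ⟨c * N i j, hcN i j⟩
    have hN₀ : L.subtype.mapMatrix N₀ = c • N := by ext i j; rfl
    have hN₀d : N₀.det ≠ 0 := fun h => by
      have := congrArg L.subtype h
      rw [RingHom.map_det, hN₀, Matrix.det_smul, map_zero] at this
      exact mul_ne_zero (pow_ne_zero _ hc0) hδ0 this
    let NL := Matrix.GeneralLinearGroup.mkOfDetNeZero N₀ hN₀d
    set κ : Fˣ := Units.mk0 (ν / c) (div_ne_zero hν0 hc0) with hκ
    have hgκ : g = sc κ * φ NL := Units.ext (by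
      rw [Units.val_mul, sc_val, smul_mul_assoc, one_mul, hφ, Units.val_mul, Units.val_mul, hinc, hPs]
      show G = (ν / c) • (Pm * L.subtype.mapMatrix N₀ * _)
      rw [hN₀, mul_smul_comm, smul_mul_assoc, hPN, smul_mul_assoc, smul_mul_assoc, Matrix.mul_assoc, hinv', mul_one,
        smul_smul, smul_smul, show ν / c * c * ν⁻¹ = 1 by field_simp, one_smul])
    have hNP : ∀ M ∈ PL, NL * M * NL⁻¹ ∈ PL := by
      intro M hM
      obtain ⟨l, hl, hn⟩ := hlam M hM
      obtain ⟨l', hl', M', hM', -, e'⟩ := (hmemR _).1 (hg _ ((hmemR _).2 ⟨l, hl, M, hM, hn, rfl⟩))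
      have e1 : φ (NL * M * NL⁻¹ * M'⁻¹) = sc (l' * l⁻¹) := by
        rw [hgκ] at e'
        have e2 : sc κ * φ NL * (sc l * φ M) * (sc κ * φ NL)⁻¹ = sc l * φ (NL * M * NL⁻¹) := by
          rw [map_mul, map_mul, map_inv, _root_.mul_inv_rev]
          calc sc κ * φ NL * (sc l * φ M) * ((φ NL)⁻¹ * (sc κ)⁻¹)
              = sc κ * ((φ NL * sc l) * φ M * (φ NL)⁻¹) * (sc κ)⁻¹ := by group
            _ = sc κ * (sc l * φ NL * φ M * (φ NL)⁻¹) * (sc κ)⁻¹ := by rw [sc_comm l]
            _ = sc l * φ NL * φ M * (φ NL)⁻¹ := by rw [sc_comm κ, mul_inv_cancel_right]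
            _ = _ := by group
        rw [e2] at e'
        rw [map_mul φ (NL * M * NL⁻¹), map_inv φ M', eq_inv_mul_of_mul_eq e', ← map_inv sc]
        rw [← mul_assoc, mul_inv_cancel_right, ← map_mul, mul_comm]
      set A := NL * M * NL⁻¹ * M'⁻¹
      obtain ⟨k, hk⟩ := mul_mem hl' (inv_mem hl)
      have hAP : A ∈ PL := by
        refine mem_of_central hPL.isTwo (maximal_of_card hPLc).2 (fun y => hφinj ?_) (k := k) (hφinj ?_)
        · rw [map_mul φ A y, map_mul φ y A, e1, sc_comm]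
        · rw [map_pow φ A, e1, ← map_pow, hk, map_one, map_one]
      have := mul_mem hAP hM'
      rwa [inv_mul_cancel_right] at this
    obtain ⟨p, hp, c₀, hc₀⟩ := hPL.norm NL hNP
    obtain ⟨l, hl, hn⟩ := hlam p hp
    refine ⟨sc l * φ p, (hmemR _).2 ⟨l, hl, p, hp, hn, rfl⟩, (κ : F) * L.subtype c₀ / (l : F), ?_⟩
    have hinc0 : L.subtype.mapMatrix (c₀ • (p : Matrix (Fin 2) (Fin 2) L)) =
        L.subtype c₀ • L.subtype.mapMatrix (p : Matrix (Fin 2) (Fin 2) L) := by ext i j; simp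
    rw [hG, hgκ, Units.val_mul, Units.val_mul, sc_val, sc_val, smul_mul_assoc, one_mul, smul_mul_assoc, one_mul, smul_smul,
      hφ, hφ, Units.val_mul, Units.val_mul, Units.val_mul, Units.val_mul, hinc, hinc, hc₀, hinc0, mul_smul_comm,
      smul_mul_assoc, smul_smul, div_mul_cancel₀ _ l.ne_zero]
  · rw [hφ, Units.val_mul, Units.val_mul, hinc]
    have := congrArg L.subtype.mapMatrix htt
    rw [map_mul, map_neg, map_one] at this
    have hinv : (Ps⁻¹ : GL (Fin 2) F).1 * Pm = 1 := Ps.inv_mul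
    have hinv' : Pm * (Ps⁻¹ : GL (Fin 2) F).1 = 1 := Ps.mul_inv
    rw [hPs]
    calc Pm * L.subtype.mapMatrix t.1 * (Ps⁻¹).1 * (Pm * L.subtype.mapMatrix t.1 * (Ps⁻¹).1)
        = Pm * (L.subtype.mapMatrix t.1 * ((Ps⁻¹).1 * Pm) * L.subtype.mapMatrix t.1) * (Ps⁻¹).1 := by
          simp only [Matrix.mul_assoc]
      _ = _ := by rw [hinv, mul_one, this, mul_neg_one, neg_mul, hinv']
  · rw [hφ, Units.val_mul, Units.val_mul, Matrix.trace_mul_cycle, ← Units.val_mul, inv_mul_cancel, Units.val_one,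
      one_mul, hinc, RingHom.mapMatrix_apply, ← AddMonoidHom.map_trace L.subtype, httr, map_zero]
  · refine (hmemR x).2 ⟨Units.mk0 c (left_ne_zero_of_mul_eq_one hc), ⟨k, Units.ext (by simp [hk])⟩, 1, one_mem _,
      by simp [hc], ?_⟩
    rw [map_one, mul_one]
    exact Units.ext (by rw [sc_val, hx, Units.val_mk0])

theorem goodU_double {ι : Type} [Fintype ι] [DecidableEq ι] [Nonempty ι] {P : Subgroup (GL ι F)}
    (hP : GoodU C P) : GoodU C (double P hP.good) := by
  have htau : ((tau : GL (ι ⊕ ι) F) : Matrix (ι ⊕ ι) (ι ⊕ ι) F)ᵀ *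
      ((tau : GL (ι ⊕ ι) F) : Matrix (ι ⊕ ι) (ι ⊕ ι) F).map C.bar = 1 := by
    rw [tau_val, Matrix.fromBlocks_transpose, Matrix.fromBlocks_map, Matrix.fromBlocks_multiply,
      ← Matrix.fromBlocks_one]
    have e1 : (-1 : Matrix ι ι F).map C.bar = -1 := by ext i j; by_cases h : i = j <;> simp [h]
    simp [Matrix.map_one, Matrix.map_zero, e1]
  have hdg : ∀ a ∈ P, ∀ b ∈ P, ((dg (a, b) : GL (ι ⊕ ι) F) : Matrix (ι ⊕ ι) (ι ⊕ ι) F)ᵀ *
      ((dg (a, b) : GL (ι ⊕ ι) F) : Matrix (ι ⊕ ι) (ι ⊕ ι) F).map C.bar = 1 := by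
    intro a ha b hb
    rw [dg_val, Matrix.fromBlocks_transpose, Matrix.fromBlocks_map, Matrix.fromBlocks_multiply]
    simp [hP.uni a ha, hP.uni b hb, ← Matrix.fromBlocks_one]
  refine ⟨good_double hP.good, ?_, fun x c hx hc hk => ?_⟩
  · rintro x ⟨a, ha, b, hb, rfl | rfl⟩
    · exact hdg a ha b hb
    · rw [Units.val_mul, Matrix.transpose_mul, Matrix.map_mul, Matrix.mul_assoc, ← Matrix.mul_assoc _ _ (Matrix.map _ _),
        hdg a ha b hb, one_mul, htau]
  · set z : GL ι F := sc (Units.mk0 c (left_ne_zero_of_mul_eq_one hc))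
    have hz : z ∈ P := hP.scal z c (sc_val _) hc hk
    refine ⟨z, hz, z, hz, Or.inl (Units.ext ?_)⟩
    rw [hx, dg_val, sc_val, Units.val_mk0, ← Matrix.fromBlocks_one, Matrix.fromBlocks_smul, smul_zero]

theorem goodU_reindex {ι κ : Type} [Fintype ι] [DecidableEq ι] [Fintype κ] [DecidableEq κ] {P : Subgroup (GL ι F)}
    (hP : GoodU C P) (e : ι ≃ κ) :
    GoodU C (P.map (Units.mapEquiv (Matrix.reindexAlgEquiv F F e).toMulEquiv).toMonoidHom) := by
  set r : GL ι F ≃* GL κ F := Units.mapEquiv (Matrix.reindexAlgEquiv F F e).toMulEquiv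
  have hval : ∀ x : GL ι F, ((r x : GL κ F) : Matrix κ κ F) = Matrix.reindexAlgEquiv F F e (x : Matrix ι ι F) :=
    fun _ => rfl
  refine ⟨hP.good.reindex e, ?_, fun x c hx hc hk => ⟨r.symm x, hP.scal _ c ?_ hc hk, r.apply_symm_apply x⟩⟩
  · rintro _ ⟨x, hx, rfl⟩
    have h := congrArg (Matrix.reindexAlgEquiv F F e) (hP.uni x hx)
    rw [map_mul, map_one] at h
    exact h
  · refine (Matrix.reindexAlgEquiv F F e).injective ?_
    rw [map_smul, map_one, ← hval, MulEquiv.apply_symm_apply, hx]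

include C in
/-- The doubled groups. -/
theorem exists_goodU (hF : Odd (Fintype.card F)) : ∀ w : ℕ, ∃ P : Subgroup (GL (Fin (2 ^ (w + 1))) F), GoodU C P ∧
    (1 ≤ w → ∀ g : GL (Fin (2 ^ (w + 1))) F,
      (∀ x ∈ P, Matrix.det (x : Matrix (Fin (2 ^ (w + 1))) (Fin (2 ^ (w + 1))) F) = 1 → g * x * g⁻¹ ∈ P) →
      ∃ p ∈ P, ∃ c : F, (g : Matrix (Fin (2 ^ (w + 1))) (Fin (2 ^ (w + 1))) F) =
        c • (p : Matrix (Fin (2 ^ (w + 1))) (Fin (2 ^ (w + 1))) F)) := by
  intro w
  induction w with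
  | zero =>
    obtain ⟨P, hP⟩ := exists_base C hF
    exact ⟨P, hP, fun h => absurd h (by omega)⟩
  | succ w ih =>
    obtain ⟨P, hP, -⟩ := ih
    haveI : Nonempty (Fin (2 ^ (w + 1))) := ⟨⟨0, by positivity⟩⟩
    let e : Fin (2 ^ (w + 1)) ⊕ Fin (2 ^ (w + 1)) ≃ Fin (2 ^ (w + 1 + 1)) :=
      finSumFinEquiv.trans (finCongr (by rw [pow_succ _ (w + 1)]; omega))
    set r : GL (Fin (2 ^ (w + 1)) ⊕ Fin (2 ^ (w + 1))) F ≃* GL (Fin (2 ^ (w + 1 + 1))) F :=
      Units.mapEquiv (Matrix.reindexAlgEquiv F F e).toMulEquiv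
    have hval : ∀ x, ((r x : GL (Fin (2 ^ (w + 1 + 1))) F) : Matrix _ _ F) =
        Matrix.reindexAlgEquiv F F e (x : Matrix _ _ F) := fun _ => rfl
    refine ⟨_, goodU_reindex C (goodU_double C hP) e, fun _ g hg => ?_⟩
    obtain ⟨p, hp, c, hc'⟩ := norm_step hP.good (r.symm g) fun x hx hxd => by
      obtain ⟨y, hy, hy'⟩ := hg (r x) ⟨x, hx, rfl⟩ (by rw [hval, Matrix.det_reindexAlgEquiv, hxd])
      have : r.symm g * x * (r.symm g)⁻¹ = y := r.injective (by
        rw [map_mul, map_mul, map_inv, MulEquiv.apply_symm_apply]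
        exact hy'.symm)
      exact this ▸ hy
    refine ⟨r p, ⟨p, hp, rfl⟩, c, ?_⟩
    have := congrArg (Matrix.reindexAlgEquiv F F e) hc'
    rw [map_smul, ← hval, ← hval, MulEquiv.apply_symm_apply] at this
    exact this

include C in
/-- degree at least four -/
theorem psu_pronormal_four (hF : Odd (Fintype.card F)) (w : ℕ) (hw : 1 ≤ w)
    {H : Subgroup (Cfsg.PSU (2 ^ (w + 1)) F q)} (hH : ¬ 2 ∣ H.index) : Cfsg.IsPronormal H := by
  classical
  obtain ⟨P, hP, hN⟩ := exists_goodU C hF w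
  let toG : ↥(Cfsg.SU (2 ^ (w + 1)) F q) →* GL (Fin (2 ^ (w + 1))) F :=
    Matrix.SpecialLinearGroup.toGL.comp (Cfsg.SU (2 ^ (w + 1)) F q).subtype
  have hinj : Function.Injective toG := fun x y h => Subtype.ext (Subtype.ext (congrArg Units.val h))
  have hmem : ∀ x : Matrix.SpecialLinearGroup (Fin (2 ^ (w + 1))) F,
      x ∈ Cfsg.SU (2 ^ (w + 1)) F q ↔ x.1ᵀ * x.1.map C.bar = 1 := fun x =>
    C.mem_gu_iff_mat (g := Matrix.SpecialLinearGroup.toGL x)
  refine central_quotient_pronormal (P.comap toG) (hP.good.isTwo.comap_of_injective toG hinj) ?_ hH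
  intro g hg
  obtain ⟨p, hp, c, hc⟩ := hN hw (toG g) fun x hx hd => by
    have hu := hP.uni x hx
    obtain ⟨y, rfl⟩ : ∃ y, x = toG y := ⟨⟨⟨_, hd⟩, (hmem _).2 hu⟩, Units.ext rfl⟩
    rw [← map_inv, ← map_mul, ← map_mul]
    exact (Subgroup.mem_normalizer_iff.1 hg y).1 hx
  show toG g ∈ P
  have hc0 : c ≠ 0 := by
    intro h
    haveI : Nonempty (Fin (2 ^ (w + 1))) := ⟨⟨0, by positivity⟩⟩
    have := g.1.det_coe
    rw [show g.1.1 = c • (p : Matrix _ _ F) from hc, h, zero_smul, Matrix.det_zero] at this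
    exact zero_ne_one this
  have hnorm : c * C.bar c = 1 := by
    have h1 := (hmem g.1).1 g.2
    rw [show g.1.1 = c • (p : Matrix _ _ F) from hc, Matrix.transpose_smul, Matrix.map_smul' _ _ _ (map_mul C.bar),
      smul_mul_smul_comm, hP.uni p hp] at h1
    have := congrFun (congrFun h1 ⟨0, by positivity⟩) ⟨0, by positivity⟩
    simpa using this
  obtain ⟨k, hk⟩ := hP.good.isTwo ⟨p, hp⟩
  have hk' : (p : Matrix (Fin (2 ^ (w + 1))) (Fin (2 ^ (w + 1))) F).det ^ 2 ^ k = 1 := by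
    rw [← Matrix.det_pow, ← Units.val_pow_eq_pow_val, show p ^ 2 ^ k = 1 from congrArg Subtype.val hk,
      Units.val_one, Matrix.det_one]
  have hdet : c ^ (2 ^ (w + 1)) * (p : Matrix (Fin (2 ^ (w + 1))) (Fin (2 ^ (w + 1))) F).det = 1 := by
    have h := g.1.det_coe
    rw [show g.1.1 = c • (p : Matrix _ _ F) from hc, Matrix.det_smul, Fintype.card_fin] at h
    exact h
  have hcpow : c ^ 2 ^ (w + 1 + k) = 1 := by
    have h := congrArg (· ^ 2 ^ k) hdet
    simp only [one_pow, mul_pow, hk', mul_one, ← pow_mul, ← pow_add] at h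
    exact h
  have hz : sc (Units.mk0 c hc0) ∈ P := hP.scal _ c (sc_val _) hnorm ⟨_, hcpow⟩
  rw [show toG g = sc (Units.mk0 c hc0) * p from Units.ext (by
    rw [Units.val_mul, hc, sc_val, Units.val_mk0, smul_mul_assoc, one_mul])]
  exact mul_mem hz hp

end CfsgLib.Pronormal.UnitaryTwoPower
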